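import Groth.Agent.FBlow.K788.Inv

/-!
# Locality of admissible blow-ups on the base
-/

set_option autoImplicit false

universe u

open CategoryTheory CategoryTheory.Limits TopologicalSpace Opposite AlgebraicGeometry

namespace K788.Crt

open FSch FBlow K788.Osh K788.IdSh K788.GenL K788.SysB K788.IdMap K788.Restr K788.Aff K788.Inv

variable {𝔛 𝔛' 𝔜 ℨ 𝔘 𝔚 𝔚' : FSch.Sys.{u}}

/-- Levelwise cartesian squares of systems. -/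
def Cart (j' : 𝔚' ⟶ 𝔛') (b' : 𝔚' ⟶ 𝔚) (b : 𝔛' ⟶ 𝔛) (j : 𝔚 ⟶ 𝔛) : Prop :=
  ∀ n, IsPullback ((j' : Hom 𝔚' 𝔛').app n) ((b' : Hom 𝔚' 𝔚).app n) ((b : Hom 𝔛' 𝔛).app n) ((j : Hom 𝔚 𝔛).app n)

theorem cart_pullback (b : 𝔛' ⟶ 𝔛) (j : 𝔚 ⟶ 𝔛) : Cart (pullbackFst b j) (pullbackSnd b j) b j := fun _ =>
  IsPullback.of_hasPullback _ _

variable {j' : 𝔚' ⟶ 𝔛'} {b' : 𝔚' ⟶ 𝔚} {b : 𝔛' ⟶ 𝔛} {j : 𝔚 ⟶ 𝔛}

theorem Cart.w (hC : Cart j' b' b j) : j' ≫ b = b' ≫ j := by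
  apply Hom.ext
  funext n
  exact (hC n).w

theorem Cart.flip (hC : Cart j' b' b j) : Cart b' j' j b := fun n => (hC n).flip

theorem Cart.exists_lift (hC : Cart j' b' b j) (k : 𝔜 ⟶ 𝔛') (g : 𝔜 ⟶ 𝔚) (e : k ≫ b = g ≫ j) :
    ∃ l : 𝔜 ⟶ 𝔚', l ≫ j' = k ∧ l ≫ b' = g := by
  have en : ∀ n, (k : Hom 𝔜 𝔛').app n ≫ (b : Hom 𝔛' 𝔛).app n = (g : Hom 𝔜 𝔚).app n ≫ (j : Hom 𝔚 𝔛).app n := fun n =>
    congrArg (fun t : Hom _ _ => t.app n) e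
  refine ⟨⟨fun n => (hC n).lift _ _ (en n), fun n => ?_⟩, ?_, ?_⟩
  · apply (hC (n + 1)).hom_ext
    · rw [Category.assoc, ← (j' : Hom 𝔚' 𝔛').comm n, IsPullback.lift_fst_assoc, Category.assoc, IsPullback.lift_fst,
        (k : Hom 𝔜 𝔛').comm n]
    · rw [Category.assoc, ← (b' : Hom 𝔚' 𝔚).comm n, IsPullback.lift_snd_assoc, Category.assoc, IsPullback.lift_snd,
        (g : Hom 𝔜 𝔚).comm n]
  · apply Hom.ext
    funext n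
    exact IsPullback.lift_fst _ _ _ _
  · apply Hom.ext
    funext n
    exact IsPullback.lift_snd _ _ _ _

theorem Cart.hom_ext (hC : Cart j' b' b j) {k₁ k₂ : 𝔜 ⟶ 𝔚'} (e₁ : k₁ ≫ j' = k₂ ≫ j') (e₂ : k₁ ≫ b' = k₂ ≫ b') :
    k₁ = k₂ := by
  apply Hom.ext
  funext n
  exact (hC n).hom_ext (congrArg (fun t : Hom _ _ => t.app n) e₁) (congrArg (fun t : Hom _ _ => t.app n) e₂)

theorem Cart.openImm (hC : Cart j' b' b j) (hj : OpenImm j) : OpenImm j' := fun n => by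
  have := hj n
  exact MorphismProperty.of_isPullback (P := @IsOpenImmersion) (hC n).flip this

theorem Cart.isAdicHom (hC : Cart j' b' b j) (hb : IsAdicHom b) : IsAdicHom b' := by
  intro n
  have h3 := (hC n).flip.paste_vert (hb n).flip
  refine IsPullback.of_bot (h₁₁ := (b' : Hom 𝔚' 𝔚).app n) (v₁₁ := 𝔚'.ι n) ?_ ?_ (hC (n + 1)).flip |>.flip
  · have e1 : 𝔚'.ι n ≫ (j' : Hom 𝔚' 𝔛').app (n + 1) = (j' : Hom 𝔚' 𝔛').app n ≫ 𝔛'.ι n := ((j' : Hom _ _).comm n).symm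
    have e2 : 𝔚.ι n ≫ (j : Hom 𝔚 𝔛).app (n + 1) = (j : Hom 𝔚 𝔛).app n ≫ 𝔛.ι n := ((j : Hom _ _).comm n).symm
    rw [e1, e2]
    exact h3
  · exact (b' : Hom 𝔚' 𝔚).comm n

theorem Cart.mem_rg_iff (hC : Cart j' b' b j) (hj : OpenImm j) (x : 𝔛'.X 0) :
    x ∈ rg j' (hC.openImm hj) ↔ ((b : Hom 𝔛' 𝔛).app 0) x ∈ rg j hj := by
  constructor
  · rintro ⟨y, rfl⟩
    refine ⟨((b' : Hom 𝔚' 𝔚).app 0) y, ?_⟩
    rw [← Scheme.Hom.comp_apply, ← Scheme.Hom.comp_apply, (hC 0).w]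
  · rintro ⟨y, hy⟩
    obtain ⟨z, hz, -⟩ := Scheme.Pullback.exists_preimage_pullback x y hy.symm
    refine ⟨(hC 0).isoPullback.inv z, ?_⟩
    rw [← Scheme.Hom.comp_apply, IsPullback.isoPullback_inv_fst, hz]

theorem IsAdmBlowUp.restrict {h' : 𝔛'.IsFormal} {h : 𝔛.IsFormal} {J : IdealSh (𝔛.Osh h)} (hb : IsAdmBlowUp b h' h J)
    (hC : Cart j' b' b j) (hj : OpenImm j) (h𝔚' : 𝔚'.IsFormal) (h𝔚 : 𝔚.IsFormal) :
    IsAdmBlowUp b' h𝔚' h𝔚 (idealMap j h𝔚 h J) := by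
  refine ⟨hC.isAdicHom hb.1, ?_, fun 𝔜 h𝔜 g hg hinv => ?_⟩
  · rw [← idealMap_comp, ← hC.w, idealMap_comp h𝔚' h' h]
    exact isInvertible_idealMap h𝔚' h' (hC.openImm hj) hb.2.1
  · rw [← idealMap_comp] at hinv
    obtain ⟨k, hk, huniq⟩ := hb.2.2 𝔜 h𝔜 (g ≫ j) (isAdicHom_comp hg (hj.isAdicHom h𝔚 h)) hinv
    obtain ⟨l, hl, hl'⟩ := hC.exists_lift k g hk
    refine ⟨l, hl', fun m hm => hC.hom_ext ?_ (hm.trans hl'.symm)⟩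
    rw [hl]
    have hm' : m ≫ b' = g := hm
    refine huniq _ (show (m ≫ j') ≫ b = g ≫ j from ?_)
    rw [Category.assoc, hC.w, ← Category.assoc, hm']

/-- Uniqueness of admissible blow-ups. -/
theorem IsAdmBlowUp.exists_iso {𝔛'' : FSch.Sys.{u}} {c : 𝔛'' ⟶ 𝔛} {h' : 𝔛'.IsFormal} {h'' : 𝔛''.IsFormal}
    {h : 𝔛.IsFormal} {J : IdealSh (𝔛.Osh h)} (hb : IsAdmBlowUp b h' h J) (hc : IsAdmBlowUp c h'' h J) :
    ∃ e : 𝔛' ≅ 𝔛'', e.hom ≫ c = b := by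
  obtain ⟨k, hk, -⟩ := hb.2.2 𝔛'' h'' c hc.1 hc.2.1
  obtain ⟨l, hl, -⟩ := hc.2.2 𝔛' h' b hb.1 hb.2.1
  obtain ⟨m, hm, hm'⟩ := hb.2.2 𝔛' h' b hb.1 hb.2.1
  obtain ⟨n, hn, hn'⟩ := hc.2.2 𝔛'' h'' c hc.1 hc.2.1
  refine ⟨⟨l, k, ?_, ?_⟩, hl⟩
  · rw [hm' (l ≫ k) (show (l ≫ k) ≫ b = b by rw [Category.assoc, hk, hl]), hm' (𝟙 _) (Category.id_comp _)]
  · rw [hn' (k ≫ l) (show (k ≫ l) ≫ c = c by rw [Category.assoc, hl, hk]), hn' (𝟙 _) (Category.id_comp _)]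

theorem openImm_of_isIso (j : 𝔚 ⟶ 𝔛) [IsIso j] : OpenImm j := fun n => by
  have : IsIso ((j : Hom 𝔚 𝔛).app n) :=
    ⟨((inv j : 𝔛 ⟶ 𝔚) : Hom 𝔛 𝔚).app n, congrArg (fun t : Hom _ _ => t.app n) (IsIso.hom_inv_id j),
      congrArg (fun t : Hom _ _ => t.app n) (IsIso.inv_hom_id j)⟩
  infer_instance

/-- Quasi-coherent ideal sheaves can be compared on an open cover. -/
theorem idealSheafData_ext_of_cover {X : Scheme.{u}} {K L : X.IdealSheafData}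
    (H : ∀ x : X, ∃ (W : Scheme.{u}) (f : W ⟶ X) (_ : IsOpenImmersion f), x ∈ Set.range f ∧ K.comap f = L.comap f) :
    K = L := by
  refine Groth.Agent.Divis.IdealComap.ext_of_forall_mem fun x => ?_
  obtain ⟨W, f, hf, ⟨w, rfl⟩, e⟩ := H x
  obtain ⟨V, hV, hwV, -⟩ := Opens.isBasis_iff_nbhd.mp W.isBasis_affineOpens (show w ∈ (⊤ : W.Opens) from trivial)
  refine ⟨⟨f ''ᵁ V, hV.image_of_isOpenImmersion f⟩, ⟨w, hwV, rfl⟩, ?_⟩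
  have h1 := Scheme.IdealSheafData.ideal_comap_of_isOpenImmersion K f ⟨V, hV⟩
  have h2 := Scheme.IdealSheafData.ideal_comap_of_isOpenImmersion L f ⟨V, hV⟩
  rw [e, h2] at h1
  exact (Ideal.comap_injective_of_surjective _ (ConcreteCategory.bijective_of_isIso (f.appIso V).inv).2 h1).symm

/-- Being an admissible blow-up is local on the base. -/
theorem isAdmBlowUp_of_cover {h' : 𝔛'.IsFormal} {h : 𝔛.IsFormal} {b : 𝔛' ⟶ 𝔛} {J : IdealSh (𝔛.Osh h)}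
    (H : ∀ x : 𝔛.X 0, ∃ (𝔚 𝔚' : FSch.Sys.{u}) (h𝔚 : 𝔚.IsFormal) (h𝔚' : 𝔚'.IsFormal) (j : 𝔚 ⟶ 𝔛) (hj : OpenImm j)
      (j' : 𝔚' ⟶ 𝔛') (b' : 𝔚' ⟶ 𝔚), x ∈ rg j hj ∧ Cart j' b' b j ∧ IsAdmBlowUp b' h𝔚' h𝔚 (idealMap j h𝔚 h J)) :
    IsAdmBlowUp b h' h J := by
  refine ⟨fun n => ?_, ?_, fun 𝔜 h𝔜 g hg hinv => ?_⟩
  · have := (h n).1
    have := (h' n).1
    refine isPullback_of_isClosedImmersion _ _ _ _ ((b : Hom 𝔛' 𝔛).comm n).symm ?_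
    refine idealSheafData_ext_of_cover fun x => ?_
    obtain ⟨𝔚, 𝔚', h𝔚, h𝔚', j, hj, j', b', hx, hC, hb'⟩ := H (((b : Hom 𝔛' 𝔛).app 0) (𝔛'.gInv h' (n + 1) x))
    have hj' := hC.openImm hj
    refine ⟨𝔚'.X (n + 1), (j' : Hom 𝔚' 𝔛').app (n + 1), hj' (n + 1),
      (mem_range_app_iff h𝔚' h' j' (n + 1) x).2 ((hC.mem_rg_iff hj _).2 hx), ?_⟩
    have := (h𝔚 n).1
    have e1 : (𝔛'.ι n).ker.comap ((j' : Hom 𝔚' 𝔛').app (n + 1)) = (𝔚'.ι n).ker :=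
      (ker_of_isPullback (hj'.isAdicHom h𝔚' h' n)).symm
    have e2 : (𝔛.ι n).ker.comap ((j : Hom 𝔚 𝔛).app (n + 1)) = (𝔚.ι n).ker :=
      (ker_of_isPullback (hj.isAdicHom h𝔚 h n)).symm
    have e3 : (𝔚.ι n).ker.comap ((b' : Hom 𝔚' 𝔚).app (n + 1)) = (𝔚'.ι n).ker :=
      (ker_of_isPullback (hb'.1 n)).symm
    rw [e1, ← Scheme.IdealSheafData.comap_comp, (hC (n + 1)).w, Scheme.IdealSheafData.comap_comp, e2, e3]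
  · refine isInvertible_of_cover h' fun x' => ?_
    obtain ⟨𝔚, 𝔚', h𝔚, h𝔚', j, hj, j', b', hx, hC, hb'⟩ := H (((b : Hom 𝔛' 𝔛).app 0) x')
    refine ⟨𝔚', h𝔚', j', hC.openImm hj, (hC.mem_rg_iff hj _).2 hx, ?_⟩
    rw [← idealMap_comp, hC.w, idealMap_comp h𝔚' h𝔚 h]
    exact hb'.2.1
  · refine existsUnique_lift_sys h𝔜 b g (fun 𝔙 h𝔙 j₁ hj₁ k₁ k₂ e₁ e₂ => ?_) fun y => ?_
    · refine hom_ext_local h𝔙 k₁ k₂ fun v => ?_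
      obtain ⟨𝔚, 𝔚', h𝔚, h𝔚', j, hj, j', b', hx, hC, hb'⟩ := H (((j₁ ≫ g : 𝔙 ⟶ 𝔛) : Hom 𝔙 𝔛).app 0 v)
      have hF : (pullbackSys (j₁ ≫ g) j).IsFormal :=
        isFormal_of_isAdicHom (isAdicHom_pullbackFst (j₁ ≫ g) (hj.isAdicHom h𝔚 h)) h𝔙
      refine ⟨_, hF, pullbackFst (j₁ ≫ g) j, openImm_pullbackFst _ hj, (mem_rg_pullbackFst _ hj).2 hx, ?_⟩
      have hw := pullbackSys_condition' (j₁ ≫ g) j
      obtain ⟨l₁, hl₁, hl₁'⟩ := hC.exists_lift (pullbackFst (j₁ ≫ g) j ≫ k₁) (pullbackSnd (j₁ ≫ g) j)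
        (by rw [Category.assoc, e₁, hw])
      obtain ⟨l₂, hl₂, hl₂'⟩ := hC.exists_lift (pullbackFst (j₁ ≫ g) j ≫ k₂) (pullbackSnd (j₁ ≫ g) j)
        (by rw [Category.assoc, e₂, hw])
      have hadic : IsAdicHom (pullbackSnd (j₁ ≫ g) j) :=
        isAdicHom_pullbackSnd (isAdicHom_comp (hj₁.isAdicHom h𝔙 h𝔜) hg) j
      have hi : (idealMap (pullbackSnd (j₁ ≫ g) j) hF h𝔚 (idealMap j h𝔚 h J)).IsInvertible := by
        rw [← idealMap_comp, ← hw, idealMap_comp hF h𝔙 h]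
        refine isInvertible_idealMap hF h𝔙 (openImm_pullbackFst _ hj) ?_
        rw [idealMap_comp h𝔙 h𝔜 h]
        exact isInvertible_idealMap h𝔙 h𝔜 hj₁ hinv
      rw [← hl₁, ← hl₂, (hb'.2.2 _ hF _ hadic hi).unique hl₁' hl₂']
    · obtain ⟨𝔚, 𝔚', h𝔚, h𝔚', j, hj, j', b', hx, hC, hb'⟩ := H (((g : 𝔜 ⟶ 𝔛) : Hom 𝔜 𝔛).app 0 y)
      have hF : (pullbackSys g j).IsFormal :=
        isFormal_of_isAdicHom (isAdicHom_pullbackFst g (hj.isAdicHom h𝔚 h)) h𝔜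
      refine ⟨_, hF, pullbackFst g j, openImm_pullbackFst _ hj, (mem_rg_pullbackFst _ hj).2 hx, ?_⟩
      have hw := pullbackSys_condition' g j
      have hadic : IsAdicHom (pullbackSnd g j) := isAdicHom_pullbackSnd hg j
      have hi : (idealMap (pullbackSnd g j) hF h𝔚 (idealMap j h𝔚 h J)).IsInvertible := by
        rw [← idealMap_comp, ← hw, idealMap_comp hF h𝔜 h]
        exact isInvertible_idealMap hF h𝔜 (openImm_pullbackFst _ hj) hinv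
      obtain ⟨l, hl, -⟩ := hb'.2.2 _ hF _ hadic hi
      exact ⟨l ≫ j', by rw [Category.assoc, hC.w, ← Category.assoc, hl, hw]⟩

end K788.Crt
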