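import Groth.Agent.FBlow.K788.MapC

/-!
# Pulling back ideals of level `n` along adic morphisms; products
-/

set_option autoImplicit false
set_option linter.unusedVariables false

universe u

open CategoryTheory CategoryTheory.Limits TopologicalSpace Opposite AlgebraicGeometry

namespace K788.AMap

open FSch FBlow K788.Osh K788.IdSh K788.GenL K788.SysB K788.IdMap K788.Restr K788.Aff K788.AffSch K788.UP K788.Inv K788.SpfB
open K788.AffStr K788.Crt K788.AffV K788.CohL K788.ARed K788.LocB K788.LocC K788.Glob K788.CohC K788.LNoeth K788.Lev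
open K788.MapC Groth.Agent.Divis.BlowChart Groth.Agent.Divis.IdealFT Groth.Agent.Fcompl.H552.IdealSpec

variable {𝔛 𝔛' 𝔜 ℨ 𝔘 𝔚 : FSch.Sys.{u}} {R : Type u} [CommRing R] {I : Ideal R}
  {w : ∀ n, 𝔛.X n ⟶ Spec (CommRingCat.of R)}

theorem comap_idealSpec {A B : Type u} [CommRing A] [CommRing B] (φ : A →+* B) (𝔞 : Ideal A) {X : Scheme.{u}}
    (p : X ⟶ Spec (CommRingCat.of B)) :
    (idealSpec A 𝔞).comap (p ≫ Spec.map (CommRingCat.ofHom φ)) = (idealSpec B (𝔞.map φ)).comap p := by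
  ext1
  funext V
  rw [idealSpec_eq_idl, idealSpec_eq_idl, comap_idl_ideal, comap_idl_ideal, glob_map, Ideal.map_map]
  rfl

theorem idealMap_ofLevel_aff (hI : I.FG) (h : 𝔛.IsFormal) (hw : AdicOver 𝔛 I w) (h' : 𝔛'.IsFormal) {f : 𝔛' ⟶ 𝔛}
    (hf : IsAdicHom f) [IsAffine (𝔛.X 0)] [IsAffine (𝔛'.X 0)] {m : ℕ} {𝒦 : (𝔛.X m).IdealSheafData} (h𝒦 : IdealFT 𝒦) :
    idealMap f h' h (ofLevel 𝔛 h m 𝒦) = ofLevel 𝔛' h' m (𝒦.comap ((f : Hom 𝔛' 𝔛).app m)) := by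
  obtain ⟨h1, h2, h3⟩ := coh_affine h hI hw h𝒦 (J := ofLevel 𝔛 h m 𝒦) fun _ => rfl
  set 𝔠 : Ideal (GS h) := (ofLevel 𝔛 h m 𝒦).sect ⊤ with h𝔠
  have hw' := hw.comp h hf
  have e1 : (I.map (sg h' (fun n => (f : Hom 𝔛' 𝔛).app n ≫ w n) hw'.compat)) ^ (m + 1) ≤ 𝔠.map (gsMap h' h f) := by
    have h4 := Ideal.map_mono (f := gsMap h' h f) h3
    rw [Ideal.map_pow, Ideal.map_map] at h4
    have h5 : sg h' (fun n => (f : Hom 𝔛' 𝔛).app n ≫ w n) hw'.compat = (gsMap h' h f).comp (sg h w hw.compat) :=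
      sg_comp h' h f _ _ _ _ fun n => rfl
    rw [h5]
    exact h4
  have e2 : 𝒦 = (idealSpec (GS h) 𝔠).comap (kap h m) := by
    refine ofLevel_injective h hI hw (h1.trans ?_)
    exact IdealSh.ext (funext fun V => sect_gn_eq_ofLevel h hI hw h3 V)
  rw [h1, idealMap_gn]
  refine (IdealSh.ext (funext fun V => sect_gn_eq_ofLevel h' hI hw' e1 V)).trans ?_
  congr 1
  rw [e2, ← Scheme.IdealSheafData.comap_comp, ← kap_gsMap h' h f m, comap_idealSpec]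

/-- Pulling back ideals of a level along adic morphisms. -/
theorem idealMap_ofLevel_adic (hI : I.FG) (h : 𝔛.IsFormal) (hw : AdicOver 𝔛 I w) (h' : 𝔛'.IsFormal) {f : 𝔛' ⟶ 𝔛}
    (hf : IsAdicHom f) {m : ℕ} {𝒦 : (𝔛.X m).IdealSheafData} (h𝒦 : IdealFT 𝒦) :
    idealMap f h' h (ofLevel 𝔛 h m 𝒦) = ofLevel 𝔛' h' m (𝒦.comap ((f : Hom 𝔛' 𝔛).app m)) := by
  refine eq_of_cover h' fun x' => ?_
  obtain ⟨V, hV, hxV, -⟩ := exists_affine_nhd (((f : Hom 𝔛' 𝔛).app 0) x') ⊤ trivial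
  obtain ⟨V', hV', hxV', hle⟩ := exists_affine_nhd x' (pre f V) hxV
  have hF := isFormal_restrictOpen h V
  have hj : OpenImm (𝔛.restrictOpenι h V) := openImm_restrictOpenι h V
  have hrg : rg (𝔛.restrictOpenι h V) hj = V := rg_restrictOpenι h V
  have := isAffine_restrictOpen h hV
  have hF' := isFormal_restrictOpen h' V'
  have hj' : OpenImm (𝔛'.restrictOpenι h' V') := openImm_restrictOpenι h' V'
  have hrg' : rg (𝔛'.restrictOpenι h' V') hj' = V' := rg_restrictOpenι h' V'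
  have := isAffine_restrictOpen h' hV'
  obtain ⟨k, hk⟩ := hj.exists_lift hF' (𝔛'.restrictOpenι h' V' ≫ f) fun z => by
    have h1 : ((𝔛'.restrictOpenι h' V' : Hom _ 𝔛').app 0) z ∈ V' := hrg'.le ⟨z, rfl⟩
    exact hrg.ge (hle h1)
  have hka : IsAdicHom k := isAdicHom_of_comp (hj.isAdicHom hF h) (by
    rw [hk]
    exact isAdicHom_comp (hj'.isAdicHom hF' h') hf)
  refine ⟨_, hF', 𝔛'.restrictOpenι h' V', hj', hrg'.ge hxV', ?_⟩
  rw [idealMap_ofLevel hF' h' hj', ← idealMap_comp, ← hk, idealMap_comp hF' hF h, idealMap_ofLevel hF h hj,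
    idealMap_ofLevel_aff hI hF (hw.comp h (hj.isAdicHom hF h)) hF' hka (isFT_comap h𝒦 _)]
  congr 1
  have e : (k : Hom _ _).app m ≫ (𝔛.restrictOpenι h V : Hom _ 𝔛).app m =
      (𝔛'.restrictOpenι h' V' : Hom _ 𝔛').app m ≫ (f : Hom 𝔛' 𝔛).app m := congrArg (fun t : Hom _ _ => t.app m) hk
  rw [← Scheme.IdealSheafData.comap_comp, ← Scheme.IdealSheafData.comap_comp, e]

theorem memData_appLE_iff {X Y : Scheme.{u}} (f : X ⟶ Y) (𝒜 : X.IdealSheafData) {U : Y.Opens} {V : X.Opens}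
    (e' : V = f ⁻¹ᵁ U) (e : V ≤ f ⁻¹ᵁ U) (s : Γ(Y, U)) :
    MemData 𝒜 V (f.appLE U V e s) ↔ MemData 𝒜 (f ⁻¹ᵁ U) (f.app U s) := by
  subst e'
  rw [Scheme.Hom.app_eq_appLE]

/-- Raising the level. -/
theorem ofLevel_succ (h : 𝔛.IsFormal) {n : ℕ} (𝒜 : (𝔛.X n).IdealSheafData) :
    ofLevel 𝔛 h n 𝒜 = ofLevel 𝔛 h (n + 1) (𝒜.map (𝔛.ι n)) := by
  have := (h n).1
  refine IdealSh.ext (funext fun V => ?_)
  ext s
  refine (mem_ofLevel h n 𝒜).trans (Iff.trans ?_ (mem_ofLevel h (n + 1) _).symm)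
  rw [memData_map_iff, ← tr_pr]
  refine memData_appLE_iff (𝔛.ι n) 𝒜 ?_ _ _
  ext x
  change 𝔛.gInv h n x ∈ V ↔ 𝔛.gInv h (n + 1) (𝔛.ι n x) ∈ V
  rw [gInv_ι]

theorem memData_mul {X : Scheme.{u}} {K L : X.IdealSheafData} {U : X.Opens} {a b : Γ(X, U)} (ha : MemData K U a)
    (hb : MemData L U b) : MemData (K * L) U (a * b) := by
  intro x hx
  obtain ⟨V, hV, hxV, hle⟩ := Opens.isBasis_iff_nbhd.mp X.isBasis_affineOpens hx
  refine ⟨⟨V, hV⟩, hle, hxV, ?_⟩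
  rw [map_mul, Scheme.IdealSheafData.ideal_mul]
  exact Ideal.mul_mem_mul (memData_le K ha ⟨V, hV⟩ hle) (memData_le L hb ⟨V, hV⟩ hle)

/-- Products on a level. -/
theorem ofLevel_mul (h : 𝔛.IsFormal) (hI : I.FG) (hw : AdicOver 𝔛 I w) {m : ℕ} {𝒵 𝒵₁ 𝒵₂ : (𝔛.X m).IdealSheafData}
    (e : IdealSh.mul (ofLevel 𝔛 h m 𝒵₁) (ofLevel 𝔛 h m 𝒵₂) = ofLevel 𝔛 h m 𝒵) : 𝒵 = 𝒵₁ * 𝒵₂ := by
  refine ofLevel_injective h hI hw (le_antisymm' ?_ ?_)
  · rw [← e, mul_le_iff]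
    intro U a ha b hb
    refine (mem_ofLevel h m _).2 ?_
    rw [map_mul]
    exact memData_mul ((mem_ofLevel h m _).1 ha) ((mem_ofLevel h m _).1 hb)
  · intro V s hs
    refine IdealSh.mem_of_local _ fun x hx => ?_
    obtain ⟨V', hV', hxV', hle⟩ := exists_affine_nhd x V hx
    refine ⟨V', hle, hxV', ?_⟩
    change rs (𝔛.Osh h) hle s ∈ _
    obtain ⟨h3, -⟩ := pr_affineOpen h hI hw hV' m
    have h1 := rs_mem (ofLevel 𝔛 h m (𝒵₁ * 𝒵₂)) hle hs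
    have h2 := (memData_affine _ ⟨𝔛.lvU h m V', isAffineOpen_lvU h hV' m⟩ _).1 ((mem_ofLevel h m _).1 h1)
    rw [Scheme.IdealSheafData.ideal_mul] at h2
    have h4 : (𝒵₁.ideal ⟨𝔛.lvU h m V', isAffineOpen_lvU h hV' m⟩ * 𝒵₂.ideal ⟨𝔛.lvU h m V', isAffineOpen_lvU h hV' m⟩) ≤
        ((ofLevel 𝔛 h m 𝒵).sect V').map (pr 𝔛 h m V') := by
      refine Ideal.mul_le.2 fun a ha b hb => ?_
      obtain ⟨a, rfl⟩ := h3 a
      obtain ⟨b, rfl⟩ := h3 b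
      rw [← map_mul]
      refine Ideal.mem_map_of_mem _ ?_
      rw [← e]
      exact mul_mem_mul ((mem_ofLevel h m _).2 ((memData_affine _ ⟨𝔛.lvU h m V', isAffineOpen_lvU h hV' m⟩ _).2 ha))
        ((mem_ofLevel h m _).2 ((memData_affine _ ⟨𝔛.lvU h m V', isAffineOpen_lvU h hV' m⟩ _).2 hb))
    have h5 := h4 h2
    obtain ⟨t, ht, hts⟩ := (Ideal.mem_map_iff_of_surjective _ h3).1 h5
    refine (mem_ofLevel h m _).2 ?_
    rw [← hts]
    exact (mem_ofLevel h m _).1 ht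

end K788.AMap
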