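import Mathlib.RingTheory.Filtration
import Mathlib.RingTheory.Localization.Away.Basic
import Mathlib.RingTheory.Localization.Ideal

/-!
# Elements with an Artin-Rees property
-/

set_option autoImplicit false

universe u

namespace K788.ARed

variable {B : Type*} [CommRing B]

/-- `a x ∈ I ^ m` implies `x ∈ I ^ n` for `m` large with respect to `n`, uniformly in `x`. -/
def AR (I : Ideal B) (a : B) : Prop := ∀ n, ∃ m, n ≤ m ∧ ∀ x, a * x ∈ I ^ m → x ∈ I ^ n

theorem AR.of_noeth [IsNoetherianRing B] (I : Ideal B) {a : B} (ha : a ∈ nonZeroDivisors B) : AR I a := by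
  intro n
  obtain ⟨k, hk⟩ := Ideal.exists_pow_inf_eq_pow_smul (M := B) I (Ideal.span {a})
  refine ⟨n + k, Nat.le_add_right _ _, fun x hx => ?_⟩
  have h1 : a * x ∈ (I ^ (n + k) • ⊤ ⊓ Ideal.span {a} : Submodule B B) := by
    refine ⟨?_, Ideal.mul_mem_right _ _ (Ideal.mem_span_singleton_self a)⟩
    rw [Ideal.smul_eq_mul, Ideal.mul_top]
    exact hx
  rw [hk (n + k) (Nat.le_add_left _ _), Nat.add_sub_cancel] at h1
  have h2 : a * x ∈ I ^ n * Ideal.span {a} := by
    exact (Submodule.smul_mono (le_refl (I ^ n)) inf_le_right) h1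
  obtain ⟨y, hy, e⟩ := Ideal.mem_mul_span_singleton.1 h2
  have : x = y := by
    rw [mem_nonZeroDivisors_iff_right] at ha
    rw [← sub_eq_zero]
    apply ha
    rw [sub_mul, e]
    ring
  rw [this]
  exact hy

theorem AR.of_span {t : B} (ht : t ∈ nonZeroDivisors B) {a : B} {k : ℕ} (hk : t ^ k ∈ Ideal.span {a}) :
    AR (Ideal.span {t}) a := by
  intro n
  refine ⟨n + k, Nat.le_add_right _ _, fun x hx => ?_⟩
  obtain ⟨b, hb⟩ := Ideal.mem_span_singleton.1 hk
  rw [Ideal.span_singleton_pow, Ideal.mem_span_singleton] at hx ⊢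
  obtain ⟨c, hc⟩ := hx
  refine ⟨b * c, ?_⟩
  have h1 : t ^ k * x = t ^ k * (t ^ n * (b * c)) := by
    calc t ^ k * x = b * (a * x) := by rw [hb]; ring
      _ = _ := by rw [hc, pow_add]; ring
  have h2 := (pow_mem ht k : t ^ k ∈ nonZeroDivisors B)
  exact (mul_cancel_left_mem_nonZeroDivisors h2).1 h1

theorem AR.localization {I : Ideal B} {a : B} (h : AR I a) (f : B) (L : Type*) [CommRing L] [Algebra B L]
    [IsLocalization.Away f L] : AR (I.map (algebraMap B L)) (algebraMap B L a) := by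
  intro n
  obtain ⟨m, hnm, hm⟩ := h n
  refine ⟨m, hnm, fun x hx => ?_⟩
  obtain ⟨⟨b, s⟩, hb⟩ := IsLocalization.surj (Submonoid.powers f) x
  rw [← Ideal.map_pow] at hx ⊢
  have h1 : algebraMap B L (a * b) ∈ (I ^ m).map (algebraMap B L) := by
    rw [map_mul]
    have : algebraMap B L a * algebraMap B L b = (algebraMap B L a * x) * algebraMap B L s := by
      rw [mul_assoc]
      exact congrArg _ hb.symm
    rw [this]
    exact Ideal.mul_mem_right _ _ hx
  obtain ⟨s', hs', h2⟩ := (IsLocalization.algebraMap_mem_map_algebraMap_iff (Submonoid.powers f) L _ _).1 h1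
  have h3 : s' * b ∈ I ^ n := by
    apply hm
    rw [mul_left_comm]
    exact h2
  have h4 := Ideal.mem_map_of_mem (algebraMap B L) h3
  have hu1 : IsUnit (algebraMap B L s') := IsLocalization.map_units L (⟨s', hs'⟩ : Submonoid.powers f)
  have hu2 : IsUnit (algebraMap B L s) := IsLocalization.map_units L s
  rw [map_mul] at h4
  rw [← Ideal.unit_mul_mem_iff_mem _ hu2, mul_comm]
  have h5 := (Ideal.unit_mul_mem_iff_mem _ hu1).1 h4
  have h6 : x * algebraMap B L s = algebraMap B L b := hb
  rw [h6]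
  exact h5

end K788.ARed
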