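import Groth.Agent.FBlow.K788.Restr
import Groth.Agent.Divis.BlowChart

/-!
# Compatible families of maps from a formal system to an affine scheme
-/

set_option autoImplicit false

universe u

open CategoryTheory CategoryTheory.Limits TopologicalSpace Opposite AlgebraicGeometry

namespace K788.Aff

open FSch FBlow K788.Osh K788.IdSh K788.GenL K788.SysB K788.IdMap K788.Restr Groth.Agent.Divis.BlowChart

variable {𝔛 𝔜 ℨ 𝔘 : FSch.Sys.{u}}

/-- Morphisms of systems can be compared locally on the source. -/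
theorem hom_ext_local (h𝔜 : 𝔜.IsFormal) (k₁ k₂ : 𝔜 ⟶ ℨ)
    (H : ∀ y : 𝔜.X 0, ∃ (𝔚 : FSch.Sys.{u}) (_ : 𝔚.IsFormal) (j : 𝔚 ⟶ 𝔜) (hj : OpenImm j), y ∈ rg j hj ∧
      j ≫ k₁ = j ≫ k₂) : k₁ = k₂ := by
  choose 𝔚 h𝔚 j hj hy e using H
  apply Hom.ext
  funext n
  let 𝒰 : (𝔜.X n).OpenCover := {
    I₀ := 𝔜.X 0, X i := (𝔚 i).X n, f i := (j i : Hom _ _).app n,
    mem₀ := by
      rw [Scheme.presieve₀_mem_precoverage_iff]
      exact ⟨fun x ↦ ⟨𝔜.gInv h𝔜 n x, (mem_range_app_iff (h𝔚 _) h𝔜 (j _) n x).2 (hy _)⟩, fun i => hj i n⟩ }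
  exact 𝒰.hom_ext _ _ fun i => congrArg (fun t : Hom _ _ => t.app n) (e i)

section Global

variable (h : 𝔛.IsFormal)

/-- Global sections of the structure sheaf. -/
abbrev GS : Type u := Sec 𝔛 h ⊤

/-- The projection to global sections of the levels. -/
noncomputable def prT (n : ℕ) : GS h →+* Γ(𝔛.X n, ⊤) := pr 𝔛 h n ⊤

theorem appTop_prT (n : ℕ) (s : GS h) : (𝔛.ι n).appTop (prT h (n + 1) s) = prT h n s := by
  have := tr_pr h n ⊤ s
  rw [tr] at this
  refine Eq.trans ?_ this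
  have e : (𝔛.ι n).appTop = (𝔛.ι n).appLE (𝔛.lvU h (n + 1) ⊤) (𝔛.lvU h n ⊤) (𝔛.lvU_le h n ⊤) :=
    Scheme.Hom.app_eq_appLE _
  rw [e]
  rfl

/-- The canonical map from level `n` to the spectrum of the ring of global sections. -/
noncomputable def kap (n : ℕ) : 𝔛.X n ⟶ Spec (CommRingCat.of (GS h)) :=
  (𝔛.X n).toSpecΓ ≫ Spec.map (CommRingCat.ofHom (prT h n))

theorem glob_kap (n : ℕ) : glob (kap h n) = prT h n := glob_toSpecΓ_map _

theorem ι_kap (n : ℕ) : 𝔛.ι n ≫ kap h (n + 1) = kap h n := by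
  apply hom_ext_glob
  rw [glob_comp, glob_kap, glob_kap]
  ext s
  exact appTop_prT h n s

/-- A compatible family of maps to an affine scheme comes from a ring map to the global sections. -/
theorem exists_ringHom {B : Type u} [CommRing B] (m : ∀ n, 𝔛.X n ⟶ Spec (CommRingCat.of B))
    (hm : ∀ n, 𝔛.ι n ≫ m (n + 1) = m n) :
    ∃ β : B →+* GS h, ∀ n, kap h n ≫ Spec.map (CommRingCat.ofHom β) = m n := by
  have hc : ∀ (b : B) (n : ℕ), tr 𝔛 h n ⊤ (glob (m (n + 1)) b) = glob (m n) b := by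
    intro b n
    rw [← hm n, glob_comp]
    rw [tr]
    have e : (𝔛.ι n).appTop = (𝔛.ι n).appLE (𝔛.lvU h (n + 1) ⊤) (𝔛.lvU h n ⊤) (𝔛.lvU_le h n ⊤) :=
      Scheme.Hom.app_eq_appLE _
    rw [e]
    rfl
  choose s hs using fun b => exists_sec h ⊤ (fun n => glob (m n) b) (hc b)
  let β : B →+* GS h :=
    { toFun := s
      map_one' := sec_ext h fun n => by rw [hs, map_one, map_one]; rfl
      map_mul' := fun a b => sec_ext h fun n => by rw [hs, map_mul, map_mul, hs, hs]; rfl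
      map_zero' := sec_ext h fun n => by rw [hs, map_zero, map_zero]; rfl
      map_add' := fun a b => sec_ext h fun n => by rw [hs, map_add, map_add, hs, hs]; rfl }
  refine ⟨β, fun n => hom_ext_glob ?_⟩
  rw [glob_map, glob_kap]
  ext b
  exact hs b n

theorem ringHom_ext {B : Type u} [CommRing B] {β₁ β₂ : B →+* GS h}
    (e : ∀ n, kap h n ≫ Spec.map (CommRingCat.ofHom β₁) = kap h n ≫ Spec.map (CommRingCat.ofHom β₂)) : β₁ = β₂ := by
  ext b
  refine sec_ext h fun n => ?_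
  have := congrArg glob (e n)
  rw [glob_map, glob_map, glob_kap] at this
  exact congrArg (fun t : B →+* _ => t b) this

/-- The ring map to global sections of a compatible family of maps to an affine scheme. -/
noncomputable def sg {B : Type u} [CommRing B] (m : ∀ n, 𝔛.X n ⟶ Spec (CommRingCat.of B))
    (hm : ∀ n, 𝔛.ι n ≫ m (n + 1) = m n) : B →+* GS h := (exists_ringHom h m hm).choose

theorem kap_sg {B : Type u} [CommRing B] (m : ∀ n, 𝔛.X n ⟶ Spec (CommRingCat.of B))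
    (hm : ∀ n, 𝔛.ι n ≫ m (n + 1) = m n) (n : ℕ) : kap h n ≫ Spec.map (CommRingCat.ofHom (sg h m hm)) = m n :=
  (exists_ringHom h m hm).choose_spec n

theorem prT_sg {B : Type u} [CommRing B] (m : ∀ n, 𝔛.X n ⟶ Spec (CommRingCat.of B))
    (hm : ∀ n, 𝔛.ι n ≫ m (n + 1) = m n) (n : ℕ) (b : B) : prT h n (sg h m hm b) = glob (m n) b := by
  have := congrArg glob (kap_sg h m hm n)
  rw [glob_map, glob_kap] at this
  exact congrArg (fun t : B →+* _ => t b) this

end Global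

section Gn

variable {T : TopCat.{u}} {O : Sheaf (Opens.grothendieckTopology T) CommRingCat.{u}}

/-- The ideal sheaf generated by an ideal of global sections. -/
noncomputable def gn (𝔟 : Ideal (O.obj.obj (op ⊤))) : IdealSh O :=
  IdealSh.gen fun V => (𝔟.map (rs O (le_top : V ≤ ⊤)) : Set (O.obj.obj (op V)))

theorem mem_gn {𝔟 : Ideal (O.obj.obj (op ⊤))} {U : Opens T} {s : O.obj.obj (op U)} :
    s ∈ (gn 𝔟).sect U ↔ ∀ x ∈ U, ∃ (V : Opens T) (i : V ≤ U), x ∈ V ∧ rs O i s ∈ 𝔟.map (rs O (le_top : V ≤ ⊤)) := by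
  rw [gn, IdealSh.mem_gen_iff]
  refine forall_congr' fun x => forall_congr' fun hx => exists_congr fun V => exists_congr fun i =>
    and_congr_right fun _ => ?_
  have : Ideal.span (IdealSh.seed (O := O) (fun V => (𝔟.map (rs O (le_top : V ≤ ⊤)) : Set (O.obj.obj (op V)))) V) =
      𝔟.map (rs O (le_top : V ≤ ⊤)) := by
    apply le_antisymm
    · rw [Ideal.span_le]
      rintro _ ⟨W, j, a, ha, rfl⟩
      change rs O j a ∈ _
      have h1 := Ideal.mem_map_of_mem (rs O j) ha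
      rw [Ideal.map_map] at h1
      have e : (rs O j).comp (rs O (le_top : W ≤ ⊤)) = rs O (le_top : V ≤ ⊤) := by
        ext t
        exact rs_rs _ _ _
      rw [e] at h1
      exact h1
    · intro a ha
      exact Ideal.subset_span ⟨V, le_rfl, a, ha, (rs_self (O := O) le_rfl a).symm⟩
  rw [← this]
  rfl

theorem map_le_gn (𝔟 : Ideal (O.obj.obj (op ⊤))) (V : Opens T) :
    𝔟.map (rs O (le_top : V ≤ ⊤)) ≤ (gn 𝔟).sect V := fun _ hs => IdealSh.subset_gen _ _ hs

theorem gn_le_iff {𝔟 : Ideal (O.obj.obj (op ⊤))} {K : IdealSh O} : gn 𝔟 ≤ K ↔ 𝔟 ≤ K.sect ⊤ := by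
  constructor
  · intro h s hs
    refine h ⊤ (map_le_gn 𝔟 ⊤ ?_)
    have := Ideal.mem_map_of_mem (rs O (le_top : (⊤ : Opens T) ≤ ⊤)) hs
    rwa [rs_self] at this
  · intro h
    refine IdealSh.gen_le fun W => ?_
    change 𝔟.map (rs O (le_top : W ≤ ⊤)) ≤ K.sect W
    rw [Ideal.map_le_iff_le_comap]
    exact fun s hs => rs_mem K _ (h hs)

theorem mem_gn_top {𝔟 : Ideal (O.obj.obj (op ⊤))} {s : O.obj.obj (op ⊤)} (hs : s ∈ 𝔟) : s ∈ (gn 𝔟).sect ⊤ :=
  gn_le_iff.1 (le_rfl' _) hs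

/-- Local generators of an invertible ideal sheaf generated by global sections. -/
theorem exists_span_of_isInvertible {𝔟 : Ideal (O.obj.obj (op ⊤))} (h : (gn 𝔟).IsInvertible) (x : T) :
    ∃ (V : Opens T) (_ : x ∈ V) (a : O.obj.obj (op V)), Nzd O V a ∧ 𝔟.map (rs O (le_top : V ≤ ⊤)) = Ideal.span {a} := by
  rw [isInvertible_iff] at h
  obtain ⟨U, hxU, a, ha⟩ := h x
  obtain ⟨V, i, hxV, hV⟩ := mem_gn.1 ha.mem x hxU
  refine ⟨V, hxV, rs O i a, ha.nzd.res i, le_antisymm ?_ ?_⟩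
  · intro s hs
    obtain ⟨t, rfl⟩ := ha.gen V i s (map_le_gn 𝔟 V hs)
    exact Ideal.mul_mem_left _ _ (Ideal.mem_span_singleton_self _)
  · rw [Ideal.span_le, Set.singleton_subset_iff]
    exact hV

end Gn

end K788.Aff
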