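import Groth.Agent.FBlow.K788.Aff
import Groth.Agent.Fcompl.H552.IdealSpec

/-!
# Ideals generated by global sections and by ideals of affine schemes
-/

set_option autoImplicit false

universe u

open CategoryTheory CategoryTheory.Limits TopologicalSpace Opposite AlgebraicGeometry

namespace K788.AffSch

open FSch FBlow K788.Osh K788.IdSh K788.GenL K788.SysB K788.IdMap K788.Restr K788.Aff Groth.Agent.Divis.BlowChart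
open Groth.Agent.Fcompl.H552.IdealSpec

variable {𝔛 𝔜 ℨ 𝔘 : FSch.Sys.{u}}

section Gn

variable {T T' : TopCat.{u}} {O : Sheaf (Opens.grothendieckTopology T) CommRingCat.{u}}
  {O' : Sheaf (Opens.grothendieckTopology T') CommRingCat.{u}} (g : T' ⟶ T)
  (φ : O ⟶ (TopCat.Sheaf.pushforward CommRingCat.{u} g).obj O')

theorem map_gn (𝔟 : Ideal (O.obj.obj (op ⊤))) :
    IdealSh.map g φ (gn 𝔟) = gn (T := T') (O := O') (𝔟.map (ap g φ ⊤)) := by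
  refine le_antisymm' ((map_le_iff g φ).2 (gn_le_iff.2 fun s hs => ?_)) (gn_le_iff.2 ?_)
  · change ap g φ ⊤ s ∈ (gn (T := T') (O := O') (𝔟.map (ap g φ ⊤))).sect ⊤
    exact mem_gn_top (Ideal.mem_map_of_mem _ hs)
  · refine Ideal.map_le_iff_le_comap.2 ?_
    intro s hs
    exact ap_mem_map g φ _ (mem_gn_top hs)

end Gn

theorem idealMap_gn (h𝔛 : 𝔛.IsFormal) (h𝔜 : 𝔜.IsFormal) (f : 𝔛 ⟶ 𝔜) (𝔟 : Ideal (GS h𝔜)) :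
    idealMap f h𝔛 h𝔜 (gn 𝔟) = gn (O := 𝔛.Osh h𝔛) (𝔟.map (sh h𝔛 f h𝔜 ⊤)) := map_gn _ _ 𝔟

/-- The map on global sections of a morphism of formal systems. -/
noncomputable abbrev gsMap (h𝔛 : 𝔛.IsFormal) (h𝔜 : 𝔜.IsFormal) (f : 𝔛 ⟶ 𝔜) : GS h𝔜 →+* GS h𝔛 := sh h𝔛 f h𝔜 ⊤

theorem prT_gsMap (h𝔛 : 𝔛.IsFormal) (h𝔜 : 𝔜.IsFormal) (f : 𝔛 ⟶ 𝔜) (n : ℕ) (s : GS h𝔜) :
    prT h𝔛 n (gsMap h𝔛 h𝔜 f s) = ((f : Hom 𝔛 𝔜).app n).appTop (prT h𝔜 n s) := by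
  refine (pr_sh h𝔛 f h𝔜 n ⊤ s).trans ?_
  have e : ((f : Hom 𝔛 𝔜).app n).appTop = ((f : Hom 𝔛 𝔜).app n).appLE (𝔜.lvU h𝔜 n ⊤) (𝔛.lvU h𝔛 n (pre f ⊤))
      (Hom.lvU_preimage f h𝔛 h𝔜 n ⊤).ge := Scheme.Hom.app_eq_appLE _
  rw [e]
  rfl

theorem kap_gsMap (h𝔛 : 𝔛.IsFormal) (h𝔜 : 𝔜.IsFormal) (f : 𝔛 ⟶ 𝔜) (n : ℕ) :
    kap h𝔛 n ≫ Spec.map (CommRingCat.ofHom (gsMap h𝔛 h𝔜 f)) = (f : Hom 𝔛 𝔜).app n ≫ kap h𝔜 n := by
  apply hom_ext_glob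
  rw [glob_map, glob_kap, glob_comp, glob_kap]
  ext s
  exact prT_gsMap h𝔛 h𝔜 f n s

section Sg

variable {A : Type u} [CommRing A]

theorem sg_comp (h𝔛 : 𝔛.IsFormal) (h𝔜 : 𝔜.IsFormal) (f : 𝔛 ⟶ 𝔜) (p : ∀ n, 𝔜.X n ⟶ Spec (CommRingCat.of A))
    (hp : ∀ n, 𝔜.ι n ≫ p (n + 1) = p n) (w : ∀ n, 𝔛.X n ⟶ Spec (CommRingCat.of A))
    (hw : ∀ n, 𝔛.ι n ≫ w (n + 1) = w n) (hpw : ∀ n, (f : Hom 𝔛 𝔜).app n ≫ p n = w n) :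
    sg h𝔛 w hw = (gsMap h𝔛 h𝔜 f).comp (sg h𝔜 p hp) := by
  apply ringHom_ext
  intro n
  rw [kap_sg, CommRingCat.ofHom_comp, Spec.map_comp, ← Category.assoc, kap_gsMap, Category.assoc, kap_sg, hpw]

theorem comp_compat (f : 𝔛 ⟶ 𝔜) {Y : Scheme.{u}} (p : ∀ n, 𝔜.X n ⟶ Y)
    (hp : ∀ n, 𝔜.ι n ≫ p (n + 1) = p n) (n : ℕ) :
    𝔛.ι n ≫ (f : Hom 𝔛 𝔜).app (n + 1) ≫ p (n + 1) = (f : Hom 𝔛 𝔜).app n ≫ p n := by
  rw [← Category.assoc, ← (f : Hom 𝔛 𝔜).comm n, Category.assoc, hp]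

theorem ssh_top (h : 𝔛.IsFormal) (p : ∀ n, 𝔛.X n ⟶ Spec (CommRingCat.of A))
    (hp : ∀ n, 𝔛.ι n ≫ p (n + 1) = p n) (a : A) :
    ssh h p hp ⊤ ((Scheme.ΓSpecIso (CommRingCat.of A)).inv a) = sg h p hp a := by
  refine sec_ext h fun n => ?_
  refine (pr_ssh h p hp n ⊤ _).trans (Eq.trans ?_ (prT_sg h p hp n a).symm)
  rw [lssh, glob]
  have e : (p n).appTop = (p n).appLE ⊤ (𝔛.lvU h n (p 0 ⁻¹ᵁ ⊤)) (lvU_p 𝔛 h p hp n ⊤).ge :=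
    Scheme.Hom.app_eq_appLE _
  rw [e]
  rfl

theorem ssh_secMap (h : 𝔛.IsFormal) (p : ∀ n, 𝔛.X n ⟶ Spec (CommRingCat.of A))
    (hp : ∀ n, 𝔛.ι n ≫ p (n + 1) = p n) (U : (Spec (CommRingCat.of A)).Opens) (a : A) :
    ssh h p hp U ((secMap A U).hom a) = rs (𝔛.Osh h) (le_top : p 0 ⁻¹ᵁ U ≤ ⊤) (sg h p hp a) := by
  rw [← ssh_top]
  exact ssh_res h p hp (le_top : U ≤ ⊤) _

theorem schIdealMap_eq_gn (h : 𝔛.IsFormal) (p : ∀ n, 𝔛.X n ⟶ Spec (CommRingCat.of A))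
    (hp : ∀ n, 𝔛.ι n ≫ p (n + 1) = p n) (𝔞 : Ideal A) :
    schIdealMap 𝔛 h p hp (IdealSh.ofData (idealSpec A 𝔞)) = gn (O := 𝔛.Osh h) (𝔞.map (sg h p hp)) := by
  refine le_antisymm' ((map_le_iff _ _).2 fun U s hs => ?_) (gn_le_iff.2 ?_)
  · change ssh h p hp U s ∈ (gn (O := 𝔛.Osh h) (𝔞.map (sg h p hp))).sect (p 0 ⁻¹ᵁ U)
    refine IdealSh.mem_of_local _ fun x hx => ?_
    obtain ⟨V, i, hxV, hV⟩ := hs ((p 0) x) hx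
    refine ⟨p 0 ⁻¹ᵁ V.1, fun _ hz => i hz, hxV, ?_⟩
    have e : (𝔛.Osh h).obj.map (homOfLE (show p 0 ⁻¹ᵁ V.1 ≤ p 0 ⁻¹ᵁ U from fun _ hz => i hz)).op (ssh h p hp U s) =
      ssh h p hp V.1 ((Spec (CommRingCat.of A)).presheaf.map (homOfLE i).op s) := (ssh_res h p hp i s).symm
    rw [e]
    have h1 := ideal_idealSpec_pow A 𝔞 1 V
    rw [pow_one, pow_one] at h1
    rw [h1] at hV
    have h2 := Ideal.mem_map_of_mem (ssh h p hp V.1) hV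
    rw [Ideal.map_map] at h2
    refine (Ideal.map_le_iff_le_comap.2 ?_) h2
    intro a ha
    rw [Ideal.mem_comap]
    have e2 := ssh_secMap h p hp V.1 a
    have e3 : ((ssh h p hp V.1).comp (secMap A V.1).hom) a =
      rs (𝔛.Osh h) (le_top : p 0 ⁻¹ᵁ V.1 ≤ ⊤) (sg h p hp a) := e2
    rw [e3]
    exact map_le_gn _ _ (Ideal.mem_map_of_mem _ (Ideal.mem_map_of_mem _ ha))
  · refine Ideal.map_le_iff_le_comap.2 ?_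
    intro a ha
    rw [Ideal.mem_comap, ← ssh_top]
    have key := ap_mem_map (p 0).base (schSharp 𝔛 h p hp) (IdealSh.ofData (idealSpec A 𝔞)) (W := ⊤)
      (a := (Scheme.ΓSpecIso (CommRingCat.of A)).inv a) ?_
    · exact key
    change MemData _ _ _
    intro x _
    refine ⟨topAff A, le_rfl, trivial, ?_⟩
    rw [ideal_idealSpec_top]
    have h3 := Ideal.mem_map_of_mem (Scheme.ΓSpecIso (CommRingCat.of A)).inv.hom ha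
    have e : (Spec (CommRingCat.of A)).presheaf.map (homOfLE (le_rfl : (⊤ : (Spec (CommRingCat.of A)).Opens) ≤ ⊤)).op =
        𝟙 _ := (Spec (CommRingCat.of A)).presheaf.map_id _
    rw [e]
    exact h3

end Sg

end K788.AffSch
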