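import Groth.Agent.FBlow.K788.SpfB
import Groth.Agent.S2291
import Groth.Agent.S0440
import Groth.Agent.S3856
import Groth.Agent.Fcompl.H545.SysBasic

/-!
# The structure of adic formal systems with affine underlying scheme
-/

set_option autoImplicit false

universe u

open CategoryTheory CategoryTheory.Limits TopologicalSpace Opposite AlgebraicGeometry

namespace K788.AffStr

open FSch FBlow K788.Osh K788.IdSh K788.GenL K788.SysB K788.IdMap K788.Restr K788.Aff K788.AffSch K788.UP K788.Inv K788.SpfB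
open Groth.Agent.Divis.BlowChart Groth.Agent.Fcompl.H552.IdealSpec

variable {𝔛 𝔜 ℨ 𝔘 : FSch.Sys.{u}} {R : Type u} [CommRing R]

/-- The system `𝔛` is adic over `R` with respect to the ideal `I`. -/
structure AdicOver (𝔛 : FSch.Sys.{u}) (I : Ideal R) (w : ∀ n, 𝔛.X n ⟶ Spec (CommRingCat.of R)) : Prop where
  compat : ∀ n, 𝔛.ι n ≫ w (n + 1) = w n
  ker : ∀ n, (𝔛.ι n).ker = ((idealSpec R I).comap (w (n + 1))) ^ (n + 1)

theorem ker_spf (I : Ideal R) (n : ℕ) :
    ((spf R I).ι n).ker = ((idealSpec R I).comap (spfToSpec R I (n + 1))) ^ (n + 1) := by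
  have h1 := (isCompl_spf R I).ci (n + 1)
  have h2 := (isCompl_spf R I).ci n
  have h3 : IsClosedImmersion ((spf R I).ι n ≫ spfToSpec R I (n + 1)) := by
    rw [spfToSpec_comm]
    exact h2
  rw [← Groth.Agent.Fcompl.H545.SysBasic.comap_ker_comp ((spf R I).ι n) (spfToSpec R I (n + 1)), spfToSpec_comm,
    (isCompl_spf R I).ker, Groth.Agent.Divis.IdealComap.comap_pow]

/-- An adic morphism pulls back adicity. -/
theorem AdicOver.comp {I : Ideal R} {w : ∀ n, 𝔜.X n ⟶ Spec (CommRingCat.of R)} (hw : AdicOver 𝔜 I w) (h𝔜 : 𝔜.IsFormal)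
    {f : 𝔛 ⟶ 𝔜} (hf : IsAdicHom f) : AdicOver 𝔛 I (fun n => (f : Hom 𝔛 𝔜).app n ≫ w n) := by
  refine ⟨fun n => ?_, fun n => ?_⟩
  · rw [← Category.assoc, ← (f : Hom 𝔛 𝔜).comm n, Category.assoc, hw.compat]
  · have := (h𝔜 n).1
    rw [ker_of_isPullback (hf n), hw.ker, Groth.Agent.Divis.IdealComap.comap_pow, Scheme.IdealSheafData.comap_comp]

theorem adicOver_spf (I : Ideal R) : AdicOver (spf R I) I (spfToSpec R I) := ⟨spfToSpec_comm R I, ker_spf I⟩

theorem isFormal_spf (I : Ideal R) : (spf R I).IsFormal := by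
  intro n
  refine ⟨IsClosedImmersion.spec_of_surjective _ (Ideal.Quotient.factor_surjective (Ideal.pow_le_pow_right (Nat.le_succ (n + 1)))), ?_⟩
  have e := spfToSpec_comm R I n
  intro x
  have h1 := (isCompl_spf R I).ci (n + 1)
  have h2 := (isCompl_spf R I).ci n
  have hr : Set.range (spfToSpec R I (n + 1)) = Set.range (spfToSpec R I n) := by
    have h3 := range_comap_of_surjective (R ⧸ I ^ (n + 1 + 1)) (Ideal.Quotient.mk (I ^ (n + 1 + 1)))
      Ideal.Quotient.mk_surjective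
    have h4 := range_comap_of_surjective (R ⧸ I ^ (n + 1)) (Ideal.Quotient.mk (I ^ (n + 1)))
      Ideal.Quotient.mk_surjective
    refine h3.trans (Eq.trans ?_ h4.symm)
    rw [Ideal.mk_ker, Ideal.mk_ker, PrimeSpectrum.zeroLocus_pow _ (Nat.succ_ne_zero _),
      PrimeSpectrum.zeroLocus_pow _ (Nat.succ_ne_zero _)]
  have hx : spfToSpec R I (n + 1) x ∈ Set.range (spfToSpec R I n) := by
    rw [← hr]
    exact ⟨x, rfl⟩
  obtain ⟨y, hy⟩ := hx
  refine ⟨y, h1.isClosedEmbedding.injective ?_⟩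
  change ((spf R I).ι n ≫ spfToSpec R I (n + 1)) y = _
  rw [e]
  exact hy

theorem ker_specMap {A B : Type u} [CommRing A] [CommRing B] (φ : A →+* B) :
    (Spec.map (CommRingCat.ofHom φ)).ker = idealSpec A (RingHom.ker φ) := by
  apply Scheme.IdealSheafData.ext_of_isAffine
  exact (Groth.Agent.Fcompl.H545.SpecKer.ideal_top_ker_specMap (CommRingCat.ofHom φ)).trans
    (ideal_idealSpec_top A (RingHom.ker φ)).symm

theorem isAffine_X (h : 𝔛.IsFormal) [IsAffine (𝔛.X 0)] (n : ℕ) : IsAffine (𝔛.X n) := by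
  induction n with
  | zero => infer_instance
  | succ n ih =>
    have := (h n).1
    exact Groth.Agent.S0440.result (𝔛.ι n) (h n).2

section Main

variable (h : 𝔛.IsFormal) {I : Ideal R} (hI : I.FG) {w : ∀ n, 𝔛.X n ⟶ Spec (CommRingCat.of R)} (hw : AdicOver 𝔛 I w)
  [IsAffine (𝔛.X 0)]

include h in
theorem appTop_surjective (n : ℕ) : Function.Surjective (𝔛.ι n).appTop := by
  have := (h n).1
  have := isAffine_X h (n + 1)
  exact Scheme.Hom.app_surjective (𝔛.ι n) ⊤ (isAffineOpen_top _)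

theorem resT_top {Y : Scheme.{u}} (s : Γ(Y, ⊤)) : resT Y ⊤ s = s := by
  rw [resT]
  have e : (homOfLE (le_top : (⊤ : Y.Opens) ≤ ⊤)).op = 𝟙 _ := rfl
  rw [e, Y.presheaf.map_id]
  rfl

include h hw in
theorem ker_appTop (n : ℕ) : RingHom.ker (𝔛.ι n).appTop.hom = (I.map (glob (w (n + 1)))) ^ (n + 1) := by
  have := isAffine_X h (n + 1)
  have := (h n).1
  have h1 : RingHom.ker ((𝔛.ι n).app (⟨⊤, isAffineOpen_top _⟩ : (𝔛.X (n + 1)).affineOpens).1).hom =
      (𝔛.ι n).ker.ideal ⟨⊤, isAffineOpen_top _⟩ := (Scheme.Hom.ker_apply (𝔛.ι n) _).symm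
  refine Eq.trans (b := (𝔛.ι n).ker.ideal ⟨⊤, isAffineOpen_top _⟩) h1 ?_
  rw [ hw.ker, Scheme.IdealSheafData.ideal_pow, Pi.pow_apply, idealSpec_eq_idl, comap_idl_ideal]
  have e : (resT (𝔛.X (n + 1)) ⊤).comp (glob (w (n + 1))) = glob (w (n + 1)) := by
    ext x
    exact resT_top _
  rw [e]

include hI hw in
theorem main : IsAdicComplete (I.map (sg h w hw.compat)) (GS h) ∧
    ∀ n, Function.Surjective (prT h n) ∧ RingHom.ker (prT h n) = (I.map (sg h w hw.compat)) ^ (n + 1) := by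
  let alg : ∀ n, Algebra (GS h) Γ(𝔛.X n, ⊤) := fun n => (prT h n).toAlgebra
  let f : ∀ n, Γ(𝔛.X (n + 1), ⊤) →ₗ[GS h] Γ(𝔛.X n, ⊤) := fun n =>
    { toFun := (𝔛.ι n).appTop.hom
      map_add' := map_add _
      map_smul' := fun a x => by
        change (𝔛.ι n).appTop.hom (prT h (n + 1) a * x) = prT h n a * (𝔛.ι n).appTop.hom x
        rw [map_mul, appTop_prT] }
  let π : ∀ n, GS h →ₗ[GS h] Γ(𝔛.X n, ⊤) := fun n =>
    { toFun := prT h n
      map_add' := map_add _
      map_smul' := fun a x => map_mul (prT h n) a x }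
  have key := Groth.Agent.S2291.result (GS h) (I.map (sg h w hw.compat)) (hI.map _) (fun n => Γ(𝔛.X n, ⊤)) f
    (fun n => appTop_surjective h n) (fun n => ?_) (GS h) π (fun n => ?_) (fun x hx => ?_) (fun y hy => ?_)
  · refine ⟨key.1, fun n => ⟨(key.2.1 n).1, ?_⟩⟩
    have h1 := (key.2.1 n).2
    rw [Ideal.smul_top_eq_map, Algebra.algebraMap_self, Ideal.map_id] at h1
    ext x
    exact (SetLike.ext_iff.1 h1) x
  · rw [Ideal.smul_top_eq_map]
    ext x
    have h1 := ker_appTop h hw n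
    have h2 : (I.map (sg h w hw.compat) ^ (n + 1)).map (prT h (n + 1)) = (I.map (glob (w (n + 1)))) ^ (n + 1) := by
      rw [Ideal.map_pow, Ideal.map_map]
      congr 2
      ext a
      exact prT_sg h w hw.compat (n + 1) a
    have h3 : x ∈ RingHom.ker (𝔛.ι n).appTop.hom ↔ x ∈ (I.map (sg h w hw.compat) ^ (n + 1)).map (prT h (n + 1)) := by
      rw [h1, h2]
    exact h3
  · refine LinearMap.ext fun x => ?_
    exact appTop_prT h n x
  · exact sec_ext h fun n => (hx n).trans (map_zero _).symm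
  · have hc : ∀ n, tr 𝔛 h n ⊤ (y (n + 1)) = y n := fun n => by
      refine Eq.trans ?_ (hy n)
      rw [tr]
      have e : (𝔛.ι n).appTop = (𝔛.ι n).appLE (𝔛.lvU h (n + 1) ⊤) (𝔛.lvU h n ⊤) (𝔛.lvU_le h n ⊤) :=
        Scheme.Hom.app_eq_appLE _
      change _ = (𝔛.ι n).appTop.hom (y (n + 1))
      rw [e]
      rfl
    exact exists_sec h ⊤ y hc

include hI in
theorem isCompl_kap : IsCompl (kap h) (idealSpec (GS h) (I.map (sg h w hw.compat))) := by
  obtain ⟨-, h2⟩ := main h hI hw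
  have h3 : ∀ n, IsAffine (𝔛.X n) := isAffine_X h
  refine ⟨ι_kap h, fun n => ?_, fun n => ?_⟩
  · have h4 : IsClosedImmersion (Spec.map (CommRingCat.ofHom (prT h n))) :=
      IsClosedImmersion.spec_of_surjective _ (h2 n).1
    have h5 : IsClosedImmersion (𝔛.X n).toSpecΓ := inferInstance
    exact IsClosedImmersion.comp (𝔛.X n).toSpecΓ _
  · rw [kap, Scheme.Hom.ker_comp_of_isIso, ker_specMap, (h2 n).2, idealSpec_pow]

end Main

end K788.AffStr
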