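import Groth.Agent.FBlow.K788.AffStr
import Groth.Agent.FBlow.K788.Cart

/-!
# Sections over affine opens of an adic formal system; the condition `LG`
-/

set_option autoImplicit false

universe u

open CategoryTheory CategoryTheory.Limits TopologicalSpace Opposite AlgebraicGeometry

namespace K788.AffV

open FSch FBlow K788.Osh K788.IdSh K788.GenL K788.SysB K788.IdMap K788.Restr K788.Aff K788.AffSch K788.UP K788.Inv K788.SpfB
open K788.AffStr K788.Crt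
open Groth.Agent.Divis.BlowChart Groth.Agent.Fcompl.H552.IdealSpec

variable {𝔛 𝔜 ℨ 𝔘 𝔚 : FSch.Sys.{u}} {R : Type u} [CommRing R]

theorem pre_rg (j : 𝔚 ⟶ 𝔛) (hj : OpenImm j) : (⊤ : (𝔚.X 0).Opens) ≤ pre j (rg j hj) := fun z _ => ⟨z, rfl⟩

theorem rs_sh_rs (h𝔚 : 𝔚.IsFormal) (h : 𝔛.IsFormal) (j : 𝔚 ⟶ 𝔛) {V : (𝔛.X 0).Opens} (ht : ⊤ ≤ pre j V) (s : GS h) :
    rs (𝔚.Osh h𝔚) ht (sh h𝔚 j h V (rs (𝔛.Osh h) (le_top : V ≤ ⊤) s)) = gsMap h𝔚 h j s := by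
  have e3 : sh h𝔚 j h V (rs (𝔛.Osh h) (le_top : V ≤ ⊤) s) =
    rs (𝔚.Osh h𝔚) (show pre j V ≤ pre j ⊤ from le_top) (sh h𝔚 j h ⊤ s) := sh_res h𝔚 j h le_top s
  rw [e3, rs_rs]
  exact rs_self (O := 𝔚.Osh h𝔚) _ _

/-- The condition on a formal system that replaces the classes (N) and (V) of base rings. -/
def LG (h : 𝔛.IsFormal) (I : Ideal R) (w : ∀ n, 𝔛.X n ⟶ Spec (CommRingCat.of R)) (hw : ∀ n, 𝔛.ι n ≫ w (n + 1) = w n) :
    Prop :=
  (∀ n, IsLocallyNoetherian (𝔛.X n)) ∨ ∃ t, I = Ideal.span {t} ∧ Nzd (𝔛.Osh h) ⊤ (sg h w hw t)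

theorem LG.restrict {h : 𝔛.IsFormal} {I : Ideal R} {w : ∀ n, 𝔛.X n ⟶ Spec (CommRingCat.of R)}
    {hw : ∀ n, 𝔛.ι n ≫ w (n + 1) = w n} (hL : LG h I w hw) (h𝔚 : 𝔚.IsFormal) {j : 𝔚 ⟶ 𝔛} (hj : OpenImm j)
    (hw' : ∀ n, 𝔚.ι n ≫ (j : Hom 𝔚 𝔛).app (n + 1) ≫ w (n + 1) = (j : Hom 𝔚 𝔛).app n ≫ w n) :
    LG h𝔚 I (fun n => (j : Hom 𝔚 𝔛).app n ≫ w n) hw' := by
  rcases hL with hN | ⟨t, ht, hV⟩
  · left
    intro n
    have := hj n
    have := hN n
    exact isLocallyNoetherian_of_isOpenImmersion ((j : Hom 𝔚 𝔛).app n)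
  · right
    refine ⟨t, ht, ?_⟩
    have h1 : Nzd (𝔛.Osh h) (rg j hj) (rs (𝔛.Osh h) le_top (sg h w hw t)) := hV.res le_top
    have h2 := ((nzd_sh_iff h𝔚 h hj le_rfl _).2 h1).res (pre_rg j hj)
    rw [rs_sh_rs] at h2
    rw [sg_comp h𝔚 h j w hw _ hw' (fun _ => rfl)]
    exact h2

theorem LG.gd {h : 𝔛.IsFormal} {I : Ideal R} (hI : I.FG) {w : ∀ n, 𝔛.X n ⟶ Spec (CommRingCat.of R)}
    (hw : AdicOver 𝔛 I w) (hL : LG h I w hw.compat) [IsAffine (𝔛.X 0)] : Gd (GS h) (I.map (sg h w hw.compat)) := by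
  rcases hL with hN | ⟨t, ht, hV⟩
  · left
    obtain ⟨h1, h2⟩ := main h hI hw
    have h3 := hN 1
    have h4 := isAffine_X h 1
    have h5 : IsNoetherianRing Γ(𝔛.X 1, ⊤) := IsLocallyNoetherian.component_noetherian ⟨⊤, isAffineOpen_top _⟩
    have e : GS h ⧸ (I.map (sg h w hw.compat)) ^ 2 ≃+* Γ(𝔛.X 1, ⊤) :=
      (Ideal.quotEquivOfEq (h2 1).2.symm).trans (RingHom.quotientKerEquivOfSurjective (h2 1).1)
    have h6 : IsNoetherianRing (GS h ⧸ (I.map (sg h w hw.compat)) ^ 2) := isNoetherianRing_of_ringEquiv _ e.symm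
    exact Groth.Agent.S3856.result (GS h) (I.map (sg h w hw.compat))
  · subst ht
    right
    refine ⟨sg h w hw.compat t, ?_, ?_⟩
    · rw [mem_nonZeroDivisors_iff_right]
      exact hV.self
    · rw [Ideal.map_span, Set.image_singleton]

section AffineOpen

variable (h : 𝔛.IsFormal) {I : Ideal R} (hI : I.FG) {w : ∀ n, 𝔛.X n ⟶ Spec (CommRingCat.of R)} (hw : AdicOver 𝔛 I w)

theorem isAffine_restrictOpen {V : (𝔛.X 0).Opens} (hV : IsAffineOpen V) : IsAffine ((𝔛.restrictOpen h V).X 0) := by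
  have e : 𝔛.lvU h 0 V = V := lvU_zero h V
  have : IsAffineOpen (𝔛.lvU h 0 V) := by rw [e]; exact hV
  exact this

theorem main_eq_top [IsAffine (𝔛.X 0)] (hI : I.FG) {U : (𝔛.X 0).Opens} (hU : U = ⊤) (n : ℕ) :
    Function.Surjective (pr 𝔛 h n U) ∧
      RingHom.ker (pr 𝔛 h n U) = (I.map ((rs (𝔛.Osh h) (le_top : U ≤ ⊤)).comp (sg h w hw.compat))) ^ (n + 1) := by
  subst hU
  obtain ⟨-, h2⟩ := main h hI hw
  refine ⟨(h2 n).1, ?_⟩
  have e : (rs (𝔛.Osh h) (le_top : (⊤ : (𝔛.X 0).Opens) ≤ ⊤)).comp (sg h w hw.compat) = sg h w hw.compat := by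
    ext x
    exact rs_self _ _
  rw [e]
  exact (h2 n).2

include hI in
theorem pr_affineOpen {V : (𝔛.X 0).Opens} (hV : IsAffineOpen V) (n : ℕ) :
    Function.Surjective (pr 𝔛 h n V) ∧
      RingHom.ker (pr 𝔛 h n V) = (I.map ((rs (𝔛.Osh h) (le_top : V ≤ ⊤)).comp (sg h w hw.compat))) ^ (n + 1) := by
  have := isAffine_restrictOpen h hV
  set hF := isFormal_restrictOpen h V
  set j := 𝔛.restrictOpenι h V with hjd
  have hj : OpenImm j := openImm_restrictOpenι h V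
  have hrg : rg j hj = V := rg_restrictOpenι h V
  have hpre : pre j V = ⊤ := by
    rw [eq_top_iff]
    intro z _
    exact hrg.le (show ((j : Hom _ _).app 0) z ∈ rg j hj from ⟨z, rfl⟩)
  have hw' : AdicOver (𝔛.restrictOpen h V) I (fun n => (j : Hom _ _).app n ≫ w n) := hw.comp h (hj.isAdicHom hF h)
  obtain ⟨h1, h2⟩ := main_eq_top hF hw' hI hpre n
  have hb := lsh_bijective hF h hj n hrg.ge
  have hb' := sh_bijective hF h hj hrg.ge
  constructor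
  · intro y
    obtain ⟨s, hs⟩ := h1 (lsh hF j h n V y)
    obtain ⟨s', rfl⟩ := hb'.2 s
    refine ⟨s', hb.1 ?_⟩
    rw [← pr_sh]
    exact hs
  · have e1 : (rs ((𝔛.restrictOpen h V).Osh hF) (le_top : pre j V ≤ ⊤)).comp (sg hF (fun n => (j : Hom _ _).app n ≫ w n) hw'.compat) =
        (sh hF j h V).comp ((rs (𝔛.Osh h) (le_top : V ≤ ⊤)).comp (sg h w hw.compat)) := by
      rw [sg_comp hF h j w hw.compat _ hw'.compat (fun _ => rfl)]
      ext x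
      exact (sh_res hF j h (le_top : V ≤ ⊤) (sg h w hw.compat x)).symm
    rw [e1, ← Ideal.map_map, ← Ideal.map_pow] at h2
    have e2 : (RingHom.ker (pr 𝔛 h n V)) = (RingHom.ker (pr (𝔛.restrictOpen h V) hF n (pre j V))).comap (sh hF j h V) := by
      ext x
      rw [RingHom.mem_ker, Ideal.mem_comap, RingHom.mem_ker, pr_sh]
      exact (map_eq_zero_iff (lsh hF j h n V) hb.1).symm
    rw [e2, h2]
    exact Ideal.comap_map_of_bijective _ hb'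

end AffineOpen

end K788.AffV
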