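import Groth.Agent.FBlow.K788.Inv
import Groth.Agent.S0543
import Groth.Prelude.Def_W4bk4boschfrg79

/-!
# Base rings of class (N) or (V) and admissible algebras satisfy the Artin-Rees condition
-/

set_option autoImplicit false

universe u

open CategoryTheory CategoryTheory.Limits TopologicalSpace Opposite AlgebraicGeometry

namespace K788.Base

open K788.Inv K788.ARed

theorem gd_of_isBase {R : Type u} [CommRing R] {I : Ideal R} (hR : AdicRing.IsBase R I) {A : Type u} [CommRing A]
    [Algebra R A] (hN : IsNoetherianRing R → IsNoetherianRing A) (hA : AdicRing.NoPowTorsion I A) :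
    Gd A (I.map (algebraMap R A)) := by
  rcases hR.2 with ⟨h1, -⟩ | ⟨h1, h2, h3, t, ht, rfl⟩
  · exact Or.inl (hN h1)
  · refine Or.inr ⟨algebraMap R A t, ?_, by rw [Ideal.map_span, Set.image_singleton]⟩
    rw [mem_nonZeroDivisors_iff_right]
    intro x hx
    refine hA x 1 fun a ha => ?_
    rw [pow_one] at ha
    obtain ⟨c, rfl⟩ := Ideal.mem_span_singleton.1 ha
    rw [Algebra.smul_def, map_mul, mul_comm, ← mul_assoc, hx, zero_mul]

theorem isNoetherianRing_of_topFiniteType {R : Type u} [CommRing R] [IsNoetherianRing R] {I : Ideal R} {A : Type u}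
    [CommRing A] [Algebra R A] (hA : AdicRing.TopFiniteType R I A) : IsNoetherianRing A := by
  obtain ⟨n, φ, hφ⟩ := hA
  have : IsNoetherianRing (AdicRing.RPow R I n) := Groth.Agent.S0543.result _ _
  exact isNoetherianRing_of_surjective _ _ φ.toRingHom hφ

theorem gd_of_admissible {R : Type u} [CommRing R] {I : Ideal R} (hR : AdicRing.IsBase R I) {A : Type u} [CommRing A]
    [Algebra R A] (hA : AdicRing.Admissible R I A) : Gd A (I.map (algebraMap R A)) := by
  refine gd_of_isBase hR (fun hN => ?_) hA.2
  obtain ⟨n, φ, hφ, -⟩ := hA.1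
  exact isNoetherianRing_of_topFiniteType ⟨n, φ, hφ⟩

end K788.Base
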