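import Groth.Agent.FBlow.K788.Glob

/-!
# Locally generated open ideals are coherent open ideals
-/

set_option autoImplicit false

universe u

open CategoryTheory CategoryTheory.Limits TopologicalSpace Opposite AlgebraicGeometry

namespace K788.CohC

open FSch FBlow K788.Osh K788.IdSh K788.GenL K788.SysB K788.IdMap K788.Restr K788.Aff K788.AffSch K788.UP K788.Inv K788.SpfB
open K788.AffStr K788.Crt K788.AffV K788.CohL K788.ARed K788.LocB K788.LocC K788.Glob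
open Groth.Agent.Divis.BlowChart Groth.Agent.Fcompl.H552.IdealSpec Groth.Agent.Divis.IdealFT

section Data

variable {W X : Scheme.{u}}

theorem comap_map_eq (f : W ⟶ X) [IsOpenImmersion f] [QuasiCompact f] (𝒜 : W.IdealSheafData) : (𝒜.map f).comap f = 𝒜 := by
  refine Groth.Agent.Divis.IdealComap.ext_of_forall_mem fun x => ?_
  obtain ⟨V, hV, hxV, -⟩ := Opens.isBasis_iff_nbhd.mp W.isBasis_affineOpens (show x ∈ (⊤ : W.Opens) from trivial)
  refine ⟨⟨V, hV⟩, hxV, ?_⟩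
  rw [Scheme.IdealSheafData.ideal_comap_of_isOpenImmersion]
  have key : ∀ (V' : W.Opens) (e : V' ≤ f ⁻¹ᵁ f ''ᵁ V) (e' : V' ≤ V) (a : Γ(W, V)),
      f.appLE (f ''ᵁ V) V' e ((f.appIso V).inv a) = W.presheaf.map (homOfLE e').op a := by
    intro V' e e' a
    have h1 : (f.appIso V).inv ≫ f.appLE (f ''ᵁ V) V' e = W.presheaf.map (homOfLE e').op := by
      rw [← cancel_epi (f.appIso V).hom, Iso.hom_inv_id_assoc, Scheme.Hom.appIso_hom', Scheme.Hom.appLE_map]
    exact congrArg (fun t => CommRingCat.Hom.hom t a) h1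
  ext a
  rw [Ideal.mem_comap, mem_ideal_map_iff]
  constructor
  · intro h
    have h1 := h ⟨V, hV⟩ (f.preimage_image_eq V).ge
    have h2 := key V (f.preimage_image_eq V).ge le_rfl a
    rw [res_id] at h2
    change f.appLE (f ''ᵁ V) V (f.preimage_image_eq V).ge ((f.appIso V).inv a) ∈ 𝒜.ideal ⟨V, hV⟩ at h1
    rw [h2] at h1
    exact h1
  · intro h V' e
    have e' : V'.1 ≤ V := by
      intro z hz
      have := e hz
      rw [f.preimage_image_eq V] at this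
      exact this
    have h2 := key V'.1 e e' a
    change f.appLE (f ''ᵁ V) V'.1 e ((f.appIso V).inv a) ∈ 𝒜.ideal V'
    rw [h2]
    exact memData_le 𝒜 ((memData_affine 𝒜 ⟨V, hV⟩ a).2 h) V' e'

theorem ideal_image_eq (f : W ⟶ X) [IsOpenImmersion f] (K : X.IdealSheafData) (V : W.affineOpens) :
    K.ideal ⟨f ''ᵁ V.1, V.2.image_of_isOpenImmersion f⟩ = ((K.comap f).ideal V).map (f.appIso V.1).inv.hom := by
  rw [Scheme.IdealSheafData.ideal_comap_of_isOpenImmersion]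
  exact (Ideal.map_comap_of_surjective _ (ConcreteCategory.bijective_of_isIso (f.appIso V.1).inv).2 _).symm

theorem exists_image_eq (f : W ⟶ X) [IsOpenImmersion f] (U : X.affineOpens) (hU : U.1 ≤ f.opensRange) :
    ∃ V : W.affineOpens, (⟨f ''ᵁ V.1, V.2.image_of_isOpenImmersion f⟩ : X.affineOpens) = U := by
  refine ⟨⟨f ⁻¹ᵁ U.1, U.2.preimage_of_isOpenImmersion f hU⟩, Subtype.ext ?_⟩
  change f ''ᵁ (f ⁻¹ᵁ U.1) = U.1
  rw [f.image_preimage_eq_opensRange_inf]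
  exact inf_eq_right.2 hU

theorem ftOn_map (f : W ⟶ X) [IsOpenImmersion f] [QuasiCompact f] {𝒜 : W.IdealSheafData} (h : IdealFT 𝒜) :
    FTOn (𝒜.map f) f.opensRange := by
  intro U hU
  obtain ⟨V, rfl⟩ := exists_image_eq f U hU
  rw [ideal_image_eq f, comap_map_eq]
  exact (h V).map _

/-- Extension of finite type ideal sheaves along a quasi-compact open immersion. -/
theorem exists_ft_extension (f : W ⟶ X) [IsOpenImmersion f] [QuasiCompact f] [CompactSpace X] [QuasiSeparatedSpace X]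
    [CompactSpace W] {𝒜 : W.IdealSheafData} (h : IdealFT 𝒜) : ∃ K : X.IdealSheafData, IdealFT K ∧ K.comap f = 𝒜 := by
  have h0 : IsCompact (f.opensRange : Set X) := by
    rw [Scheme.Hom.coe_opensRange]
    exact isCompact_range f.continuous
  obtain ⟨K, -, hK, hK'⟩ := exists_ft_eqOn (𝒜.map f) f.opensRange h0 (ftOn_map f h)
  refine ⟨K, hK, Eq.trans ?_ (comap_map_eq f 𝒜)⟩
  ext1
  funext V
  rw [Scheme.IdealSheafData.ideal_comap_of_isOpenImmersion, Scheme.IdealSheafData.ideal_comap_of_isOpenImmersion,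
    hK' _ (f.image_le_opensRange V.1)]

end Data

variable {𝔛 𝔛' 𝔜 ℨ 𝔘 𝔚 : FSch.Sys.{u}} {R : Type u} [CommRing R] {I : Ideal R}
  {w : ∀ n, 𝔛.X n ⟶ Spec (CommRingCat.of R)}

/-- On an affine system the ideal generated by a finitely generated open ideal of sections comes from a level. -/
theorem sect_gn_eq_ofLevel (h : 𝔛.IsFormal) (hI : I.FG) (hw : AdicOver 𝔛 I w) [IsAffine (𝔛.X 0)] {𝔟 : Ideal (GS h)}
    {n : ℕ} (hk : (I.map (sg h w hw.compat)) ^ (n + 1) ≤ 𝔟) (V : (𝔛.X 0).Opens) :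
    (gn (O := 𝔛.Osh h) 𝔟).sect V = (ofLevel 𝔛 h n ((idealSpec (GS h) 𝔟).comap (kap h n))).sect V := by
  have hid : ∀ V' : (𝔛.X n).affineOpens, ((idealSpec (GS h) 𝔟).comap (kap h n)).ideal V' =
      𝔟.map ((resT (𝔛.X n) V'.1).comp (prT h n)) := by
    intro V'
    rw [idealSpec_eq_idl, comap_idl_ideal, glob_kap]
  have hX := isAffine_X h n
  apply le_antisymm
  · revert V
    refine (gn_le_iff (K := ofLevel 𝔛 h n ((idealSpec (GS h) 𝔟).comap (kap h n)))).2 fun s hs => ?_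
    refine (mem_ofLevel h n _).2 ((memData_affine _ ⟨⊤, isAffineOpen_top _⟩ _).2 ?_)
    rw [hid]
    have := Ideal.mem_map_of_mem ((resT (𝔛.X n) ⊤).comp (prT h n)) hs
    rw [RingHom.comp_apply, resT_top] at this
    exact this
  · intro s hs
    refine IdealSh.mem_of_local _ fun x hx => ?_
    obtain ⟨V', hV', hxV', hle⟩ := exists_affine_nhd x V hx
    refine ⟨V', hle, hxV', map_le_gn _ V' ?_⟩
    change rs (𝔛.Osh h) hle s ∈ _
    obtain ⟨h3, h4⟩ := pr_affineOpen h hI hw hV' n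
    have hV'n := isAffineOpen_lvU h hV' n
    have h9 := memData_le _ ((mem_ofLevel h n _).1 hs) ⟨𝔛.lvU h n V', hV'n⟩ (FBlow.lvU_mono 𝔛 h n hle)
    have e9 : pr 𝔛 h n V' (rs (𝔛.Osh h) hle s) =
      (𝔛.X n).presheaf.map (homOfLE (FBlow.lvU_mono 𝔛 h n hle)).op (pr 𝔛 h n V s) := pr_res h n hle s
    rw [← e9, hid] at h9
    have h7 : (resT (𝔛.X n) (𝔛.lvU h n V')).comp (prT h n) = (pr 𝔛 h n V').comp (rs (𝔛.Osh h) (le_top : V' ≤ ⊤)) := by
      ext t
      exact (pr_res h n (le_top : V' ≤ ⊤) t).symm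
    rw [h7, ← Ideal.map_map] at h9
    have h10 : rs (𝔛.Osh h) hle s ∈ ((𝔟.map (rs (𝔛.Osh h) (le_top : V' ≤ ⊤))).map (pr 𝔛 h n V')).comap
        (pr 𝔛 h n V') := h9
    rw [Ideal.comap_map_of_surjective _ h3] at h10
    have h11 : RingHom.ker (pr 𝔛 h n V') ≤ 𝔟.map (rs (𝔛.Osh h) (le_top : V' ≤ ⊤)) := by
      rw [h4, ← Ideal.map_map, ← Ideal.map_pow]
      exact Ideal.map_mono hk
    exact (sup_le (le_refl (𝔟.map (rs (𝔛.Osh h) (le_top : V' ≤ ⊤)))) h11) h10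

theorem idealFT_idealSpec {A : Type u} [CommRing A] {𝔟 : Ideal A} (h : 𝔟.FG) : IdealFT (idealSpec A 𝔟) := by
  intro U
  rw [idealSpec_eq_idl]
  have := comap_idl_ideal 𝔟 (𝟙 (Spec (CommRingCat.of A))) U
  rw [Scheme.IdealSheafData.comap_id] at this
  rw [this]
  exact h.map _

theorem isCohOpen_gn (h : 𝔛.IsFormal) (hI : I.FG) (hw : AdicOver 𝔛 I w) [IsAffine (𝔛.X 0)] {𝔟 : Ideal (GS h)}
    (h𝔟 : 𝔟.FG) {k : ℕ} (hk : (I.map (sg h w hw.compat)) ^ k ≤ 𝔟) : IsCohOpen 𝔛 h (gn (O := 𝔛.Osh h) 𝔟) := fun _ =>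
  ⟨⊤, trivial, k, _, isFT_comap (idealFT_idealSpec h𝔟) _, fun V _ => sect_gn_eq_ofLevel h hI hw
    ((Ideal.pow_le_pow_right (Nat.le_succ k)).trans hk) V⟩

/-- Comparison of `J` with `ofLevel` can be made after restriction to an open immersion. -/
theorem sect_eq_ofLevel_of_restrict (h𝔚 : 𝔚.IsFormal) (h : 𝔛.IsFormal) {j : 𝔚 ⟶ 𝔛} (hj : OpenImm j)
    {J : IdealSh (𝔛.Osh h)} {n : ℕ} {𝒜 : (𝔛.X n).IdealSheafData}
    (e : ∀ V', (idealMap j h𝔚 h J).sect V' = (ofLevel 𝔚 h𝔚 n (𝒜.comap ((j : Hom 𝔚 𝔛).app n))).sect V')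
    {V : (𝔛.X 0).Opens} (hV : V ≤ rg j hj) : J.sect V = (ofLevel 𝔛 h n 𝒜).sect V := by
  ext s
  have h1 := sh_mem_idealMap_iff h𝔚 h hj hV J s
  have h2 := sh_mem_idealMap_iff h𝔚 h hj hV (ofLevel 𝔛 h n 𝒜) s
  have h3 := sect_idealMap_ofLevel h𝔚 h hj (J := ofLevel 𝔛 h n 𝒜) (U := ⊤) (n := n) (𝒜 := 𝒜) (fun _ _ => rfl)
    (V' := pre j V) le_top
  rw [h3] at h2
  rw [e] at h1
  exact h1.symm.trans h2

theorem compactSpace_X (h : 𝔛.IsFormal) [CompactSpace (𝔛.X 0)] (n : ℕ) : CompactSpace (𝔛.X n) := by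
  rw [← isCompact_univ_iff]
  have : Set.range (𝔛.toX n) = Set.univ := by
    rw [Set.range_eq_univ]
    exact fun z => ⟨𝔛.gInv h n z, toX_gInv h n z⟩
  rw [← this]
  exact isCompact_range (𝔛.toX n).continuous

/-- The underlying homeomorphism of a level with the common space. -/
noncomputable def homeo (h : 𝔛.IsFormal) (n : ℕ) : 𝔛.X n ≃ₜ 𝔛.X 0 where
  toFun := 𝔛.gInv h n
  invFun := 𝔛.toX n
  left_inv := toX_gInv h n
  right_inv := gInv_toX h n
  continuous_toFun := (𝔛.gInv h n).hom.continuous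
  continuous_invFun := (𝔛.toX n).continuous

theorem quasiSeparatedSpace_X (h : 𝔛.IsFormal) [QuasiSeparatedSpace (𝔛.X 0)] (n : ℕ) : QuasiSeparatedSpace (𝔛.X n) :=
  QuasiSeparatedSpace.of_isOpenEmbedding (homeo h n).isOpenEmbedding

/-- On a quasi-compact quasi-separated system, locally generated open ideals are coherent open ideals. -/
theorem LGn.isCohOpen {h : 𝔛.IsFormal} (hI : I.FG) {hw : AdicOver 𝔛 I w} [CompactSpace (𝔛.X 0)]
    [QuasiSeparatedSpace (𝔛.X 0)] {J : IdealSh (𝔛.Osh h)} (hJ : LGn h hw J) : IsCohOpen 𝔛 h J := by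
  intro x
  obtain ⟨C, hC, -⟩ := hJ x ⊤ trivial
  have := C.aff
  have h1 := compactSpace_X h C.k
  have h2 := quasiSeparatedSpace_X h C.k
  have h3 := C.hj C.k
  have h4 := isAffine_X C.hs C.k
  have h5 : QuasiCompact ((C.j : Hom C.sys 𝔛).app C.k) := by
    constructor
    intro U hU hUc
    rw [((C.j : Hom C.sys 𝔛).app C.k).isOpenEmbedding.isCompact_iff, Set.image_preimage_eq_inter_range]
    exact hUc.inter_of_isOpen (isCompact_range ((C.j : Hom C.sys 𝔛).app C.k).continuous) hU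
      ((C.j : Hom C.sys 𝔛).app C.k).isOpenEmbedding.isOpen_range
  obtain ⟨K, hK, hK'⟩ := exists_ft_extension ((C.j : Hom C.sys 𝔛).app C.k)
    (isFT_comap (idealFT_idealSpec C.fg) (kap C.hs C.k))
  refine ⟨rg C.j C.hj, hC, C.k, K, hK, fun V hV => ?_⟩
  refine sect_eq_ofLevel_of_restrict C.hs h C.hj (fun V' => ?_) hV
  rw [C.e, hK']
  exact sect_gn_eq_ofLevel C.hs hI (hw.comp h (C.hj.isAdicHom C.hs h))
    ((Ideal.pow_le_pow_right (Nat.le_succ C.k)).trans C.hk) V'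

end K788.CohC
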