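import Groth.Agent.FBlow.K788.AffV
import Groth.Agent.Divis.IdealFT
import Groth.Agent.Divis.BlowTwist

/-!
# Coherent open ideals on affine opens
-/

set_option autoImplicit false

universe u

open CategoryTheory CategoryTheory.Limits TopologicalSpace Opposite AlgebraicGeometry

namespace K788.CohL

open FSch FBlow K788.Osh K788.IdSh K788.GenL K788.SysB K788.IdMap K788.Restr K788.Aff K788.AffSch K788.UP K788.Inv K788.SpfB
open K788.AffStr K788.Crt K788.AffV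
open Groth.Agent.Divis.BlowChart Groth.Agent.Fcompl.H552.IdealSpec

section Data

variable {X W : Scheme.{u}} (𝓘 : X.IdealSheafData)

theorem memData_iff (U : X.Opens) (s : Γ(X, U)) : MemData 𝓘 U s ↔ (𝓘.subschemeι.app U).hom s = 0 := by
  constructor
  · intro h
    exact Groth.Agent.Divis.IdealFT.subschemeι_app_eq_zero 𝓘 U s fun x hx => by
      obtain ⟨V, i, hxV, hV⟩ := h x hx
      exact ⟨V, i, hxV, hV⟩
  · intro h x hx
    obtain ⟨V, hV, hxV, hVU⟩ := Opens.isBasis_iff_nbhd.mp X.isBasis_affineOpens hx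
    exact ⟨⟨V, hV⟩, hVU, hxV, Groth.Agent.Divis.IdealFT.mem_ideal_of_subschemeι_app_eq_zero 𝓘 U s h ⟨V, hV⟩ hVU⟩

theorem memData_le {U : X.Opens} {s : Γ(X, U)} (h : MemData 𝓘 U s) (V : X.affineOpens) (hVU : V.1 ≤ U) :
    X.presheaf.map (homOfLE hVU).op s ∈ 𝓘.ideal V :=
  Groth.Agent.Divis.IdealFT.mem_ideal_of_subschemeι_app_eq_zero 𝓘 U s ((memData_iff 𝓘 U s).1 h) V hVU

theorem res_id {U : X.Opens} (s : Γ(X, U)) : X.presheaf.map (homOfLE (le_refl U)).op s = s := by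
  have e : (homOfLE (le_refl U)).op = 𝟙 _ := rfl
  rw [e, X.presheaf.map_id]
  rfl

theorem memData_affine (U : X.affineOpens) (s : Γ(X, U.1)) : MemData 𝓘 U.1 s ↔ s ∈ 𝓘.ideal U := by
  constructor
  · intro h
    have := memData_le 𝓘 h U le_rfl
    rwa [res_id] at this
  · intro h x hx
    exact ⟨U, le_rfl, hx, by rw [res_id]; exact h⟩

theorem memData_comap (f : W ⟶ X) {U : X.Opens} {s : Γ(X, U)} (h : MemData 𝓘 U s) {V : W.Opens} (e : V ≤ f ⁻¹ᵁ U) :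
    MemData (𝓘.comap f) V (f.appLE U V e s) := by
  intro y hy
  obtain ⟨U', V', hU, hyV', hV, hU', e'⟩ := Groth.Agent.Divis.IdealComap.exists_affine_le f y V hy U (e hy)
  refine ⟨V', hV, hyV', ?_⟩
  rw [Groth.Agent.Divis.IdealComap.ideal_comap 𝓘 f U' V' e']
  have h1 := Ideal.mem_map_of_mem (f.appLE U' V' e').hom (memData_le 𝓘 h U' hU')
  have e1 : W.presheaf.map (homOfLE hV).op (f.appLE U V e s) = f.appLE U' V' e' (X.presheaf.map (homOfLE hU').op s) := by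
    have : f.appLE U V e ≫ W.presheaf.map (homOfLE hV).op = X.presheaf.map (homOfLE hU').op ≫ f.appLE U' V' e' := by
      rw [Scheme.Hom.appLE_map, Scheme.Hom.map_appLE]
    exact congrArg (fun t => CommRingCat.Hom.hom t s) this
  rw [e1]
  exact h1

theorem memData_of_comap (f : W ⟶ X) [IsOpenImmersion f] {U : X.Opens} (hU : U ≤ f.opensRange) {s : Γ(X, U)}
    (h : MemData (𝓘.comap f) (f ⁻¹ᵁ U) (f.app U s)) : MemData 𝓘 U s := by
  intro x hx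
  obtain ⟨w, rfl⟩ := hU hx
  obtain ⟨V, i, hwV, hV⟩ := h w hx
  have hle : f ''ᵁ V.1 ≤ U := by
    rintro _ ⟨y, hy, rfl⟩
    exact i hy
  refine ⟨⟨f ''ᵁ V.1, V.2.image_of_isOpenImmersion f⟩, hle, ⟨w, hwV, rfl⟩, ?_⟩
  rw [Scheme.IdealSheafData.ideal_comap_of_isOpenImmersion, Ideal.mem_comap] at hV
  have e1 : f.app U ≫ W.presheaf.map (homOfLE i).op ≫ (f.appIso V.1).inv = X.presheaf.map (homOfLE hle).op := by
    rw [← cancel_mono (f.appIso V.1).hom, Category.assoc, Category.assoc, Iso.inv_hom_id, Category.comp_id,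
      Scheme.Hom.appIso_hom', Scheme.Hom.map_appLE]
    rfl
  have e2 : X.presheaf.map (homOfLE hle).op s = (f.appIso V.1).inv (W.presheaf.map (homOfLE i).op (f.app U s)) :=
    congrArg (fun t => CommRingCat.Hom.hom t s) e1.symm
  rw [e2]
  exact hV

theorem memData_of_comap' (f : W ⟶ X) [IsOpenImmersion f] {U : X.Opens} (hU : U ≤ f.opensRange) {s : Γ(X, U)}
    {V : W.Opens} (e' : V = f ⁻¹ᵁ U) (e : V ≤ f ⁻¹ᵁ U) (h : MemData (𝓘.comap f) V (f.appLE U V e s)) :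
    MemData 𝓘 U s := by
  subst e'
  refine memData_of_comap 𝓘 f hU ?_
  rw [Scheme.Hom.app_eq_appLE]
  exact h

end Data

variable {𝔛 𝔜 ℨ 𝔘 𝔚 : FSch.Sys.{u}} {R : Type u} [CommRing R]

theorem mem_ofLevel (h : 𝔛.IsFormal) (n : ℕ) (𝒜 : (𝔛.X n).IdealSheafData) {U : (𝔛.X 0).Opens} {s : Sec 𝔛 h U} :
    s ∈ (ofLevel 𝔛 h n 𝒜).sect U ↔ MemData 𝒜 (𝔛.lvU h n U) (pr 𝔛 h n U s) := Ideal.mem_comap

/-- Restriction of `ofLevel` along an open immersion. -/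
theorem sect_idealMap_ofLevel (h𝔚 : 𝔚.IsFormal) (h : 𝔛.IsFormal) {j : 𝔚 ⟶ 𝔛} (hj : OpenImm j) {J : IdealSh (𝔛.Osh h)}
    {U : (𝔛.X 0).Opens} {n : ℕ} {𝒜 : (𝔛.X n).IdealSheafData} (hJ : ∀ V ≤ U, J.sect V = (ofLevel 𝔛 h n 𝒜).sect V)
    {V' : (𝔚.X 0).Opens} (hV' : V' ≤ pre j U) :
    (idealMap j h𝔚 h J).sect V' = (ofLevel 𝔚 h𝔚 n (𝒜.comap ((j : Hom 𝔚 𝔛).app n))).sect V' := by
  obtain ⟨V, hV, rfl⟩ := exists_pre_eq hj V'
  have hVU : V ≤ U := le_of_pre_le hj hV hV'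
  have hb := sh_bijective h𝔚 h hj hV
  have := hj n
  have hle : 𝔛.lvU h n V ≤ ((j : Hom 𝔚 𝔛).app n).opensRange := by
    rw [opensRange_app h𝔚 h j hj n]
    exact FBlow.lvU_mono 𝔛 h n hV
  ext s
  obtain ⟨s, rfl⟩ := hb.2 s
  have h1 := sh_mem_idealMap_iff h𝔚 h hj hV J s
  rw [hJ V hVU] at h1
  refine h1.trans ((mem_ofLevel h n 𝒜).trans (Iff.trans ?_ (mem_ofLevel h𝔚 n _).symm))
  rw [pr_sh]
  constructor
  · intro hm
    exact memData_comap 𝒜 ((j : Hom 𝔚 𝔛).app n) hm (Hom.lvU_preimage j h𝔚 h n V).ge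
  · intro hm
    exact memData_of_comap' 𝒜 ((j : Hom 𝔚 𝔛).app n) hle (Hom.lvU_preimage j h𝔚 h n V).symm _ hm

theorem isFT_comap {X Y : Scheme.{u}} {𝒜 : Y.IdealSheafData} (h : IdealFT 𝒜) (f : X ⟶ Y) : IdealFT (𝒜.comap f) :=
  Groth.Agent.Divis.BlowTwist.isFiniteTypeIdeal_comap h f

/-- Coherent open ideals restrict to coherent open ideals. -/
theorem isCohOpen_idealMap (h𝔚 : 𝔚.IsFormal) (h : 𝔛.IsFormal) {j : 𝔚 ⟶ 𝔛} (hj : OpenImm j) {J : IdealSh (𝔛.Osh h)}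
    (hJ : IsCohOpen 𝔛 h J) : IsCohOpen 𝔚 h𝔚 (idealMap j h𝔚 h J) := by
  intro y
  obtain ⟨U, hyU, n, 𝒜, hA, hJU⟩ := hJ (((j : Hom 𝔚 𝔛).app 0) y)
  exact ⟨pre j U, hyU, n, _, isFT_comap hA _, fun V' hV' => sect_idealMap_ofLevel h𝔚 h hj hJU hV'⟩

theorem fg_comap {A B : Type*} [CommRing A] [CommRing B] {f : A →+* B} (hf : Function.Surjective f)
    (hk : (RingHom.ker f).FG) {K : Ideal B} (hK : K.FG) : (K.comap f).FG := by
  classical
  have h1 : ((K.comap f).map f).FG := by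
    rw [Ideal.map_comap_of_surjective f hf]
    exact hK
  obtain ⟨J, hJ, hJ', hJ''⟩ := Groth.Agent.Divis.IdealFT.exists_fg_map_eq f (K.comap f) h1
  have h2 : K.comap f = J ⊔ RingHom.ker f := by
    rw [Ideal.map_comap_of_surjective f hf] at hJ''
    rw [← hJ'', Ideal.comap_map_of_surjective f hf]
    rfl
  rw [h2]
  exact Submodule.FG.sup hJ' hk

section Affine

variable (h : 𝔛.IsFormal) {I : Ideal R} (hI : I.FG) {w : ∀ n, 𝔛.X n ⟶ Spec (CommRingCat.of R)} (hw : AdicOver 𝔛 I w)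

include h in
theorem isAffineOpen_lvU {V : (𝔛.X 0).Opens} (hV : IsAffineOpen V) (n : ℕ) : IsAffineOpen (𝔛.lvU h n V) := by
  have := isAffine_restrictOpen h hV
  exact isAffine_X (isFormal_restrictOpen h V) n

include hI in
/-- Coherent open ideals on an affine formal system are generated by finitely generated open ideals. -/
theorem coh_affine [IsAffine (𝔛.X 0)] {J : IdealSh (𝔛.Osh h)} {n : ℕ} {𝒜 : (𝔛.X n).IdealSheafData} (hA : IdealFT 𝒜)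
    (hJ : ∀ V, J.sect V = (ofLevel 𝔛 h n 𝒜).sect V) :
    J = gn (O := 𝔛.Osh h) (J.sect ⊤) ∧ Ideal.FG (R := GS h) (J.sect ⊤) ∧ (I.map (sg h w hw.compat)) ^ (n + 1) ≤ J.sect ⊤ := by
  obtain ⟨-, h2⟩ := main h hI hw
  have hX := isAffine_X h n
  have hT : J.sect ⊤ = (𝒜.ideal ⟨⊤, isAffineOpen_top _⟩).comap (prT h n) := by
    ext s
    rw [hJ]
    refine (mem_ofLevel h n 𝒜).trans ?_
    exact memData_affine 𝒜 ⟨⊤, isAffineOpen_top _⟩ (prT h n s)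
  have hker : RingHom.ker (prT h n) ≤ J.sect ⊤ := by
    rw [hT]
    intro s hs
    rw [Ideal.mem_comap, (RingHom.mem_ker).1 hs]
    exact Ideal.zero_mem _
  refine ⟨le_antisymm' (fun V s hs => ?_) (gn_le_iff.2 le_rfl), ?_, ?_⟩
  · refine IdealSh.mem_of_local _ fun x hx => ?_
    obtain ⟨V', hV', hxV', hle⟩ := Opens.isBasis_iff_nbhd.mp (𝔛.X 0).isBasis_affineOpens hx
    refine ⟨V', hle, hxV', map_le_gn _ V' ?_⟩
    change rs (𝔛.Osh h) hle s ∈ _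
    obtain ⟨h3, h4⟩ := pr_affineOpen h hI hw hV' n
    have hV'n := isAffineOpen_lvU h hV' n
    have h5 : (𝒜.ideal ⟨𝔛.lvU h n V', hV'n⟩) =
        ((J.sect ⊤).map (rs (𝔛.Osh h) (le_top : V' ≤ ⊤))).map (pr 𝔛 h n V') := by
      have h6 := 𝒜.map_ideal (U := ⟨𝔛.lvU h n V', hV'n⟩) (V := ⟨⊤, isAffineOpen_top _⟩)
        (show 𝔛.lvU h n V' ≤ ⊤ from le_top)
      rw [← h6, Ideal.map_map]
      have h7 : (pr 𝔛 h n V').comp (rs (𝔛.Osh h) (le_top : V' ≤ ⊤)) =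
          ((𝔛.X n).presheaf.map (homOfLE (le_top : 𝔛.lvU h n V' ≤ ⊤)).op).hom.comp (prT h n) := by
        ext t
        exact pr_res h n (le_top : V' ≤ ⊤) t
      rw [h7, ← Ideal.map_map, hT, Ideal.map_comap_of_surjective _ (h2 n).1]
      rfl
    have h8 : pr 𝔛 h n V' (rs (𝔛.Osh h) hle s) ∈ 𝒜.ideal ⟨𝔛.lvU h n V', hV'n⟩ := by
      rw [hJ] at hs
      have h9 := memData_le 𝒜 ((mem_ofLevel h n 𝒜).1 hs) ⟨𝔛.lvU h n V', hV'n⟩ (FBlow.lvU_mono 𝔛 h n hle)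
      have e9 : pr 𝔛 h n V' (rs (𝔛.Osh h) hle s) =
        (𝔛.X n).presheaf.map (homOfLE (FBlow.lvU_mono 𝔛 h n hle)).op (pr 𝔛 h n V s) := pr_res h n hle s
      rw [e9]
      exact h9
    rw [h5] at h8
    have h10 : rs (𝔛.Osh h) hle s ∈ (((J.sect ⊤).map (rs (𝔛.Osh h) (le_top : V' ≤ ⊤))).map (pr 𝔛 h n V')).comap
        (pr 𝔛 h n V') := h8
    rw [Ideal.comap_map_of_surjective _ h3] at h10
    have h11 : RingHom.ker (pr 𝔛 h n V') ≤ (J.sect ⊤).map (rs (𝔛.Osh h) (le_top : V' ≤ ⊤)) := by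
      rw [h4, ← Ideal.map_map, ← Ideal.map_pow]
      refine Ideal.map_mono ?_
      rw [← (h2 n).2]
      exact hker
    exact (sup_le (le_refl ((J.sect ⊤).map (rs (𝔛.Osh h) (le_top : V' ≤ ⊤)))) h11) h10
  · rw [hT]
    refine fg_comap (h2 n).1 ?_ (hA _)
    rw [(h2 n).2]
    exact (hI.map _).pow
  · rw [← (h2 n).2]
    exact hker

end Affine

end K788.CohL
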