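import Groth.Agent.FBlow.K788.Prod

/-!
# Composition of admissible blow-ups on quasi-compact quasi-separated systems
-/

set_option autoImplicit false
set_option linter.unusedVariables false

universe u

open CategoryTheory CategoryTheory.Limits TopologicalSpace Opposite AlgebraicGeometry

namespace K788.Comp

open FSch FBlow K788.Osh K788.IdSh K788.GenL K788.SysB K788.IdMap K788.Restr K788.Aff K788.AffSch K788.UP K788.Inv K788.SpfB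
open K788.AffStr K788.Crt K788.AffV K788.CohL K788.ARed K788.LocB K788.LocC K788.Glob K788.CohC K788.LNoeth K788.Lev
open K788.MapC K788.AMap K788.Prod Groth.Agent.Divis.BlowChart Groth.Agent.Divis.IdealFT
open Groth.Agent.Fcompl.H552.IdealSpec Groth.Agent.Divis.BlowTwist Groth.Agent.Divis.IdealComap

variable {𝔛 𝔛' 𝔜 ℨ 𝔘 𝔚 : FSch.Sys.{u}} {R : Type u} [CommRing R] {I : Ideal R}
  {w : ∀ n, 𝔛.X n ⟶ Spec (CommRingCat.of R)}

section Local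

variable (h : 𝔛.IsFormal) (hI : I.FG) (hw : AdicOver 𝔛 I w) [IsAffine (𝔛.X 0)] {𝔟 : Ideal (GS h)} (h𝔟 : 𝔟.FG)
  {k : ℕ} (hk : (I.map (sg h w hw.compat)) ^ k ≤ 𝔟)

include hI hw in
theorem ci_of_isPullback {P : Scheme.{u}} {q : P ⟶ Spec (CommRingCat.of (GS h))} {b : 𝔛' ⟶ 𝔛} {r : ∀ n, 𝔛'.X n ⟶ P}
    (hpb : ∀ n, IsPullback (r n) ((b : Hom 𝔛' 𝔛).app n) q (kap h n)) (n : ℕ) :
    IsClosedImmersion (r n) ∧ IdealFT (r n).ker := by
  have hc := isCompl_kap h hI hw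
  have := hc.ci n
  have h1 : IsClosedImmersion (r n) := MorphismProperty.of_isPullback (hpb n).flip (hc.ci n)
  refine ⟨h1, ?_⟩
  rw [ker_of_isPullback (hpb n), hc.ker n]
  refine isFiniteTypeIdeal_comap (isFiniteTypeIdeal_pow ?_ _) _
  exact idealFT_idealSpec (hI.map _)

include hI hw h𝔟 hk in
theorem compactSpace_of_isBlowUp_aff (hL : LG h I w hw.compat) {h' : 𝔛'.IsFormal} {b : 𝔛' ⟶ 𝔛}
    (hb : IsAdmBlowUp b h' h (gn (O := 𝔛.Osh h) 𝔟)) : CompactSpace (𝔛'.X 0) := by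
  obtain ⟨P, q, r, hq, hr, hpb⟩ := exists_structure h hI hw hL hk hb
  have h1 := (ci_of_isPullback h hI hw hpb 0).1
  rw [idealSpec_eq_idl] at hq
  have := compactSpace_of_isBlowUp hq h𝔟
  exact (r 0).isClosedEmbedding.compactSpace

include hI hw h𝔟 hk in
/-- Twisting ideals on the blow-up, over an affine base. -/
theorem exists_twist_local (hL : LG h I w hw.compat) {h' : 𝔛'.IsFormal} {b : 𝔛' ⟶ 𝔛}
    (hb : IsAdmBlowUp b h' h (gn (O := 𝔛.Osh h) 𝔟)) {J' : IdealSh (𝔛'.Osh h')} (hJ' : LGn h' (hw.comp h hb.1) J') :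
    ∃ d₀ n₀, ∀ d ≥ d₀, ∀ m ≥ n₀, ∀ 𝒵₁ 𝒵₂ : (𝔛'.X m).IdealSheafData,
      idealMap b h' h (gn (O := 𝔛.Osh h) 𝔟) = ofLevel 𝔛' h' m 𝒵₁ → J' = ofLevel 𝔛' h' m 𝒵₂ →
      ∃ 𝒦 : (𝔛.X m).IdealSheafData, IdealFT 𝒦 ∧ 𝒦.comap ((b : Hom 𝔛' 𝔛).app m) = 𝒵₁ ^ d * 𝒵₂ := by
  have := compactSpace_of_isBlowUp_aff h hI hw h𝔟 hk hL hb
  obtain ⟨P, q, r, hq, hr, hpb⟩ := exists_structure h hI hw hL hk hb
  have hci : ∀ n, IsClosedImmersion (r n) := fun n => (ci_of_isPullback h hI hw hpb n).1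
  have hq' := hq
  rw [idealSpec_eq_idl] at hq'
  obtain ⟨n₀, hn₀⟩ := LGn.exists_level hI hJ'
  obtain ⟨𝒜, h𝒜, e𝒜⟩ := hn₀ n₀ le_rfl
  have hft : IdealFT (𝒜.map (r n₀)) := idealFT_map (r n₀) h𝒜 (ci_of_isPullback h hI hw hpb n₀).2
  obtain ⟨d₀, hd₀⟩ := exists_ideal hq' h𝔟 (𝒜.map (r n₀)) hft
  refine ⟨d₀, max n₀ k, fun d hd m hm 𝒵₁ 𝒵₂ e₁ e₂ => ?_⟩
  obtain ⟨K, hK, eK⟩ := hd₀ d hd
  have hw' := hw.comp h hb.1
  have hlev : ∀ m ≥ n₀, ∃ 𝒵 : (𝔛'.X m).IdealSheafData, J' = ofLevel 𝔛' h' m 𝒵 ∧ 𝒵.map (r m) = 𝒜.map (r n₀) := by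
    intro m hm
    induction m, hm using Nat.le_induction with
    | base => exact ⟨𝒜, e𝒜, rfl⟩
    | succ m hm ih =>
      obtain ⟨𝒵, e3, e4⟩ := ih
      refine ⟨𝒵.map (𝔛'.ι m), by rw [← ofLevel_succ h' 𝒵, ← e3], ?_⟩
      rw [← Scheme.IdealSheafData.map_comp, hr m, e4]
  obtain ⟨𝒵, e3, e4⟩ := hlev m ((le_max_left _ _).trans hm)
  have e5 : 𝒵₂ = 𝒵 := ofLevel_injective h' hI hw' (e₂.symm.trans e3)
  have e6 : (𝒜.map (r n₀)).comap (r m) = 𝒵₂ := by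
    rw [← e4, comap_map_of_isClosedImmersion, e5]
  have e7 : 𝒵₁ = ((idealSpec (GS h) 𝔟).comap (kap h m)).comap ((b : Hom 𝔛' 𝔛).app m) := by
    refine ofLevel_injective h' hI hw' (e₁.symm.trans ?_)
    rw [← idealMap_ofLevel_adic hI h hw h' hb.1 (isFT_comap (idealFT_idealSpec h𝔟) _)]
    congr 1
    exact IdealSh.ext (funext fun V => sect_gn_eq_ofLevel h hI hw
      ((Ideal.pow_le_pow_right (((le_max_right _ _).trans hm).trans (Nat.le_succ m))).trans hk) V)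
  refine ⟨(idealSpec (GS h) K).comap (kap h m), isFT_comap (idealFT_idealSpec hK) _, ?_⟩
  rw [← Scheme.IdealSheafData.comap_comp, ← (hpb m).w, Scheme.IdealSheafData.comap_comp, idealSpec_eq_idl, eK,
    comap_mul, comap_pow, e6, ← Scheme.IdealSheafData.comap_comp, (hpb m).w, Scheme.IdealSheafData.comap_comp, e7,
    idealSpec_eq_idl]

end Local

theorem LGn.congr {w w' : ∀ n, 𝔛.X n ⟶ Spec (CommRingCat.of R)} {h : 𝔛.IsFormal} {hw : AdicOver 𝔛 I w}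
    {hw' : AdicOver 𝔛 I w'} (e : w = w') {J : IdealSh (𝔛.Osh h)} (hJ : LGn h hw J) : LGn h hw' J := by
  subst e
  exact hJ

/-- The blow-up over a chart. -/
theorem chart_blowUp {h : 𝔛.IsFormal} {hw : AdicOver 𝔛 I w} {J : IdealSh (𝔛.Osh h)} {h' : 𝔛'.IsFormal} {b : 𝔛' ⟶ 𝔛}
    (hb : IsAdmBlowUp b h' h J) (C : Chart h hw J) :
    ∃ hF : (pullbackSys b C.j).IsFormal, OpenImm (pullbackFst b C.j) ∧
      IsAdmBlowUp (pullbackSnd b C.j) hF C.hs (gn (O := C.sys.Osh C.hs) C.𝔟) := by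
  have hcart := cart_pullback b C.j
  have hF : (pullbackSys b C.j).IsFormal :=
    isFormal_of_isAdicHom (isAdicHom_pullbackFst b (C.hj.isAdicHom C.hs h)) h'
  have hb' := IsAdmBlowUp.restrict hb hcart C.hj hF C.hs
  rw [C.e] at hb'
  exact ⟨hF, openImm_pullbackFst _ C.hj, hb'⟩

theorem exists_finite_charts {h : 𝔛.IsFormal} {hw : AdicOver 𝔛 I w} {J : IdealSh (𝔛.Osh h)} (hJ : LGn h hw J)
    [CompactSpace (𝔛.X 0)] :
    ∃ (T : Type u) (_ : Finite T) (C : T → Chart h hw J), ∀ x : 𝔛.X 0, ∃ t, x ∈ rg (C t).j (C t).hj := by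
  choose C hC using fun x => hJ x ⊤ trivial
  obtain ⟨t, ht⟩ := isCompact_univ.elim_finite_subcover (fun x => (rg (C x).j (C x).hj : Set (𝔛.X 0)))
    (fun x => (rg (C x).j (C x).hj).isOpen) fun x _ => Set.mem_iUnion.2 ⟨x, (hC x).1⟩
  refine ⟨{x // x ∈ t}, inferInstance, fun x => C x.1, fun x => ?_⟩
  have := ht (Set.mem_univ x)
  simp only [Set.mem_iUnion] at this
  obtain ⟨y, hy, hxy⟩ := this
  exact ⟨⟨y, hy⟩, hxy⟩

theorem compactSpace_of_isAdmBlowUp (hI : I.FG) {h : 𝔛.IsFormal} {hw : AdicOver 𝔛 I w} (hL : LG h I w hw.compat)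
    [CompactSpace (𝔛.X 0)] {J : IdealSh (𝔛.Osh h)} (hJ : LGn h hw J) {h' : 𝔛'.IsFormal} {b : 𝔛' ⟶ 𝔛}
    (hb : IsAdmBlowUp b h' h J) : CompactSpace (𝔛'.X 0) := by
  obtain ⟨T, hT, C, hC⟩ := exists_finite_charts hJ
  rw [← isCompact_univ_iff]
  have e : (Set.univ : Set (𝔛'.X 0)) = ⋃ t, Set.range ((pullbackFst b (C t).j : Hom _ 𝔛').app 0) := by
    refine (Set.eq_univ_of_forall fun x' => ?_).symm
    obtain ⟨t, ht⟩ := hC (((b : Hom 𝔛' 𝔛).app 0) x')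
    obtain ⟨y, hy⟩ := (mem_rg_pullbackFst b (C t).hj).2 ht
    exact Set.mem_iUnion.2 ⟨t, y, hy⟩
  rw [e]
  refine isCompact_iUnion fun t => ?_
  have := (C t).aff
  obtain ⟨hF, -, hb'⟩ := chart_blowUp hb (C t)
  have := compactSpace_of_isBlowUp_aff (C t).hs hI (hw.comp h ((C t).hj.isAdicHom (C t).hs h)) (C t).fg (C t).hk
    (hL.restrict (C t).hs (C t).hj _) hb'
  exact isCompact_range ((pullbackFst b (C t).j : Hom _ 𝔛').app 0).continuous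

/-- Twisting ideals on the blow-up. -/
theorem exists_twist (hI : I.FG) {h : 𝔛.IsFormal} {hw : AdicOver 𝔛 I w} (hL : LG h I w hw.compat)
    [CompactSpace (𝔛.X 0)] [QuasiSeparatedSpace (𝔛.X 0)] {J : IdealSh (𝔛.Osh h)} (hJ : LGn h hw J) {h' : 𝔛'.IsFormal}
    {b : 𝔛' ⟶ 𝔛} (hb : IsAdmBlowUp b h' h J) {J' : IdealSh (𝔛'.Osh h')} (hJ' : LGn h' (hw.comp h hb.1) J') :
    ∃ (d : ℕ) (K : IdealSh (𝔛.Osh h)), IsCohOpen 𝔛 h K ∧ idealMap b h' h K = mulPow (idealMap b h' h J) J' d := by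
  have hc' := compactSpace_of_isAdmBlowUp hI hL hJ hb
  obtain ⟨T, hT, C, hC⟩ := exists_finite_charts hJ
  have key : ∀ t, ∃ d₀ n₀, ∀ d ≥ d₀, ∀ m ≥ n₀, ∀ 𝒵₁ 𝒵₂ : (𝔛'.X m).IdealSheafData,
      idealMap b h' h J = ofLevel 𝔛' h' m 𝒵₁ → J' = ofLevel 𝔛' h' m 𝒵₂ →
      ∃ 𝒦 : ((C t).sys.X m).IdealSheafData, IdealFT 𝒦 ∧ 𝒦.comap ((pullbackSnd b (C t).j : Hom _ _).app m) =
        (𝒵₁ ^ d * 𝒵₂).comap ((pullbackFst b (C t).j : Hom _ _).app m) := by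
    intro t
    have := (C t).aff
    obtain ⟨hF, ho, hb'⟩ := chart_blowUp hb (C t)
    have hJt : LGn hF ((hw.comp h ((C t).hj.isAdicHom (C t).hs h)).comp (C t).hs hb'.1)
        (idealMap (pullbackFst b (C t).j) hF h' J') := by
      have h1 := LGn.idealMap hJ' hF (ho.isAdicHom hF h')
      have e : (fun n => ((pullbackFst b (C t).j : Hom _ _).app n ≫ (b : Hom 𝔛' 𝔛).app n ≫ w n)) =
          fun n => ((pullbackSnd b (C t).j : Hom _ _).app n ≫ ((C t).j : Hom (C t).sys 𝔛).app n ≫ w n) := by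
        funext n
        have e1 := congrArg (fun t : Hom _ _ => t.app n) (cart_pullback b (C t).j).w
        have e2 : (pullbackFst b (C t).j : Hom _ _).app n ≫ (b : Hom 𝔛' 𝔛).app n =
          (pullbackSnd b (C t).j : Hom _ _).app n ≫ ((C t).j : Hom (C t).sys 𝔛).app n := e1
        rw [← Category.assoc, e2, Category.assoc]
      exact LGn.congr e h1
    obtain ⟨d₀, n₀, hd⟩ := exists_twist_local (C t).hs hI (hw.comp h ((C t).hj.isAdicHom (C t).hs h)) (C t).fg (C t).hk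
      (hL.restrict (C t).hs (C t).hj _) hb' hJt
    refine ⟨d₀, n₀, fun d hd' m hm 𝒵₁ 𝒵₂ e₁ e₂ => ?_⟩
    rw [comap_mul, comap_pow]
    refine hd d hd' m hm _ _ ?_ ?_
    · rw [← (C t).e, ← idealMap_comp, ← (cart_pullback b (C t).j).w, idealMap_comp hF h' h, e₁, idealMap_ofLevel hF h' ho]
    · rw [e₂, idealMap_ofLevel hF h' ho]
  choose d₀ n₀ hkey using key
  have := Fintype.ofFinite T
  let d := Finset.univ.sup d₀
  obtain ⟨m₀, hm₀⟩ := exists_level_mulPow hI (LGn.idealMap hJ h' hb.1) hJ' d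
  let m := max m₀ (Finset.univ.sup n₀)
  obtain ⟨𝒵₁, 𝒵₂, f₁, f₂, e₁, e₂, e₃⟩ := hm₀ m (le_max_left _ _)
  choose 𝒦 h𝒦 e𝒦 using fun t => hkey t d (Finset.le_sup (Finset.mem_univ t)) m
    ((Finset.le_sup (Finset.mem_univ t)).trans (le_max_right _ _)) 𝒵₁ 𝒵₂ e₁ e₂
  have := compactSpace_X h m
  have := quasiSeparatedSpace_X h m
  have := compactSpace_X h' m
  have : ∀ t, IsOpenImmersion (((C t).j : Hom _ 𝔛).app m) := fun t => (C t).hj m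
  have : ∀ t, IsAffine ((C t).sys.X m) := fun t => by
    have := (C t).aff
    exact isAffine_X (C t).hs m
  obtain ⟨K, hK, eK⟩ := exists_ft_comap_eq ((b : Hom 𝔛' 𝔛).app m) (𝒵₁ ^ d * 𝒵₂) (fun t => (C t).sys.X m)
    (fun t => (pullbackSys b (C t).j).X m) (fun t => ((C t).j : Hom _ 𝔛).app m) (fun x => by
      obtain ⟨t, ht⟩ := hC (𝔛.gInv h m x)
      exact ⟨t, (mem_range_app_iff (C t).hs h (C t).j m x).2 ht⟩)
    (fun t => (pullbackFst b (C t).j : Hom _ _).app m) (fun t => (pullbackSnd b (C t).j : Hom _ _).app m)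
    (fun t => cart_pullback b (C t).j m) 𝒦 h𝒦 e𝒦
  refine ⟨d, ofLevel 𝔛 h m K, isCohOpen_ofLevel h hK, ?_⟩
  rw [idealMap_ofLevel_adic hI h hw h' hb.1 hK, eK, e₃]

/-- An invertible factor does not change the blow-up. -/
theorem isAdmBlowUp_mul_of_isInvertible (hI : I.FG) {h : 𝔛.IsFormal} {hw : AdicOver 𝔛 I w} (hL : LG h I w hw.compat)
    {E J : IdealSh (𝔛.Osh h)} (hE : LGn h hw E) (hJ : LGn h hw J) (hinv : E.IsInvertible) {h' : 𝔛'.IsFormal}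
    {b : 𝔛' ⟶ 𝔛} (hb : IsAdmBlowUp b h' h J) : IsAdmBlowUp b h' h (IdealSh.mul E J) := by
  refine ⟨hb.1, ?_, fun 𝔜 h𝔜 g hg hi => ?_⟩
  · rw [idealMap_mul]
    exact isInvertible_mul (isInvertible_pullback hI hL hJ hE hinv hb) hb.2.1
  · rw [idealMap_mul, isInvertible_mul_iff (locStalk_Osh h𝔜)] at hi
    exact hb.2.2 𝔜 h𝔜 g hg hi.2

theorem isAdmBlowUp_mulPow (hI : I.FG) {h : 𝔛.IsFormal} {hw : AdicOver 𝔛 I w} (hL : LG h I w hw.compat)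
    {E J : IdealSh (𝔛.Osh h)} (hE : LGn h hw E) (hJ : LGn h hw J) (hinv : E.IsInvertible) {h' : 𝔛'.IsFormal}
    {b : 𝔛' ⟶ 𝔛} (hb : IsAdmBlowUp b h' h J) (d : ℕ) : IsAdmBlowUp b h' h (mulPow E J d) := by
  induction d with
  | zero => exact hb
  | succ d ih => exact isAdmBlowUp_mul_of_isInvertible hI hL hE (LGn.mulPow hE hJ d) hinv ih

/-- **Composition** of admissible blow-ups. -/
theorem exists_isAdmBlowUp_comp (hI : I.FG) {h : 𝔛.IsFormal} {hw : AdicOver 𝔛 I w} (hL : LG h I w hw.compat)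
    [CompactSpace (𝔛.X 0)] [QuasiSeparatedSpace (𝔛.X 0)] {J : IdealSh (𝔛.Osh h)} (hJ : LGn h hw J) {h' : 𝔛'.IsFormal}
    {b : 𝔛' ⟶ 𝔛} (hb : IsAdmBlowUp b h' h J) {J' : IdealSh (𝔛'.Osh h')} (hJ' : LGn h' (hw.comp h hb.1) J')
    {𝔛'' : FSch.Sys.{u}} {h'' : 𝔛''.IsFormal} {b' : 𝔛'' ⟶ 𝔛'} (hb' : IsAdmBlowUp b' h'' h' J') :
    ∃ J'' : IdealSh (𝔛.Osh h), IsCohOpen 𝔛 h J'' ∧ IsAdmBlowUp (b' ≫ b) h'' h J'' := by
  obtain ⟨d, K, hK, eK⟩ := exists_twist hI hL hJ hb hJ'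
  have hK' := lgn_of_isCohOpen hI h hw hK
  have hb'' := isAdmBlowUp_mulPow hI (lg_of_isAdmBlowUp hI hL hJ hb) (LGn.idealMap hJ h' hb.1) hJ' hb.2.1 hb' d
  rw [← eK] at hb''
  exact ⟨_, LGn.isCohOpen' hI (LGn.mul hJ hK'), Hyp.isAdmBlowUp_comp_mul hI hL hJ hK' hb hb''⟩

end K788.Comp
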