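import Groth.Agent.FBlow.K788.Comp

/-!
# Domination of admissible blow-ups of open subsystems
-/

set_option autoImplicit false
set_option linter.unusedVariables false

universe u

open CategoryTheory CategoryTheory.Limits TopologicalSpace Opposite AlgebraicGeometry

namespace K788.Dom

open FSch FBlow K788.Osh K788.IdSh K788.GenL K788.SysB K788.IdMap K788.Restr K788.Aff K788.AffSch K788.UP K788.Inv K788.SpfB
open K788.AffStr K788.Crt K788.AffV K788.CohL K788.ARed K788.LocB K788.LocC K788.Glob K788.CohC K788.LNoeth K788.Lev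
open K788.MapC K788.AMap K788.Prod K788.Comp K788.Ext Groth.Agent.Divis.BlowChart Groth.Agent.Divis.IdealFT
open Groth.Agent.Fcompl.H552.IdealSpec Groth.Agent.Divis.BlowTwist Groth.Agent.Divis.IdealComap

section Gen

variable {T : TopCat.{u}} {O : Sheaf (Opens.grothendieckTopology T) CommRingCat.{u}}

/-- Glueing ideal sheaves. -/
def glueSh {κ : Type*} (V : κ → Opens T) (P : κ → IdealSh O) : IdealSh O where
  sect U :=
    { carrier := {s | ∀ k, rs O (inf_le_left : U ⊓ V k ≤ U) s ∈ (P k).sect (U ⊓ V k)}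
      add_mem' := fun {a b} ha hb k => by
        rw [map_add]
        exact Ideal.add_mem _ (ha k) (hb k)
      zero_mem' := fun k => by
        rw [map_zero]
        exact Ideal.zero_mem _
      smul_mem' := fun c a ha k => by
        rw [smul_eq_mul, map_mul]
        exact Ideal.mul_mem_left _ _ (ha k) }
  map_mem {U W} i s hs k := by
    have h1 := rs_mem (P k) (inf_le_inf_right (V k) i : W ⊓ V k ≤ U ⊓ V k) (hs k)
    rw [rs_rs] at h1
    change rs O _ (rs O i s) ∈ _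
    rw [rs_rs]
    exact h1
  mem_of_local {U s} H k := by
    refine (P k).mem_of_local fun x hx => ?_
    obtain ⟨W, i, hxW, hW⟩ := H x hx.1
    refine ⟨W ⊓ V k, inf_le_inf_right (V k) i, ⟨hxW, hx.2⟩, ?_⟩
    have h1 := hW k
    change rs O _ (rs O i s) ∈ _ at h1
    rw [rs_rs] at h1
    change rs O _ (rs O _ s) ∈ _
    rw [rs_rs]
    exact h1

theorem sect_congr {K : IdealSh O} {U W : Opens T} (e : U = W) (i : U ≤ W) {s : O.obj.obj (op W)} :
    rs O i s ∈ K.sect U ↔ s ∈ K.sect W := by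
  subst e
  rw [rs_self]

theorem sect_glueSh {κ : Type*} {V : κ → Opens T} {P : κ → IdealSh O}
    (H : ∀ k l, ∀ W ≤ V k ⊓ V l, (P k).sect W = (P l).sect W) {k : κ} {W : Opens T} (hW : W ≤ V k) :
    (glueSh V P).sect W = (P k).sect W := by
  ext s
  constructor
  · intro hs
    exact (sect_congr (inf_eq_left.2 hW) inf_le_left).1 (hs k)
  · intro hs l
    rw [← H k l _ (inf_le_inf_right _ hW)]
    exact rs_mem (P k) _ hs

/-- The unit ideal. -/
def unitSh : IdealSh O where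
  sect _ := ⊤
  map_mem _ _ _ := trivial
  mem_of_local _ := trivial

theorem eq_unitSh {K : IdealSh O} (h : (1 : O.obj.obj (op ⊤)) ∈ K.sect ⊤) : K = unitSh := by
  refine IdealSh.ext (funext fun U => (Ideal.eq_top_iff_one _).2 ?_)
  have := rs_mem K (le_top : U ≤ ⊤) h
  rwa [map_one] at this

theorem mul_unitSh (K : IdealSh O) : IdealSh.mul K unitSh = K := by
  apply le_antisymm' (mul_le_left _ _)
  intro U s hs
  have : s * 1 ∈ (IdealSh.mul K unitSh).sect U := mul_mem_mul hs trivial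
  rwa [mul_one] at this

theorem sect_mul_of_unit {K L : IdealSh O} {U : Opens T} (hK : ∀ W ≤ U, K.sect W = ⊤) {W : Opens T} (hW : W ≤ U) :
    (IdealSh.mul K L).sect W = L.sect W := by
  apply le_antisymm (mul_le_right K L W)
  intro s hs
  have : 1 * s ∈ (IdealSh.mul K L).sect W := mul_mem_mul (by rw [hK W hW]; trivial) hs
  rwa [one_mul] at this

/-- Ideal sheaves form a commutative monoid. -/
@[instance_reducible] noncomputable def monoidSh : CommMonoid (IdealSh O) where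
  mul := IdealSh.mul
  mul_assoc := mul_assoc'
  one := unitSh
  one_mul K := (mul_comm' _ _).trans (mul_unitSh K)
  mul_one := mul_unitSh
  mul_comm := mul_comm'

attribute [local instance] monoidSh

theorem mul_def' (K L : IdealSh O) : K * L = IdealSh.mul K L := rfl

/-- Removing factors which are units on an open. -/
theorem sect_prod_of_unit {ι : Type*} [DecidableEq ι] (S S' : Finset ι) (hS : S ⊆ S') (K : ι → IdealSh O) {U : Opens T}
    (hK : ∀ i ∈ S' \ S, ∀ W ≤ U, (K i).sect W = ⊤) {W : Opens T} (hW : W ≤ U) :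
    (∏ i ∈ S', K i).sect W = (∏ i ∈ S, K i).sect W := by
  have h1 : ∀ (A : Finset ι), (∀ i ∈ A, ∀ W ≤ U, (K i).sect W = ⊤) → ∀ W ≤ U, (∏ i ∈ A, K i).sect W = ⊤ := by
    intro A
    induction A using Finset.induction_on with
    | empty =>
      intro _ W _
      rfl
    | insert a s ha ih =>
      intro hA W hW
      rw [Finset.prod_insert ha]
      refine (sect_mul_of_unit (hA a (Finset.mem_insert_self _ _)) hW).trans ?_
      exact ih (fun i hi => hA i (Finset.mem_insert_of_mem hi)) W hW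
  rw [← Finset.prod_sdiff hS]
  exact sect_mul_of_unit (h1 _ hK) hW

theorem sect_prod_eq {ι : Type*} [DecidableEq ι] (S S' : Finset ι) (K : ι → IdealSh O) {U : Opens T}
    (hK : ∀ i, i ∈ S → i ∉ S' → ∀ W ≤ U, (K i).sect W = ⊤) (hK' : ∀ i, i ∈ S' → i ∉ S → ∀ W ≤ U, (K i).sect W = ⊤)
    {W : Opens T} (hW : W ≤ U) : (∏ i ∈ S, K i).sect W = (∏ i ∈ S', K i).sect W := by
  rw [sect_prod_of_unit (S ∩ S') S Finset.inter_subset_left K (U := U) (fun i hi => ?_) hW,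
    sect_prod_of_unit (S ∩ S') S' Finset.inter_subset_right K (U := U) (fun i hi => ?_) hW]
  · rw [Finset.mem_sdiff, Finset.mem_inter] at hi
    exact hK' i hi.1 fun h => hi.2 ⟨h, hi.1⟩
  · rw [Finset.mem_sdiff, Finset.mem_inter] at hi
    exact hK i hi.1 fun h => hi.2 ⟨hi.1, h⟩

end Gen

variable {𝔛 𝔛' 𝔜 ℨ 𝔘 𝔚 : FSch.Sys.{u}} {R : Type u} [CommRing R] {I : Ideal R}
  {w : ∀ n, 𝔛.X n ⟶ Spec (CommRingCat.of R)}

attribute [local instance] monoidSh

/-- Restriction to an open only depends on the sections over opens in the range. -/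
theorem idealMap_congr {h𝔚 : 𝔚.IsFormal} {h : 𝔛.IsFormal} {j : 𝔚 ⟶ 𝔛} (hj : OpenImm j) {J K : IdealSh (𝔛.Osh h)}
    (e : ∀ V ≤ rg j hj, J.sect V = K.sect V) : idealMap j h𝔚 h J = idealMap j h𝔚 h K := by
  refine IdealSh.ext (funext fun W => ?_)
  obtain ⟨V, hV, rfl⟩ := exists_pre_eq hj W
  ext s
  obtain ⟨s, rfl⟩ := (sh_bijective h𝔚 h hj hV).2 s
  rw [sh_mem_idealMap_iff h𝔚 h hj hV, sh_mem_idealMap_iff h𝔚 h hj hV, e V hV]

theorem sect_eq_of_idealMap {h𝔚 : 𝔚.IsFormal} {h : 𝔛.IsFormal} {j : 𝔚 ⟶ 𝔛} (hj : OpenImm j) {J K : IdealSh (𝔛.Osh h)}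
    (e : idealMap j h𝔚 h J = idealMap j h𝔚 h K) {V : (𝔛.X 0).Opens} (hV : V ≤ rg j hj) : J.sect V = K.sect V := by
  ext s
  rw [← sh_mem_idealMap_iff h𝔚 h hj hV J, ← sh_mem_idealMap_iff h𝔚 h hj hV K, e]

theorem lgn_of_local {h : 𝔛.IsFormal} {hw : AdicOver 𝔛 I w} {J : IdealSh (𝔛.Osh h)}
    (H : ∀ x : 𝔛.X 0, ∃ U : (𝔛.X 0).Opens, x ∈ U ∧ ∃ K : IdealSh (𝔛.Osh h), LGn h hw K ∧ ∀ V ≤ U, J.sect V = K.sect V) :
    LGn h hw J := by
  intro x V₀ hx
  obtain ⟨U, hxU, K, hK, e⟩ := H x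
  obtain ⟨C, hC, hCle⟩ := hK x (U ⊓ V₀) ⟨hxU, hx⟩
  refine ⟨⟨C.sys, C.hs, C.j, C.hj, C.aff, C.𝔟, C.fg, C.k, C.hk, ?_⟩, hC, hCle.trans inf_le_right⟩
  rw [← C.e]
  exact idealMap_congr C.hj fun V hV => e V (hV.trans (hCle.trans inf_le_left))

/-- On quasi-paracompact systems, locally generated open ideals are coherent open ideals. -/
theorem isCohOpen_of_qPar (hI : I.FG) {h : 𝔛.IsFormal} {hw : AdicOver 𝔛 I w} (hLN : ∀ n, LNS (𝔛.X n))
    [QuasiSeparatedSpace (𝔛.X 0)] (hqp : QPar (𝔛.X 0)) {J : IdealSh (𝔛.Osh h)} (hJ : LGn h hw J) : IsCohOpen 𝔛 h J := by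
  intro x
  obtain ⟨C, hC, -⟩ := hJ x ⊤ trivial
  have := C.aff
  obtain ⟨K, hK1, hK2, -⟩ := exists_extension hI h hw hLN hqp C.hs C.hj (LGn.idealMap hJ C.hs (C.hj.isAdicHom C.hs h))
  obtain ⟨U, hxU, n, 𝒜, h𝒜, e⟩ := hK1 x
  refine ⟨U ⊓ rg C.j C.hj, ⟨hxU, hC⟩, n, 𝒜, h𝒜, fun V hV => ?_⟩
  rw [← e V (hV.trans inf_le_left)]
  exact (sect_eq_of_idealMap C.hj hK2 (hV.trans inf_le_right)).symm

/-- The unit ideal is locally generated. -/
theorem LGn.unit {h : 𝔛.IsFormal} {hw : AdicOver 𝔛 I w} : LGn h hw (unitSh : IdealSh (𝔛.Osh h)) := by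
  intro x V₀ hx
  obtain ⟨V, hV, hxV, hle⟩ := exists_affine_nhd x V₀ hx
  have hF := isFormal_restrictOpen h V
  have hj : OpenImm (𝔛.restrictOpenι h V) := openImm_restrictOpenι h V
  have hrg : rg (𝔛.restrictOpenι h V) hj = V := rg_restrictOpenι h V
  have := isAffine_restrictOpen h hV
  refine ⟨⟨_, hF, _, hj, this, ⊤, Ideal.fg_top _, 0, ?_, ?_⟩, hrg.ge hxV, hrg.le.trans hle⟩
  · exact le_top
  · refine (eq_unitSh ?_).trans (eq_unitSh (mem_gn_top (𝔟 := ⊤) (Submodule.mem_top))).symm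
    have h1 := sh_mem_idealMap hF h (𝔛.restrictOpenι h V) (unitSh : IdealSh (𝔛.Osh h)) (U := ⊤) (s := 1) trivial
    rw [map_one] at h1
    exact h1

theorem LGn.prod {h : 𝔛.IsFormal} {hw : AdicOver 𝔛 I w} {ι : Type*} (S : Finset ι) {K : ι → IdealSh (𝔛.Osh h)}
    (hK : ∀ i, LGn h hw (K i)) : LGn h hw (∏ i ∈ S, K i) := by
  classical
  induction S using Finset.induction_on with
  | empty => exact LGn.unit
  | insert a s ha ih =>
    rw [Finset.prod_insert ha]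
    exact LGn.mul (hK a) ih

/-- Locally finite products of ideals on a cover of finite type. -/
theorem exists_locProd {h : 𝔛.IsFormal} {ι : Type u} (V : ι → (𝔛.X 0).Opens) (hV : (⨆ i, V i) = ⊤)
    (hVf : ∀ i, Set.Finite {j : ι | V i ⊓ V j ≠ ⊥}) (K : ι → IdealSh (𝔛.Osh h))
    (hK : ∀ i, ∀ U : (𝔛.X 0).Opens, U ⊓ V i = ⊥ → (K i).sect U = ⊤) :
    ∃ (J : IdealSh (𝔛.Osh h)) (S : ι → Finset ι), (∀ i, i ∈ S i) ∧
      ∀ i, ∀ U ≤ V i, J.sect U = (∏ j ∈ S i, K j).sect U := by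
  classical
  let S : ι → Finset ι := fun i => insert i (hVf i).toFinset
  have hS : ∀ i j, j ∉ S i → ∀ U ≤ V i, (K j).sect U = ⊤ := by
    intro i j hj U hU
    have h1 : V i ⊓ V j = ⊥ := by
      by_contra h1
      exact hj (Finset.mem_insert_of_mem ((Set.Finite.mem_toFinset _).2 h1))
    exact hK j U (le_bot_iff.1 ((inf_le_inf_right _ hU).trans h1.le))
  refine ⟨glueSh V fun i => ∏ j ∈ S i, K j, S, fun i => Finset.mem_insert_self _ _, fun i U hU => ?_⟩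
  refine sect_glueSh (fun k l W hW => ?_) hU
  refine sect_prod_eq (S k) (S l) K (U := V k ⊓ V l) (fun i _ hi W hW => ?_) (fun i _ hi W hW => ?_) hW
  · exact hS l i hi W (hW.trans inf_le_right)
  · exact hS k i hi W (hW.trans inf_le_left)

/-- The square of `Hom.restrictOpen` is cartesian. -/
theorem cart_restrictOpen {h' : 𝔛'.IsFormal} {h : 𝔛.IsFormal} (b : 𝔛' ⟶ 𝔛) (V : (𝔛.X 0).Opens) :
    Cart (𝔛'.restrictOpenι h' (((b : Hom 𝔛' 𝔛).app 0) ⁻¹ᵁ V)) (FSch.Hom.restrictOpen b h' h V) b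
      (𝔛.restrictOpenι h V) := fun n => by
  have key : ∀ (W : (𝔛'.X n).Opens) (e : W = ((b : Hom 𝔛' 𝔛).app n) ⁻¹ᵁ (𝔛.lvU h n V))
      (e' : W ≤ ((b : Hom 𝔛' 𝔛).app n) ⁻¹ᵁ (𝔛.lvU h n V)),
      IsPullback W.ι (((b : Hom 𝔛' 𝔛).app n).resLE (𝔛.lvU h n V) W e') ((b : Hom 𝔛' 𝔛).app n) (𝔛.lvU h n V).ι := by
    rintro W rfl e'
    rw [Scheme.Hom.resLE_eq_morphismRestrict]
    exact (isPullback_morphismRestrict _ _).flip
  exact key _ (Hom.lvU_preimage b h' h n V).symm _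

/-- Domination of blow-ups of the members of a cover. -/
theorem exists_dominating (hI : I.FG) {h : 𝔛.IsFormal} {hw : AdicOver 𝔛 I w} (hL : LG h I w hw.compat)
    (hLN : ∀ n, LNS (𝔛.X n)) [QuasiSeparatedSpace (𝔛.X 0)] {ι : Type u} (V : ι → (𝔛.X 0).Opens) (hV : (⨆ i, V i) = ⊤)
    (hVc : ∀ i, IsCompact (V i : Set (𝔛.X 0))) (hVf : ∀ i, Set.Finite {j : ι | V i ⊓ V j ≠ ⊥})
    (hVi : ∀ i, (𝔛.restrictOpen h (V i)).IsFormal) (Ji : ∀ i, IdealSh ((𝔛.restrictOpen h (V i)).Osh (hVi i)))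
    (hJi : ∀ i, IsCohOpen (𝔛.restrictOpen h (V i)) (hVi i) (Ji i)) :
    ∃ (J : IdealSh (𝔛.Osh h)) (𝔛' : FSch.Sys.{u}) (h' : 𝔛'.IsFormal) (b : 𝔛' ⟶ 𝔛),
      IsCohOpen 𝔛 h J ∧ IsAdmBlowUp b h' h J ∧ ∀ i, ∀ (𝔚 : FSch.Sys.{u}) (h𝔚 : 𝔚.IsFormal) (j' : 𝔚 ⟶ 𝔛')
        (b' : 𝔚 ⟶ 𝔛.restrictOpen h (V i)), Cart j' b' b (𝔛.restrictOpenι h (V i)) →
        (idealMap b' h𝔚 (hVi i) (Ji i)).IsInvertible := by
  classical
  have hj : ∀ i, OpenImm (𝔛.restrictOpenι h (V i)) := fun i => openImm_restrictOpenι h (V i)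
  have hrg : ∀ i, rg (𝔛.restrictOpenι h (V i)) (hj i) = V i := fun i => rg_restrictOpenι h (V i)
  have hex : ∀ i, ∃ K : IdealSh (𝔛.Osh h), IsCohOpen 𝔛 h K ∧ idealMap (𝔛.restrictOpenι h (V i)) (hVi i) h K = Ji i ∧
      ∀ U : (𝔛.X 0).Opens, U ⊓ V i = ⊥ → K.sect U = ⊤ := fun i => by
    have hc : CompactSpace ((𝔛.restrictOpen h (V i)).X 0) := isCompact_iff_compactSpace.1 (isCompact_lvU h 0 (hVc i))
    obtain ⟨K, h1, h2, h3⟩ := exists_extension hI h hw hLN ⟨ι, V, hV, hVc, hVf⟩ (hVi i) (hj i)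
      (lgn_of_isCohOpen hI (hVi i) (hw.comp h ((hj i).isAdicHom (hVi i) h)) (hJi i))
    exact ⟨K, h1, h2, fun U hU => h3 U (by rw [hrg]; exact hU)⟩
  choose K hK1 hK2 hK3 using hex
  obtain ⟨J, S, hS, hJ⟩ := exists_locProd V hV hVf K hK3
  have hKn : ∀ i, LGn h hw (K i) := fun i => lgn_of_isCohOpen hI h hw (hK1 i)
  have hcov : ∀ x : 𝔛.X 0, ∃ i, x ∈ V i := fun x => by
    have : x ∈ (⨆ i, V i) := hV ▸ trivial
    simpa only [Opens.mem_iSup] using this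
  have hJn : LGn h hw J := lgn_of_local fun x => by
    obtain ⟨i, hi⟩ := hcov x
    exact ⟨V i, hi, _, LGn.prod (S i) hKn, hJ i⟩
  obtain ⟨𝔛', h', b, hb⟩ := Exist.exists_isAdmBlowUp hI hL hJn
  refine ⟨J, 𝔛', h', b, isCohOpen_of_qPar hI hLN ⟨ι, V, hV, hVc, hVf⟩ hJn, hb, fun i 𝔚 h𝔚 j' b' hC => ?_⟩
  have h1 := (IsAdmBlowUp.restrict hb hC (hj i) h𝔚 (hVi i)).2.1
  have h2 : idealMap (𝔛.restrictOpenι h (V i)) (hVi i) h J =
      IdealSh.mul (Ji i) (idealMap (𝔛.restrictOpenι h (V i)) (hVi i) h (∏ j ∈ (S i).erase i, K j)) := by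
    rw [← hK2 i, ← idealMap_mul, ← mul_def', Finset.mul_prod_erase _ _ (hS i)]
    exact idealMap_congr (hj i) fun U hU => hJ i U (hU.trans (hrg i).le)
  rw [h2, idealMap_mul, isInvertible_mul_iff (locStalk_Osh h𝔚)] at h1
  exact h1.1

end K788.Dom
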