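import Groth.Agent.FBlow.K788.Dom

/-!
# Domination of compositions of admissible blow-ups
-/

set_option autoImplicit false
set_option linter.unusedVariables false

universe u

open CategoryTheory CategoryTheory.Limits TopologicalSpace Opposite AlgebraicGeometry

namespace K788.Dom2

open FSch FBlow K788.Osh K788.IdSh K788.GenL K788.SysB K788.IdMap K788.Restr K788.Aff K788.AffSch K788.UP K788.Inv K788.SpfB
open K788.AffStr K788.Crt K788.AffV K788.CohL K788.ARed K788.LocB K788.LocC K788.Glob K788.CohC K788.LNoeth K788.Lev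
open K788.MapC K788.AMap K788.Prod K788.Comp K788.Ext K788.Dom Groth.Agent.Divis.BlowChart Groth.Agent.Divis.IdealFT
open Groth.Agent.Fcompl.H552.IdealSpec Groth.Agent.Divis.BlowTwist Groth.Agent.Divis.IdealComap

variable {𝔛 𝔛' 𝔜 ℨ 𝔘 𝔚 : FSch.Sys.{u}} {R : Type u} [CommRing R] {I : Ideal R}
  {w : ∀ n, 𝔛.X n ⟶ Spec (CommRingCat.of R)}

/-- Lifts through morphisms which are locally admissible blow-ups. -/
theorem existsUnique_lift_of_cover (h𝔜 : 𝔜.IsFormal) (h : 𝔛.IsFormal) (f : 𝔚 ⟶ 𝔛) {g : 𝔜 ⟶ 𝔛} (hg : IsAdicHom g)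
    (H : ∀ x : 𝔛.X 0, ∃ (𝔘 𝔘' : FSch.Sys.{u}) (h𝔘 : 𝔘.IsFormal) (h𝔘' : 𝔘'.IsFormal) (j : 𝔘 ⟶ 𝔛) (hj : OpenImm j)
      (j' : 𝔘' ⟶ 𝔚) (f' : 𝔘' ⟶ 𝔘) (L : IdealSh (𝔘.Osh h𝔘)), x ∈ rg j hj ∧ Cart j' f' f j ∧ IsAdmBlowUp f' h𝔘' h𝔘 L ∧
      ∀ hF, (idealMap (pullbackSnd g j) hF h𝔘 L).IsInvertible) : ∃! s : 𝔜 ⟶ 𝔚, s ≫ f = g := by
  refine existsUnique_lift_sys h𝔜 f g (fun 𝔙 h𝔙 j₁ hj₁ k₁ k₂ e₁ e₂ => ?_) fun y => ?_
  · refine hom_ext_local h𝔙 k₁ k₂ fun v => ?_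
    obtain ⟨𝔘, 𝔘', h𝔘, h𝔘', j, hj, j', f', L, hx, hC, hb', hinv⟩ := H (((j₁ ≫ g : 𝔙 ⟶ 𝔛) : Hom 𝔙 𝔛).app 0 v)
    have hF : (pullbackSys (j₁ ≫ g) j).IsFormal :=
      isFormal_of_isAdicHom (isAdicHom_pullbackFst (j₁ ≫ g) (hj.isAdicHom h𝔘 h)) h𝔙
    have hF' : (pullbackSys g j).IsFormal :=
      isFormal_of_isAdicHom (isAdicHom_pullbackFst g (hj.isAdicHom h𝔘 h)) h𝔜
    refine ⟨_, hF, pullbackFst (j₁ ≫ g) j, openImm_pullbackFst _ hj, (mem_rg_pullbackFst _ hj).2 hx, ?_⟩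
    have hw := pullbackSys_condition' (j₁ ≫ g) j
    obtain ⟨l₁, hl₁, hl₁'⟩ := hC.exists_lift (pullbackFst (j₁ ≫ g) j ≫ k₁) (pullbackSnd (j₁ ≫ g) j)
      (by rw [Category.assoc, e₁, hw])
    obtain ⟨l₂, hl₂, hl₂'⟩ := hC.exists_lift (pullbackFst (j₁ ≫ g) j ≫ k₂) (pullbackSnd (j₁ ≫ g) j)
      (by rw [Category.assoc, e₂, hw])
    have hadic : IsAdicHom (pullbackSnd (j₁ ≫ g) j) :=
      isAdicHom_pullbackSnd (isAdicHom_comp (hj₁.isAdicHom h𝔙 h𝔜) hg) j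
    obtain ⟨l, hl, hl'⟩ := (cart_pullback g j).exists_lift (pullbackFst (j₁ ≫ g) j ≫ j₁) (pullbackSnd (j₁ ≫ g) j)
      (by rw [Category.assoc, hw])
    have hlo : OpenImm l := openImm_of_comp (openImm_pullbackFst g hj)
      (by rw [hl]; exact (openImm_pullbackFst _ hj).comp hj₁)
    have hi : (idealMap (pullbackSnd (j₁ ≫ g) j) hF h𝔘 L).IsInvertible := by
      rw [← hl', idealMap_comp hF hF' h𝔘]
      exact isInvertible_idealMap hF hF' hlo (hinv hF')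
    rw [← hl₁, ← hl₂, (hb'.2.2 _ hF _ hadic hi).unique hl₁' hl₂']
  · obtain ⟨𝔘, 𝔘', h𝔘, h𝔘', j, hj, j', f', L, hx, hC, hb', hinv⟩ := H (((g : 𝔜 ⟶ 𝔛) : Hom 𝔜 𝔛).app 0 y)
    have hF : (pullbackSys g j).IsFormal :=
      isFormal_of_isAdicHom (isAdicHom_pullbackFst g (hj.isAdicHom h𝔘 h)) h𝔜
    refine ⟨_, hF, pullbackFst g j, openImm_pullbackFst _ hj, (mem_rg_pullbackFst _ hj).2 hx, ?_⟩
    have hw := pullbackSys_condition' g j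
    obtain ⟨l, hl, -⟩ := hb'.2.2 _ hF _ (isAdicHom_pullbackSnd hg j) (hinv hF)
    exact ⟨l ≫ j', by rw [Category.assoc, hC.w, ← Category.assoc, hl, hw]⟩

/-- Domination of a composition of admissible blow-ups on a quasi-paracompact system. -/
theorem exists_dominating_comp (hI : I.FG) {h : 𝔛.IsFormal} {hw : AdicOver 𝔛 I w} (hL : LG h I w hw.compat)
    (hLN : ∀ n, LNS (𝔛.X n)) [QuasiSeparatedSpace (𝔛.X 0)] (hqp : QPar (𝔛.X 0))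
    {J : IdealSh (𝔛.Osh h)} (hJ : LGn h hw J) {h' : 𝔛'.IsFormal} {b : 𝔛' ⟶ 𝔛} (hb : IsAdmBlowUp b h' h J)
    {J' : IdealSh (𝔛'.Osh h')} (hJ' : LGn h' (hw.comp h hb.1) J')
    {𝔛'' : FSch.Sys.{u}} {h'' : 𝔛''.IsFormal} {b' : 𝔛'' ⟶ 𝔛'} (hb' : IsAdmBlowUp b' h'' h' J') :
    ∃ (J''' : IdealSh (𝔛.Osh h)) (𝔛''' : FSch.Sys.{u}) (h''' : 𝔛'''.IsFormal) (c : 𝔛''' ⟶ 𝔛),
      IsCohOpen 𝔛 h J''' ∧ IsAdmBlowUp c h''' h J''' ∧ ∃ s : 𝔛''' ⟶ 𝔛'', s ≫ b' ≫ b = c := by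
  obtain ⟨ι, V, hV, hVc, hVf⟩ := hqp
  have hVi : ∀ i, (𝔛.restrictOpen h (V i)).IsFormal := fun i => isFormal_restrictOpen h (V i)
  have hj : ∀ i, OpenImm (𝔛.restrictOpenι h (V i)) := fun i => openImm_restrictOpenι h (V i)
  have hrg : ∀ i, rg (𝔛.restrictOpenι h (V i)) (hj i) = V i := fun i => rg_restrictOpenι h (V i)
  have hcov : ∀ x : 𝔛.X 0, ∃ i, x ∈ V i := fun x => by
    have : x ∈ (⨆ i, V i) := hV ▸ trivial
    simpa only [Opens.mem_iSup] using this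
  have key : ∀ i, ∃ (Ji : IdealSh ((𝔛.restrictOpen h (V i)).Osh (hVi i))) (𝔘' : FSch.Sys.{u}) (h𝔘' : 𝔘'.IsFormal)
      (j'' : 𝔘' ⟶ 𝔛'') (f' : 𝔘' ⟶ 𝔛.restrictOpen h (V i)), IsCohOpen (𝔛.restrictOpen h (V i)) (hVi i) Ji ∧
      Cart j'' f' (b' ≫ b) (𝔛.restrictOpenι h (V i)) ∧ IsAdmBlowUp f' h𝔘' (hVi i) Ji := by
    intro i
    have hc : CompactSpace ((𝔛.restrictOpen h (V i)).X 0) := isCompact_iff_compactSpace.1 (isCompact_lvU h 0 (hVc i))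
    have ho : IsOpenImmersion ((𝔛.restrictOpenι h (V i) : Hom _ 𝔛).app 0) := hj i 0
    have hqs : QuasiSeparatedSpace ((𝔛.restrictOpen h (V i)).X 0) :=
      QuasiSeparatedSpace.of_isOpenEmbedding ((𝔛.restrictOpenι h (V i) : Hom _ 𝔛).app 0).isOpenEmbedding
    have hc1 := cart_pullback b (𝔛.restrictOpenι h (V i))
    have ho1 : OpenImm (pullbackFst b (𝔛.restrictOpenι h (V i))) := openImm_pullbackFst b (hj i)
    have hF1 : (pullbackSys b (𝔛.restrictOpenι h (V i))).IsFormal :=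
      isFormal_of_isAdicHom (isAdicHom_pullbackFst b ((hj i).isAdicHom (hVi i) h)) h'
    have hb1 := IsAdmBlowUp.restrict hb hc1 (hj i) hF1 (hVi i)
    have hc2 := cart_pullback b' (pullbackFst b (𝔛.restrictOpenι h (V i)))
    have hF2 : (pullbackSys b' (pullbackFst b (𝔛.restrictOpenι h (V i)))).IsFormal :=
      isFormal_of_isAdicHom (isAdicHom_pullbackFst b' (ho1.isAdicHom hF1 h')) h''
    have hb2 := IsAdmBlowUp.restrict hb' hc2 ho1 hF2 hF1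
    have hJt : LGn hF1 ((hw.comp h ((hj i).isAdicHom (hVi i) h)).comp (hVi i) hb1.1)
        (idealMap (pullbackFst b (𝔛.restrictOpenι h (V i))) hF1 h' J') := by
      have h1 := LGn.idealMap hJ' hF1 (ho1.isAdicHom hF1 h')
      have e : (fun n => ((pullbackFst b (𝔛.restrictOpenι h (V i)) : Hom _ _).app n ≫ (b : Hom 𝔛' 𝔛).app n ≫ w n)) =
          fun n => ((pullbackSnd b (𝔛.restrictOpenι h (V i)) : Hom _ _).app n ≫
            ((𝔛.restrictOpenι h (V i)) : Hom _ 𝔛).app n ≫ w n) := by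
        funext n
        have e1 := congrArg (fun t : Hom _ _ => t.app n) hc1.w
        have e2 : (pullbackFst b (𝔛.restrictOpenι h (V i)) : Hom _ _).app n ≫ (b : Hom 𝔛' 𝔛).app n =
          (pullbackSnd b (𝔛.restrictOpenι h (V i)) : Hom _ _).app n ≫ ((𝔛.restrictOpenι h (V i)) : Hom _ 𝔛).app n := e1
        rw [← Category.assoc, e2, Category.assoc]
      exact LGn.congr e h1
    obtain ⟨Ji, hJi, hbi⟩ := exists_isAdmBlowUp_comp hI (hw := hw.comp h ((hj i).isAdicHom (hVi i) h))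
      (hL.restrict (hVi i) (hj i) _) (LGn.idealMap hJ (hVi i) ((hj i).isAdicHom (hVi i) h)) hb1 hJt hb2
    exact ⟨Ji, _, hF2, _, _, hJi, fun n => (hc2 n).paste_vert (hc1 n), hbi⟩
  choose Ji 𝔘' h𝔘' j'' f' hJi hC hbi using key
  obtain ⟨J''', 𝔛''', h''', c, hJ''', hc, H⟩ := exists_dominating hI (hw := hw) hL hLN V hV hVc hVf hVi Ji hJi
  refine ⟨J''', 𝔛''', h''', c, hJ''', hc, ?_⟩
  obtain ⟨s, hs, -⟩ := existsUnique_lift_of_cover h''' h (b' ≫ b) hc.1 fun x => by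
    obtain ⟨i, hi⟩ := hcov x
    exact ⟨_, _, hVi i, h𝔘' i, 𝔛.restrictOpenι h (V i), hj i, j'' i, f' i, Ji i, (hrg i).ge hi, hC i, hbi i,
      fun hF => H i _ hF _ _ (cart_pullback c (𝔛.restrictOpenι h (V i)))⟩
  exact ⟨s, hs⟩

end K788.Dom2
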