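import Groth.Agent.FBlow.K788.Glob
import Groth.Prelude.Def_W4bk4boschfrg79
import Mathlib.AlgebraicGeometry.Morphisms.FinitePresentation

/-!
# Admissible formal schemes satisfy the condition `LG`
-/

set_option autoImplicit false

universe u

open CategoryTheory CategoryTheory.Limits TopologicalSpace Opposite AlgebraicGeometry

namespace K788.Hyp

open FSch FBlow K788.Osh K788.IdSh K788.GenL K788.SysB K788.IdMap K788.Restr K788.Aff K788.AffSch K788.UP K788.Inv K788.SpfB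
open K788.AffStr K788.Crt K788.AffV K788.CohL K788.ARed K788.LocB K788.LocC K788.Glob

variable {𝔛 𝔛' 𝔜 ℨ 𝔘 𝔚 : FSch.Sys.{u}} {R : Type u} [CommRing R] {I : Ideal R}

theorem fg_of_isBase (hR : AdicRing.IsBase R I) : I.FG := by
  rcases hR.2 with ⟨h1, -⟩ | ⟨-, -, -, t, -, rfl⟩
  · exact IsNoetherian.noetherian I
  · exact ⟨{t}, by rw [Finset.coe_singleton]⟩

/-- The structure of an adic system over `R` on a system adic over `Spf R`. -/
theorem adicOver_of_isAdicHom {p : 𝔛 ⟶ spf R I} (hp : IsAdicHom p) :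
    AdicOver 𝔛 I (fun n => (p : Hom 𝔛 (spf R I)).app n ≫ spfToSpec R I n) :=
  (adicOver_spf I).comp (isFormal_spf I) hp

theorem lg_of_isBase (hR : AdicRing.IsBase R I) (h : 𝔛.IsFormal) {p : 𝔛 ⟶ spf R I} (hp : IsAdicHom p)
    (hfp : ∀ n, LocallyOfFiniteType ((p : Hom 𝔛 (spf R I)).app n))
    (htf : ∀ (U : (𝔛.X 0).Opens) (s : (𝔛.Osh h).obj.obj (op U)),
      (∀ a ∈ (IdealSh.ker (𝔛.OshProj h 0)).sect U, a * s = 0) → s = 0) :
    LG h I (fun n => (p : Hom 𝔛 (spf R I)).app n ≫ spfToSpec R I n) (adicOver_of_isAdicHom hp).compat := by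
  have hI := fg_of_isBase hR
  rcases hR.2 with ⟨h1, -⟩ | ⟨-, -, -, t, ht, rfl⟩
  · left
    intro n
    have := hfp n
    have h3 : IsLocallyNoetherian ((spf R I).X n) :=
      (inferInstance : IsLocallyNoetherian (Spec (CommRingCat.of (R ⧸ I ^ (n + 1)))))
    exact LocallyOfFiniteType.isLocallyNoetherian ((p : Hom 𝔛 (spf R I)).app n)
  · right
    refine ⟨t, rfl, fun V i s hs => htf V s fun a ha => ?_⟩
    refine eq_of_local (O := 𝔛.Osh h) fun x hx => ?_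
    obtain ⟨V', hV', hxV', hle⟩ := exists_affine_nhd x V hx
    refine ⟨V', hle, hxV', ?_⟩
    have ha' : pr 𝔛 h 0 V' (rs (𝔛.Osh h) hle a) = 0 := by
      have h2 : pr 𝔛 h 0 V a = 0 := ha
      refine (pr_res h 0 hle a).trans ?_
      rw [h2, map_zero]
    obtain ⟨-, h4⟩ := pr_affineOpen h hI (adicOver_of_isAdicHom hp) hV' 0
    have h5 : rs (𝔛.Osh h) hle a ∈ RingHom.ker (pr 𝔛 h 0 V') := ha'
    rw [h4, zero_add, pow_one, Ideal.map_span, Set.image_singleton, Ideal.mem_span_singleton] at h5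
    obtain ⟨c, hc⟩ := h5
    have e2 := congrArg (rs (𝔛.Osh h) hle) hs
    rw [map_mul, rs_rs, map_zero] at e2
    rw [map_mul, map_zero, hc, mul_assoc, mul_comm c, ← mul_assoc, mul_comm _ (rs (𝔛.Osh h) hle s)]
    have e3 : rs (𝔛.Osh h) hle s * ((rs (𝔛.Osh h) (le_top : V' ≤ ⊤)).comp (sg h _ (adicOver_of_isAdicHom hp).compat)) t = 0 := e2
    rw [e3, zero_mul]

/-- Blow-ups of products. -/
theorem isAdmBlowUp_comp_mul {w : ∀ n, 𝔛.X n ⟶ Spec (CommRingCat.of R)} (hI : I.FG) {h : 𝔛.IsFormal} {hw : AdicOver 𝔛 I w}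
    (hL : LG h I w hw.compat) {J K : IdealSh (𝔛.Osh h)} (hJ : LGn h hw J) (hK : LGn h hw K) {h' : 𝔛'.IsFormal}
    {b : 𝔛' ⟶ 𝔛} (hb : IsAdmBlowUp b h' h J) {𝔛'' : FSch.Sys.{u}} {h'' : 𝔛''.IsFormal} {b' : 𝔛'' ⟶ 𝔛'}
    (hb' : IsAdmBlowUp b' h'' h' (idealMap b h' h K)) : IsAdmBlowUp (b' ≫ b) h'' h (IdealSh.mul J K) := by
  refine ⟨isAdicHom_comp hb'.1 hb.1, ?_, fun 𝔜 h𝔜 g hg hinv => ?_⟩
  · rw [idealMap_comp h'' h' h, idealMap_mul, idealMap_mul]
    refine isInvertible_mul ?_ hb'.2.1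
    exact isInvertible_pullback hI (lg_of_isAdmBlowUp hI hL hJ hb) (hK.idealMap h' hb.1) (hJ.idealMap h' hb.1) hb.2.1 hb'
  · rw [idealMap_mul, isInvertible_mul_iff (locStalk_Osh h𝔜)] at hinv
    obtain ⟨k, hk, huniq⟩ := hb.2.2 𝔜 h𝔜 g hg hinv.1
    have hka : IsAdicHom k := isAdicHom_of_comp hb.1 (by rw [hk]; exact hg)
    have hi : (idealMap k h𝔜 h' (idealMap b h' h K)).IsInvertible := by
      rw [← idealMap_comp, hk]
      exact hinv.2
    obtain ⟨l, hl, huniq'⟩ := hb'.2.2 𝔜 h𝔜 k hka hi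
    refine ⟨l, show l ≫ b' ≫ b = g by rw [← Category.assoc, hl, hk], fun m hm => ?_⟩
    have hm1 : m ≫ b' ≫ b = g := hm
    exact huniq' m (huniq (m ≫ b') (show (m ≫ b') ≫ b = g by rw [Category.assoc]; exact hm1))

end K788.Hyp
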