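import Groth.Agent.FBlow.K788.Glue
import Groth.Agent.FBlow.K788.Hyp

/-!
# Existence of admissible formal blow-ups
-/

set_option autoImplicit false
set_option linter.unusedVariables false

universe u

open CategoryTheory CategoryTheory.Limits TopologicalSpace Opposite AlgebraicGeometry

namespace K788.Exist

open FSch FBlow K788.Osh K788.IdSh K788.GenL K788.SysB K788.IdMap K788.Restr K788.Aff K788.AffSch K788.UP K788.Inv K788.SpfB
open K788.AffStr K788.Crt K788.AffV K788.CohL K788.ARed K788.LocB K788.LocC K788.Glob K788.Glue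
open Groth.Agent.Divis.BlowChart Groth.Agent.Fcompl.H552.IdealSpec Groth.Agent.Divis.BlowTwist

variable {𝔛 𝔛' 𝔜 ℨ 𝔘 𝔚 𝔚' 𝔚'' : FSch.Sys.{u}} {R : Type u} [CommRing R] {I : Ideal R}

theorem isIso_app (e : 𝔛 ≅ 𝔛') (n : ℕ) : IsIso ((e.hom : Hom 𝔛 𝔛').app n) :=
  ⟨(e.inv : Hom 𝔛' 𝔛).app n, congrArg (fun t : Hom _ _ => t.app n) e.hom_inv_id,
    congrArg (fun t : Hom _ _ => t.app n) e.inv_hom_id⟩

/-- Replacing the corner of a cartesian square by an isomorphic one. -/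
theorem Cart.ofIso {j' : 𝔚' ⟶ 𝔛'} {b' : 𝔚' ⟶ 𝔚} {b : 𝔛' ⟶ 𝔛} {j : 𝔚 ⟶ 𝔛} (hC : Cart j' b' b j) (e : 𝔚'' ≅ 𝔚') :
    Cart (e.hom ≫ j') (e.hom ≫ b') b j := fun n => by
  have h1 := isIso_app e n
  have h3 : IsPullback ((e.hom : Hom 𝔚'' 𝔚').app n) ((e.hom : Hom 𝔚'' 𝔚').app n ≫ (b' : Hom 𝔚' 𝔚).app n)
    ((b' : Hom 𝔚' 𝔚).app n) (𝟙 _) := by
    refine IsPullback.of_horiz_isIso ⟨?_⟩
    rw [Category.comp_id]
  have h4 := h3.paste_horiz (hC n)
  rw [Category.id_comp] at h4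
  exact h4

/-- An open immersion is isomorphic to the restriction to its range. -/
theorem exists_iso_restrictOpen (h𝔚 : 𝔚.IsFormal) (h : 𝔛.IsFormal) {j : 𝔚 ⟶ 𝔛} (hj : OpenImm j) :
    ∃ e : 𝔚 ≅ 𝔛.restrictOpen h (rg j hj), e.hom ≫ 𝔛.restrictOpenι h (rg j hj) = j := by
  have hρ := openImm_restrictOpenι h (rg j hj)
  have hrg := rg_restrictOpenι h (rg j hj)
  obtain ⟨a, ha⟩ := hρ.exists_lift h𝔚 j fun y => by
    have : ((j : Hom 𝔚 𝔛).app 0) y ∈ rg (𝔛.restrictOpenι h (rg j hj)) hρ := hrg.ge ⟨y, rfl⟩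
    exact this
  obtain ⟨b, hb⟩ := hj.exists_lift (isFormal_restrictOpen h (rg j hj)) (𝔛.restrictOpenι h (rg j hj)) fun y => by
    have : ((𝔛.restrictOpenι h (rg j hj) : Hom _ 𝔛).app 0) y ∈ rg j hj := hrg.le ⟨y, rfl⟩
    exact this
  exact ⟨⟨a, b, hj.cancel (by rw [Category.assoc, hb, ha, Category.id_comp]),
    hρ.cancel (by rw [Category.assoc, ha, hb, Category.id_comp])⟩, ha⟩

/-- The opens over which the blow-up exists. -/
def Good (h : 𝔛.IsFormal) (J : IdealSh (𝔛.Osh h)) (V : (𝔛.X 0).Opens) : Prop :=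
  ∃ (𝔓 : FSch.Sys.{u}) (h𝔓 : 𝔓.IsFormal) (c : 𝔓 ⟶ 𝔛.restrictOpen h V),
    IsAdmBlowUp c h𝔓 (isFormal_restrictOpen h V) (idealMap (𝔛.restrictOpenι h V) (isFormal_restrictOpen h V) h J)

variable {h : 𝔛.IsFormal} {J : IdealSh (𝔛.Osh h)}

theorem pull_incl {V V' : (𝔛.X 0).Opens} (i : V ≤ V') {𝔓 : FSch.Sys.{u}} {h𝔓 : 𝔓.IsFormal}
    {c : 𝔓 ⟶ 𝔛.restrictOpen h V'}
    (hc : IsAdmBlowUp c h𝔓 (isFormal_restrictOpen h V')
      (idealMap (𝔛.restrictOpenι h V') (isFormal_restrictOpen h V') h J)) :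
    ∃ h𝔓' : (pullbackSys c (incl h i)).IsFormal, IsAdmBlowUp (pullbackSnd c (incl h i)) h𝔓' (isFormal_restrictOpen h V)
      (idealMap (𝔛.restrictOpenι h V) (isFormal_restrictOpen h V) h J) := by
  have h𝔓' : (pullbackSys c (incl h i)).IsFormal :=
    isFormal_of_isAdicHom ((cart_pullback c (incl h i)).isAdicHom hc.1) (isFormal_restrictOpen h V)
  refine ⟨h𝔓', ?_⟩
  have h2 := IsAdmBlowUp.restrict hc (cart_pullback c (incl h i)) (openImm_incl h i) h𝔓' (isFormal_restrictOpen h V)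
  rwa [← idealMap_comp, incl_ι] at h2

theorem Good.mono {V V' : (𝔛.X 0).Opens} (i : V ≤ V') (hV' : Good h J V') : Good h J V := by
  obtain ⟨𝔓, h𝔓, c, hc⟩ := hV'
  obtain ⟨h𝔓', hc'⟩ := pull_incl i hc
  exact ⟨_, h𝔓', _, hc'⟩

theorem exists_trans {V V' : (𝔛.X 0).Opens} (i : V ≤ V') {𝔓 𝔓' : FSch.Sys.{u}} {h𝔓 : 𝔓.IsFormal} {h𝔓' : 𝔓'.IsFormal}
    {c : 𝔓 ⟶ 𝔛.restrictOpen h V} {c' : 𝔓' ⟶ 𝔛.restrictOpen h V'}
    (hc : IsAdmBlowUp c h𝔓 (isFormal_restrictOpen h V) (idealMap (𝔛.restrictOpenι h V) (isFormal_restrictOpen h V) h J))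
    (hc' : IsAdmBlowUp c' h𝔓' (isFormal_restrictOpen h V')
      (idealMap (𝔛.restrictOpenι h V') (isFormal_restrictOpen h V') h J)) :
    ∃ m : 𝔓 ⟶ 𝔓', m ≫ c' = c ≫ incl h i ∧ (∀ m', m' ≫ c' = c ≫ incl h i → m' = m) ∧ Cart m c c' (incl h i) := by
  have hinv : (idealMap (c ≫ incl h i) h𝔓 (isFormal_restrictOpen h V')
      (idealMap (𝔛.restrictOpenι h V') (isFormal_restrictOpen h V') h J)).IsInvertible := by
    rw [idealMap_comp h𝔓 (isFormal_restrictOpen h V) (isFormal_restrictOpen h V'), ← idealMap_comp _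
      (isFormal_restrictOpen h V') h, incl_ι]
    exact hc.2.1
  obtain ⟨m, hm, hmu⟩ := hc'.2.2 𝔓 h𝔓 (c ≫ incl h i)
    (isAdicHom_comp hc.1 ((openImm_incl h i).isAdicHom (isFormal_restrictOpen h V) (isFormal_restrictOpen h V'))) hinv
  refine ⟨m, hm, hmu, ?_⟩
  obtain ⟨hF, hb⟩ := pull_incl i hc'
  obtain ⟨e, he⟩ := IsAdmBlowUp.exists_iso hc hb
  have hC := Cart.ofIso (cart_pullback c' (incl h i)) e
  rw [he] at hC
  have : e.hom ≫ pullbackFst c' (incl h i) = m := hmu _ hC.w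
  rwa [this] at hC

variable (h J) in
/-- The gluing datum. -/
noncomputable def datum (hcov : ∀ x : 𝔛.X 0, ∃ V, x ∈ V ∧ Good h J V) : GlueD 𝔛 h where
  Good := Good h J
  mono := Good.mono
  cover := hcov
  sys V := V.2.choose
  hs V := V.2.choose_spec.choose
  c V := V.2.choose_spec.choose_spec.choose
  m {V V'} i := (exists_trans i V.2.choose_spec.choose_spec.choose_spec V'.2.choose_spec.choose_spec.choose_spec).choose
  m_id V := by
    refine ((exists_trans (le_refl V.1) V.2.choose_spec.choose_spec.choose_spec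
      V.2.choose_spec.choose_spec.choose_spec).choose_spec.2.1 _ ?_).symm
    refine (Category.id_comp _).trans ?_
    refine (Category.comp_id _).symm.trans (congrArg (fun t => _ ≫ t) ?_)
    refine (openImm_restrictOpenι h V.1).cancel ?_
    exact (Category.id_comp _).trans (incl_ι h (le_refl V.1)).symm
  m_comp {V V' V''} i j := by
    have h1 := (exists_trans i V.2.choose_spec.choose_spec.choose_spec V'.2.choose_spec.choose_spec.choose_spec).choose_spec.1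
    have h2 := (exists_trans j V'.2.choose_spec.choose_spec.choose_spec
      V''.2.choose_spec.choose_spec.choose_spec).choose_spec.1
    refine ((exists_trans (i.trans j) V.2.choose_spec.choose_spec.choose_spec
      V''.2.choose_spec.choose_spec.choose_spec).choose_spec.2.1 _ ?_).symm
    rw [Category.assoc, h2, ← Category.assoc, h1, Category.assoc]
    refine congrArg (fun t => _ ≫ t) ?_
    refine (openImm_restrictOpenι h V''.1).cancel ?_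
    rw [Category.assoc, incl_ι, incl_ι]
    exact (incl_ι h (i.trans j)).symm
  cart {V V'} i := (exists_trans i V.2.choose_spec.choose_spec.choose_spec
    V'.2.choose_spec.choose_spec.choose_spec).choose_spec.2.2

theorem exists_of_good (hcov : ∀ x : 𝔛.X 0, ∃ V, x ∈ V ∧ Good h J V) :
    ∃ (𝔛' : FSch.Sys.{u}) (h' : 𝔛'.IsFormal) (b : 𝔛' ⟶ 𝔛), IsAdmBlowUp b h' h J := by
  obtain ⟨𝔊, h𝔊, b, j, hj, hC⟩ := exists_glued (datum h J hcov)
  refine ⟨𝔊, h𝔊, b, isAdmBlowUp_of_cover fun x => ?_⟩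
  obtain ⟨V, hxV, hV⟩ := hcov x
  exact ⟨_, _, isFormal_restrictOpen h V, _, 𝔛.restrictOpenι h V, openImm_restrictOpenι h V, _, _,
    (rg_restrictOpenι h V).ge hxV, hC ⟨V, hV⟩, hV.choose_spec.choose_spec.choose_spec⟩

/-- Good opens from open immersions. -/
theorem good_rg {h𝔚 : 𝔚.IsFormal} {j : 𝔚 ⟶ 𝔛} (hj : OpenImm j) {h𝔚' : 𝔚'.IsFormal} {b' : 𝔚' ⟶ 𝔚}
    (hb' : IsAdmBlowUp b' h𝔚' h𝔚 (idealMap j h𝔚 h J)) : Good h J (rg j hj) := by
  obtain ⟨e, he⟩ := exists_iso_restrictOpen h𝔚 h hj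
  refine ⟨𝔚', h𝔚', b' ≫ e.hom, isAdmBlowUp_of_cover fun x => ?_⟩
  refine ⟨𝔚, 𝔚', h𝔚, h𝔚', e.hom, openImm_of_isIso e.hom, 𝟙 _, b', ?_, ?_, ?_⟩
  · refine ⟨(e.inv : Hom _ _).app 0 x, ?_⟩
    exact congrArg (fun t : Hom _ _ => t.app 0 x) e.inv_hom_id
  · intro n
    have h1 := isIso_app e n
    have h2 : IsIso (((𝟙 𝔚' : 𝔚' ⟶ 𝔚') : Hom 𝔚' 𝔚').app n) := inferInstanceAs (IsIso (𝟙 (𝔚'.X n)))
    exact IsPullback.of_horiz_isIso ⟨Category.id_comp _⟩
  · rw [← idealMap_comp, he]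
    exact hb'

/-- **Existence** of admissible formal blow-ups. -/
theorem exists_isAdmBlowUp {w : ∀ n, 𝔛.X n ⟶ Spec (CommRingCat.of R)} (hI : I.FG) {hw : AdicOver 𝔛 I w}
    (hL : LG h I w hw.compat) (hJ : LGn h hw J) :
    ∃ (𝔛' : FSch.Sys.{u}) (h' : 𝔛'.IsFormal) (b : 𝔛' ⟶ 𝔛), IsAdmBlowUp b h' h J := by
  refine exists_of_good fun x => ?_
  obtain ⟨C, hx, -⟩ := hJ x ⊤ trivial
  refine ⟨_, hx, ?_⟩
  have := C.aff
  obtain ⟨P, q, hq⟩ := Groth.Agent.Flat2C.BlowExist.exists_isBlowUp (idealSpec (GS C.hs) C.𝔟)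
  have hL' : LG C.hs I (fun n => (C.j : Hom C.sys 𝔛).app n ≫ w n) (hw.comp h (C.hj.isAdicHom C.hs h)).compat :=
    hL.restrict C.hs C.hj _
  obtain ⟨𝔓, h𝔓, b, r, hr, hpb, hb⟩ := exists_isAdmBlowUp_aff C.hs hI (hw.comp h (C.hj.isAdicHom C.hs h)) hL' C.hk hq
  rw [← C.e] at hb
  exact good_rg C.hj hb

end K788.Exist
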