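import Groth.Agent.FBlow.K788.LNoeth

/-!
# Extension of coherent open ideals
-/

set_option autoImplicit false
set_option linter.unusedVariables false

universe u

open CategoryTheory CategoryTheory.Limits TopologicalSpace Opposite AlgebraicGeometry

namespace K788.Ext

open FSch FBlow K788.Osh K788.IdSh K788.GenL K788.SysB K788.IdMap K788.Restr K788.Aff K788.AffSch K788.UP K788.Inv K788.SpfB
open K788.AffStr K788.Crt K788.AffV K788.CohL K788.ARed K788.LocB K788.LocC K788.Glob K788.CohC K788.LNoeth K788.Lev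

variable {𝔛 𝔛' 𝔜 ℨ 𝔘 𝔚 : FSch.Sys.{u}} {R : Type u} [CommRing R] {I : Ideal R}
  {w : ∀ n, 𝔛.X n ⟶ Spec (CommRingCat.of R)}

/-- Quasi-paracompactness. -/
def QPar (X : Scheme.{u}) : Prop :=
  ∃ (ι : Type u) (V : ι → X.Opens), (⨆ i, V i) = ⊤ ∧ (∀ i, IsCompact (V i : Set X)) ∧
      ∀ i, Set.Finite {j : ι | V i ⊓ V j ≠ ⊥}

theorem isCompact_lvU (h : 𝔛.IsFormal) (n : ℕ) {V : (𝔛.X 0).Opens} (hV : IsCompact (V : Set (𝔛.X 0))) :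
    IsCompact (𝔛.lvU h n V : Set (𝔛.X n)) :=
  (homeo h n).isCompact_preimage.2 hV

theorem lvU_eq_bot_iff (h : 𝔛.IsFormal) (n : ℕ) {V : (𝔛.X 0).Opens} : 𝔛.lvU h n V = ⊥ ↔ V = ⊥ := by
  constructor
  · intro hV
    refine le_bot_iff.1 fun x hx => ?_
    have h1 : (𝔛.toX n) x ∈ 𝔛.lvU h n V := by
      change 𝔛.gInv h n ((𝔛.toX n) x) ∈ V
      rw [gInv_toX]
      exact hx
    rw [hV] at h1
    exact h1.elim
  · rintro rfl
    rfl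

theorem qPar_X (h : 𝔛.IsFormal) (hq : QPar (𝔛.X 0)) (n : ℕ) : QPar (𝔛.X n) := by
  obtain ⟨ι, V, hV, hVc, hVf⟩ := hq
  refine ⟨ι, fun i => 𝔛.lvU h n (V i), ?_, fun i => isCompact_lvU h n (hVc i), fun i => ?_⟩
  · refine top_le_iff.1 fun x _ => ?_
    have : 𝔛.gInv h n x ∈ (⨆ i, V i) := hV ▸ trivial
    rw [Opens.mem_iSup] at this ⊢
    exact this
  · refine (hVf i).subset fun j hj h0 => hj ?_
    change 𝔛.lvU h n (V i ⊓ V j) = ⊥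
    exact (lvU_eq_bot_iff h n).2 h0

/-- Extension of ideals on open subsystems, unit away from the open. -/
theorem exists_extension (hI : I.FG) (h : 𝔛.IsFormal) (hw : AdicOver 𝔛 I w) (hLN : ∀ n, LNS (𝔛.X n))
    [QuasiSeparatedSpace (𝔛.X 0)] (hqp : QPar (𝔛.X 0)) (h𝔘 : 𝔘.IsFormal) {j : 𝔘 ⟶ 𝔛} (hj : OpenImm j)
    [CompactSpace (𝔘.X 0)] {J' : IdealSh (𝔘.Osh h𝔘)} (hJ' : LGn h𝔘 (hw.comp h (hj.isAdicHom h𝔘 h)) J') :
    ∃ J : IdealSh (𝔛.Osh h), IsCohOpen 𝔛 h J ∧ idealMap j h𝔘 h J = J' ∧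
      ∀ V : (𝔛.X 0).Opens, V ⊓ rg j hj = ⊥ → J.sect V = ⊤ := by
  obtain ⟨n, hn⟩ := LGn.exists_level hI hJ'
  obtain ⟨𝒜, h𝒜, rfl⟩ := hn n le_rfl
  obtain ⟨T, V, hV, hVc, hVf⟩ := qPar_X h hqp n
  have := quasiSeparatedSpace_X h n
  have := compactSpace_X h𝔘 n
  have := hj n
  obtain ⟨K, hK1, hK2, hK3⟩ := exists_ft_extension_qp (hLN n) V hV hVc hVf ((j : Hom 𝔘 𝔛).app n) h𝒜
  refine ⟨ofLevel 𝔛 h n K, isCohOpen_ofLevel h hK1, ?_, fun V' hV' => ?_⟩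
  · rw [idealMap_ofLevel h𝔘 h hj, hK2]
  · refine (Ideal.eq_top_iff_one _).2 ((mem_ofLevel h n K).2 fun x hx => ?_)
    obtain ⟨V₁, hV₁, hxV₁, hle⟩ := Opens.isBasis_iff_nbhd.mp (𝔛.X n).isBasis_affineOpens hx
    refine ⟨⟨V₁, hV₁⟩, hle, hxV₁, ?_⟩
    rw [hK3 ⟨V₁, hV₁⟩]
    · trivial
    · rw [opensRange_app h𝔘 h j hj n]
      refine le_bot_iff.1 fun y hy => ?_
      have h2 : y ∈ 𝔛.lvU h n (V' ⊓ rg j hj) := ⟨hle hy.1, hy.2⟩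
      rw [hV'] at h2
      exact h2.elim

end K788.Ext
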