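import Groth.Agent.FBlow.K788.IdSh

/-!
# Local generators of ideal sheaves and invertibility of products
-/

set_option autoImplicit false

universe u

open CategoryTheory CategoryTheory.Limits TopologicalSpace Opposite AlgebraicGeometry

namespace K788.GenL

open FBlow FBlow.IdealSh K788.IdSh

variable {T : TopCat.{u}} {O : Sheaf (Opens.grothendieckTopology T) CommRingCat.{u}}

/-- `g` generates `J` on all opens contained in `U`. -/
structure Princ (J : IdealSh O) (U : Opens T) (g : O.obj.obj (op U)) : Prop where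
  mem : g ∈ J.sect U
  gen : ∀ (V : Opens T) (i : V ≤ U), ∀ s ∈ J.sect V, ∃ t : O.obj.obj (op V), s = t * rs O i g

/-- `g` is a non-zero-divisor on all opens contained in `U`. -/
def Nzd (O : Sheaf (Opens.grothendieckTopology T) CommRingCat.{u}) (U : Opens T) (g : O.obj.obj (op U)) : Prop :=
  ∀ (V : Opens T) (i : V ≤ U) (t : O.obj.obj (op V)), t * rs O i g = 0 → t = 0

/-- `g` generates `J` on `U` and is a non-zero-divisor on all smaller opens. -/
structure Gen (J : IdealSh O) (U : Opens T) (g : O.obj.obj (op U)) : Prop extends Princ J U g where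
  nzd : Nzd O U g

theorem isInvertible_iff (J : IdealSh O) :
    J.IsInvertible ↔ ∀ x : T, ∃ (U : Opens T), x ∈ U ∧ ∃ g, Gen J U g := by
  refine forall_congr' fun x => exists_congr fun U => and_congr_right fun _ => ⟨?_, ?_⟩
  · rintro ⟨g, hg, H⟩
    exact ⟨g, ⟨⟨hg, fun V i => (H V i).2⟩, fun V i => (H V i).1⟩⟩
  · rintro ⟨g, hg⟩
    exact ⟨g, hg.mem, fun V i => ⟨hg.nzd V i, hg.gen V i⟩⟩

theorem Princ.res {J : IdealSh O} {U : Opens T} {g : O.obj.obj (op U)} (hg : Princ J U g) {V : Opens T} (i : V ≤ U) :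
    Princ J V (rs O i g) where
  mem := rs_mem J i hg.mem
  gen W j s hs := by
    obtain ⟨t, ht⟩ := hg.gen W (j.trans i) s hs
    exact ⟨t, by rw [ht, rs_rs]⟩

theorem Nzd.res {U : Opens T} {g : O.obj.obj (op U)} (hg : Nzd O U g) {V : Opens T} (i : V ≤ U) :
    Nzd O V (rs O i g) := fun W j t ht => hg W (j.trans i) t (by rw [← ht, rs_rs])

theorem Gen.res {J : IdealSh O} {U : Opens T} {g : O.obj.obj (op U)} (hg : Gen J U g) {V : Opens T} (i : V ≤ U) :
    Gen J V (rs O i g) := ⟨hg.toPrinc.res i, hg.nzd.res i⟩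

theorem Nzd.self {U : Opens T} {g : O.obj.obj (op U)} (hg : Nzd O U g) (t : O.obj.obj (op U)) (ht : t * g = 0) : t = 0 :=
  hg U le_rfl t (by rw [rs_self]; exact ht)

theorem Nzd.of_mul_left {U : Opens T} {a b : O.obj.obj (op U)} (h : Nzd O U (a * b)) : Nzd O U a :=
  fun V i t ht => h V i t (by rw [map_mul, ← mul_assoc, ht, zero_mul])

theorem Nzd.of_mul_right {U : Opens T} {a b : O.obj.obj (op U)} (h : Nzd O U (a * b)) : Nzd O U b :=
  fun V i t ht => h V i t (by rw [map_mul, mul_comm (rs O i a), ← mul_assoc, ht, zero_mul])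

theorem Nzd.mul {U : Opens T} {a b : O.obj.obj (op U)} (ha : Nzd O U a) (hb : Nzd O U b) : Nzd O U (a * b) :=
  fun V i t ht => ha V i t (hb V i _ (by rw [mul_assoc, ← map_mul]; exact ht))

theorem Princ.mul {J K : IdealSh O} {U : Opens T} {a b : O.obj.obj (op U)} (ha : Princ J U a) (hb : Princ K U b) :
    ∀ (V : Opens T) (i : V ≤ U), ∀ s ∈ (IdealSh.mul J K).sect V, ∀ x ∈ V, ∃ (W : Opens T) (j : W ≤ V) (_ : x ∈ W)
      (t : O.obj.obj (op W)), rs O j s = t * rs O (j.trans i) (a * b) := by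
  intro V i s hs x hx
  obtain ⟨W, j, hxW, hW⟩ := exists_of_mem_mul hs hx
  refine ⟨W, j, hxW, ?_⟩
  refine Submodule.mul_induction_on hW (fun m hm n hn => ?_) ?_
  · obtain ⟨t₁, e₁⟩ := ha.gen W (j.trans i) m hm
    obtain ⟨t₂, e₂⟩ := hb.gen W (j.trans i) n hn
    refine ⟨t₁ * t₂, ?_⟩
    rw [e₁, e₂, map_mul]; ring
  · rintro y z ⟨t₁, e₁⟩ ⟨t₂, e₂⟩
    exact ⟨t₁ + t₂, by rw [e₁, e₂, add_mul]⟩

/-- Local divisibility by a non-zero-divisor is divisibility. -/
theorem exists_eq_mul_of_local {U : Opens T} {g : O.obj.obj (op U)} (hg : Nzd O U g) {V : Opens T} (i : V ≤ U)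
    (s : O.obj.obj (op V))
    (H : ∀ x ∈ V, ∃ (W : Opens T) (j : W ≤ V) (_ : x ∈ W) (t : O.obj.obj (op W)), rs O j s = t * rs O (j.trans i) g) :
    ∃ t : O.obj.obj (op V), s = t * rs O i g := by
  choose W j hxW t ht using H
  have hcov : V ≤ ⨆ x : V, W x.1 x.2 := fun x hx => Opens.mem_iSup.mpr ⟨⟨x, hx⟩, hxW x hx⟩
  obtain ⟨s₀, hs₀, -⟩ := TopCat.Sheaf.existsUnique_gluing' O (fun x : V => W x.1 x.2) V
    (fun x => homOfLE (j x.1 x.2)) hcov (fun x : V => t x.1 x.2) (by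
      intro x y
      have hx := ht x.1 x.2
      have hy := ht y.1 y.2
      have e₁ : rs O (inf_le_left : W x.1 x.2 ⊓ W y.1 y.2 ≤ _) (rs O (j x.1 x.2) s) =
        rs O (inf_le_right : W x.1 x.2 ⊓ W y.1 y.2 ≤ _) (rs O (j y.1 y.2) s) := by rw [rs_rs, rs_rs]
      rw [hx, hy, map_mul, map_mul, rs_rs, rs_rs] at e₁
      have e₂ : (rs O (inf_le_left : W x.1 x.2 ⊓ W y.1 y.2 ≤ _) (t x.1 x.2) -
        rs O (inf_le_right : W x.1 x.2 ⊓ W y.1 y.2 ≤ _) (t y.1 y.2)) *
          rs O ((inf_le_left.trans (j x.1 x.2)).trans i) g = 0 := by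
        rw [sub_mul, sub_eq_zero]; exact e₁
      exact sub_eq_zero.1 (hg _ _ _ e₂))
  refine ⟨s₀, eq_of_local fun x hx => ⟨W x hx, j x hx, hxW x hx, ?_⟩⟩
  rw [ht x hx, map_mul, rs_rs]
  congr 1
  exact (hs₀ ⟨x, hx⟩).symm

theorem Gen.mul {J K : IdealSh O} {U : Opens T} {a b : O.obj.obj (op U)} (ha : Gen J U a) (hb : Gen K U b) :
    Gen (IdealSh.mul J K) U (a * b) where
  mem := mul_mem_mul ha.mem hb.mem
  gen V i s hs := exists_eq_mul_of_local (ha.nzd.mul hb.nzd) i s (fun x hx => ha.toPrinc.mul hb.toPrinc V i s hs x hx)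
  nzd := ha.nzd.mul hb.nzd

theorem isInvertible_mul {J K : IdealSh O} (hJ : J.IsInvertible) (hK : K.IsInvertible) :
    (IdealSh.mul J K).IsInvertible := by
  rw [isInvertible_iff] at *
  intro x
  obtain ⟨U, hxU, a, ha⟩ := hJ x
  obtain ⟨V, hxV, b, hb⟩ := hK x
  exact ⟨U ⊓ V, ⟨hxU, hxV⟩, _, (ha.res inf_le_left).mul (hb.res inf_le_right)⟩

/-- The stalks of `O` are local rings (in terms of sections). -/
structure LocStalk (O : Sheaf (Opens.grothendieckTopology T) CommRingCat.{u}) : Prop where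
  zero : ∀ (U : Opens T) (x : T), x ∈ U → ¬ IsUnit (0 : O.obj.obj (op U))
  add : ∀ (U : Opens T) (x : T), x ∈ U → ∀ a b : O.obj.obj (op U), IsUnit (a + b) →
    (∃ (V : Opens T) (i : V ≤ U), x ∈ V ∧ IsUnit (rs O i a)) ∨ (∃ (V : Opens T) (i : V ≤ U), x ∈ V ∧ IsUnit (rs O i b))

/-- A section is a unit near `x`. -/
def UnitAt (U : Opens T) (x : T) (a : O.obj.obj (op U)) : Prop := ∃ (V : Opens T) (i : V ≤ U), x ∈ V ∧ IsUnit (rs O i a)

theorem UnitAt.of_res {U V : Opens T} (i : V ≤ U) {x : T} {a : O.obj.obj (op U)} (h : UnitAt V x (rs O i a)) :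
    UnitAt U x a := by
  obtain ⟨W, j, hx, hu⟩ := h
  exact ⟨W, j.trans i, hx, by rw [← rs_rs i j]; exact hu⟩

/-- The ideal of sections over `U` that are not units at `x`. -/
def nonUnits (hO : LocStalk O) (U : Opens T) (x : T) (hx : x ∈ U) : Ideal (O.obj.obj (op U)) where
  carrier := {a | ¬ UnitAt U x a}
  zero_mem' := by
    rintro ⟨V, i, hxV, hu⟩
    rw [map_zero] at hu
    exact hO.zero V x hxV hu
  add_mem' := by
    rintro a b ha hb ⟨V, i, hxV, hu⟩
    rw [map_add] at hu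
    rcases hO.add V x hxV _ _ hu with h | h
    · exact ha (UnitAt.of_res i h)
    · exact hb (UnitAt.of_res i h)
  smul_mem' := by
    rintro c a ha ⟨V, i, hxV, hu⟩
    rw [smul_eq_mul, map_mul] at hu
    exact ha ⟨V, i, hxV, isUnit_of_mul_isUnit_right hu⟩

theorem mem_nonUnits (hO : LocStalk O) {U : Opens T} {x : T} (hx : x ∈ U) {a : O.obj.obj (op U)} :
    a ∈ nonUnits hO U x hx ↔ ¬ UnitAt U x a := Iff.rfl

/-- If `g` generates an ideal sheaf spanned near `x` by the products of two families, then some product generates. -/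
theorem exists_unit_mul (hO : LocStalk O) {L : IdealSh O} {U : Opens T} {g : O.obj.obj (op U)} (hg : Gen L U g)
    {x : T} (hx : x ∈ U) (S : Set (O.obj.obj (op U))) (hS : S ⊆ L.sect U) (hgS : g ∈ Ideal.span S) :
    ∃ a ∈ S, ∃ (V : Opens T) (i : V ≤ U) (_ : x ∈ V) (u : O.obj.obj (op V)), IsUnit u ∧ rs O i a = u * rs O i g := by
  by_contra hcon
  push Not at hcon
  have key : ∀ y ∈ Ideal.span S, ∃ t ∈ nonUnits hO U x hx, y = t * g := by
    intro y hy
    refine Submodule.span_induction ?_ ?_ ?_ ?_ hy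
    · intro a ha
      obtain ⟨t, ht⟩ := hg.gen U le_rfl a (hS ha)
      rw [rs_self] at ht
      refine ⟨t, ?_, ht⟩
      rw [mem_nonUnits]
      rintro ⟨V, i, hxV, hu⟩
      exact hcon a ha V i hxV _ hu (by rw [ht, map_mul])
    · exact ⟨0, Ideal.zero_mem _, by rw [zero_mul]⟩
    · rintro y z _ _ ⟨t₁, h₁, e₁⟩ ⟨t₂, h₂, e₂⟩
      exact ⟨t₁ + t₂, Ideal.add_mem _ h₁ h₂, by rw [e₁, e₂, add_mul]⟩
    · rintro c y _ ⟨t₁, h₁, e₁⟩
      exact ⟨c * t₁, Ideal.mul_mem_left _ _ h₁, by rw [e₁, smul_eq_mul, mul_assoc]⟩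
  obtain ⟨t, ht, e⟩ := key g hgS
  have h1 : (1 - t) * g = 0 := by rw [sub_mul, one_mul, ← e, sub_self]
  have h2 : t = 1 := (sub_eq_zero.1 (hg.nzd.self _ h1)).symm
  rw [h2, mem_nonUnits] at ht
  exact ht ⟨U, le_rfl, hx, by rw [map_one]; exact isUnit_one⟩

theorem Gen.of_unit_mul {J : IdealSh O} {U : Opens T} {g u : O.obj.obj (op U)} (hg : Gen J U g) (hu : IsUnit u) :
    Gen J U (u * g) where
  mem := Ideal.mul_mem_left _ _ hg.mem
  gen V i s hs := by
    obtain ⟨t, ht⟩ := hg.gen V i s hs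
    obtain ⟨v, hv⟩ := (hu.map (rs O i)).exists_right_inv
    refine ⟨t * v, ?_⟩
    rw [ht, map_mul]
    calc t * rs O i g = t * (rs O i u * v) * rs O i g := by rw [hv, mul_one]
      _ = _ := by ring
  nzd V i t ht := by
    obtain ⟨v, hv⟩ := (hu.map (rs O i)).exists_right_inv
    have := hg.nzd V i (t * rs O i u) (by rw [← ht, map_mul]; ring)
    calc t = t * (rs O i u * v) := by rw [hv, mul_one]
      _ = (t * rs O i u) * v := by ring
      _ = 0 := by rw [this, zero_mul]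

/-- If the product of two ideal sheaves has a generator, both have generators near each point. -/
theorem exists_gen_of_gen_mul (hO : LocStalk O) {J K : IdealSh O} {U : Opens T} {g : O.obj.obj (op U)}
    (hg : Gen (IdealSh.mul J K) U g) {x : T} (hx : x ∈ U) :
    ∃ (V : Opens T) (_ : V ≤ U) (_ : x ∈ V) (a b : O.obj.obj (op V)), Gen J V a ∧ Gen K V b := by
  obtain ⟨V, i, hxV, hV⟩ := exists_of_mem_mul hg.mem hx
  let S : Set (O.obj.obj (op V)) := {c | ∃ a ∈ J.sect V, ∃ b ∈ K.sect V, a * b = c}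
  have hS : S ⊆ (IdealSh.mul J K).sect V := by
    rintro _ ⟨a, ha, b, hb, rfl⟩
    exact mul_mem_mul ha hb
  have hle : (J.sect V * K.sect V : Ideal (O.obj.obj (op V))) ≤ Ideal.span S :=
    Ideal.mul_le.2 (fun a ha b hb => Ideal.subset_span ⟨a, ha, b, hb, rfl⟩)
  have hgS : rs O i g ∈ Ideal.span S := hle hV
  obtain ⟨_, ⟨a, ha, b, hb, rfl⟩, W, j, hxW, u, hu, e⟩ := exists_unit_mul hO (hg.res i) hxV S hS hgS
  have hab : Gen (IdealSh.mul J K) W (rs O j (a * b)) := by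
    rw [show rs O j (a * b) = u * rs O j (rs O i g) from e]
    exact ((hg.res i).res j).of_unit_mul hu
  rw [map_mul] at hab
  refine ⟨W, j.trans i, hxW, rs O j a, rs O j b, ⟨⟨rs_mem J j ha, ?_⟩, hab.nzd.of_mul_left⟩,
    ⟨⟨rs_mem K j hb, ?_⟩, hab.nzd.of_mul_right⟩⟩
  · intro W' k s hs
    obtain ⟨t, ht⟩ := hab.gen W' k (s * rs O k (rs O j b)) (mul_mem_mul hs (rs_mem K k (rs_mem K j hb)))
    refine ⟨t, ?_⟩
    rw [← sub_eq_zero]
    refine hab.nzd.of_mul_right W' k _ ?_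
    rw [sub_mul, ht, map_mul]
    ring
  · intro W' k s hs
    obtain ⟨t, ht⟩ := hab.gen W' k (rs O k (rs O j a) * s) (mul_mem_mul (rs_mem J k (rs_mem J j ha)) hs)
    refine ⟨t, ?_⟩
    rw [← sub_eq_zero]
    refine hab.nzd.of_mul_left W' k _ ?_
    rw [sub_mul, mul_comm s, ht, map_mul]
    ring

theorem isInvertible_mul_iff (hO : LocStalk O) {J K : IdealSh O} :
    (IdealSh.mul J K).IsInvertible ↔ J.IsInvertible ∧ K.IsInvertible := by
  refine ⟨fun H => ?_, fun H => isInvertible_mul H.1 H.2⟩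
  simp only [isInvertible_iff] at *
  refine ⟨fun x => ?_, fun x => ?_⟩ <;>
  · obtain ⟨U, hxU, g, hg⟩ := H x
    obtain ⟨V, -, hxV, a, b, ha, hb⟩ := exists_gen_of_gen_mul hO hg hxU
    first
      | exact ⟨V, hxV, a, ha⟩
      | exact ⟨V, hxV, b, hb⟩

end K788.GenL
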