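import Groth.Agent.FBlow.K788.LocC

/-!
# Locally generated open ideals and admissible blow-ups: global statements
-/

set_option autoImplicit false

universe u

open CategoryTheory CategoryTheory.Limits TopologicalSpace Opposite AlgebraicGeometry

namespace K788.Glob

open FSch FBlow K788.Osh K788.IdSh K788.GenL K788.SysB K788.IdMap K788.Restr K788.Aff K788.AffSch K788.UP K788.Inv K788.SpfB
open K788.AffStr K788.Crt K788.AffV K788.CohL K788.ARed K788.LocB K788.LocC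
open Groth.Agent.Divis.BlowChart Groth.Agent.Fcompl.H552.IdealSpec Groth.Agent.Divis.BlowTwist

variable {𝔛 𝔛' 𝔜 ℨ 𝔘 𝔚 : FSch.Sys.{u}} {R : Type u} [CommRing R] {I : Ideal R}

/-- An affine chart on which the ideal sheaf `J` is generated by a finitely generated open ideal of sections. -/
structure Chart (h : 𝔛.IsFormal) {w : ∀ n, 𝔛.X n ⟶ Spec (CommRingCat.of R)} (hw : AdicOver 𝔛 I w)
    (J : IdealSh (𝔛.Osh h)) where
  sys : FSch.Sys.{u}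
  hs : sys.IsFormal
  j : sys ⟶ 𝔛
  hj : OpenImm j
  aff : IsAffine (sys.X 0)
  𝔟 : Ideal (GS hs)
  fg : 𝔟.FG
  k : ℕ
  hk : (I.map (sg hs (fun n => (j : Hom sys 𝔛).app n ≫ w n) (hw.comp h (hj.isAdicHom hs h)).compat)) ^ k ≤ 𝔟
  e : idealMap j hs h J = gn (O := sys.Osh hs) 𝔟

/-- `J` is locally generated by finitely generated open ideals of sections. -/
def LGn (h : 𝔛.IsFormal) {w : ∀ n, 𝔛.X n ⟶ Spec (CommRingCat.of R)} (hw : AdicOver 𝔛 I w)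
    (J : IdealSh (𝔛.Osh h)) : Prop :=
  ∀ (x : 𝔛.X 0) (V₀ : (𝔛.X 0).Opens), x ∈ V₀ → ∃ C : Chart h hw J, x ∈ rg C.j C.hj ∧ rg C.j C.hj ≤ V₀

variable {w : ∀ n, 𝔛.X n ⟶ Spec (CommRingCat.of R)}

theorem exists_affine_nhd (x : 𝔛.X 0) (V₀ : (𝔛.X 0).Opens) (hx : x ∈ V₀) :
    ∃ V : (𝔛.X 0).Opens, IsAffineOpen V ∧ x ∈ V ∧ V ≤ V₀ := by
  obtain ⟨V, hV, hxV, hle⟩ := Opens.isBasis_iff_nbhd.mp (𝔛.X 0).isBasis_affineOpens hx
  exact ⟨V, hV, hxV, hle⟩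

/-- Coherent open ideals have charts. -/
theorem lgn_of_isCohOpen (hI : I.FG) (h : 𝔛.IsFormal) (hw : AdicOver 𝔛 I w) {J : IdealSh (𝔛.Osh h)}
    (hJ : IsCohOpen 𝔛 h J) : LGn h hw J := by
  intro x V₀ hx
  obtain ⟨U, hxU, n, 𝒜, hA, hJU⟩ := hJ x
  obtain ⟨V, hV, hxV, hle⟩ := exists_affine_nhd x (U ⊓ V₀) ⟨hxU, hx⟩
  have hF := isFormal_restrictOpen h V
  have hj : OpenImm (𝔛.restrictOpenι h V) := openImm_restrictOpenι h V
  have hrg : rg (𝔛.restrictOpenι h V) hj = V := rg_restrictOpenι h V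
  have := isAffine_restrictOpen h hV
  have h1 : ∀ V' : ((𝔛.restrictOpen h V).X 0).Opens, (idealMap (𝔛.restrictOpenι h V) hF h J).sect V' =
      (ofLevel (𝔛.restrictOpen h V) hF n (𝒜.comap ((𝔛.restrictOpenι h V : Hom _ _).app n))).sect V' := fun V' =>
    sect_idealMap_ofLevel hF h hj hJU ((le_top.trans (pre_rg _ hj)).trans fun z hz => (hle (hrg.le hz)).1)
  obtain ⟨h2, h3, h4⟩ := coh_affine hF hI (hw.comp h (hj.isAdicHom hF h)) (isFT_comap hA _) h1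
  exact ⟨⟨_, hF, _, hj, this, _, h3, _, h4, h2⟩, hrg.ge hxV, hrg.le.trans fun z hz => (hle hz).2⟩

/-- Pulling back a chart along an adic morphism whose source is affine. -/
noncomputable def Chart.pull {h : 𝔛.IsFormal} {hw : AdicOver 𝔛 I w} {J : IdealSh (𝔛.Osh h)} (C : Chart h hw J)
    {𝔜 : FSch.Sys.{u}} (h𝔜 : 𝔜.IsFormal) {f : 𝔜 ⟶ 𝔛} (hf : IsAdicHom f) (h𝔚 : 𝔚.IsFormal) (aff : IsAffine (𝔚.X 0))
    (j : 𝔚 ⟶ 𝔜) (hj : OpenImm j) (k : 𝔚 ⟶ C.sys) (e : k ≫ C.j = j ≫ f) :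
    Chart h𝔜 (hw.comp h hf) (idealMap f h𝔜 h J) where
  sys := 𝔚
  hs := h𝔚
  j := j
  hj := hj
  aff := aff
  𝔟 := C.𝔟.map (gsMap h𝔚 C.hs k)
  fg := C.fg.map _
  k := C.k
  hk := by
    have h1 := Ideal.map_mono (f := gsMap h𝔚 C.hs k) C.hk
    rw [Ideal.map_pow, Ideal.map_map] at h1
    have h2 : sg h𝔚 (fun n => (j : Hom 𝔚 𝔜).app n ≫ (f : Hom 𝔜 𝔛).app n ≫ w n)
        ((hw.comp h hf).comp h𝔜 (hj.isAdicHom h𝔚 h𝔜)).compat =
        (gsMap h𝔚 C.hs k).comp (sg C.hs (fun n => (C.j : Hom C.sys 𝔛).app n ≫ w n)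
          (hw.comp h (C.hj.isAdicHom C.hs h)).compat) := by
      refine sg_comp h𝔚 C.hs k _ _ _ _ fun n => ?_
      have e1 : (k : Hom 𝔚 C.sys).app n ≫ (C.j : Hom C.sys 𝔛).app n = (j : Hom 𝔚 𝔜).app n ≫ (f : Hom 𝔜 𝔛).app n :=
        congrArg (fun t : Hom _ _ => t.app n) e
      rw [← Category.assoc, e1, Category.assoc]
    rw [h2]
    exact h1
  e := by
    rw [← idealMap_comp, ← e, idealMap_comp h𝔚 C.hs h, C.e, idealMap_gn]
    rfl

theorem LGn.idealMap {h : 𝔛.IsFormal} {hw : AdicOver 𝔛 I w} {J : IdealSh (𝔛.Osh h)} (hJ : LGn h hw J)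
    (h𝔜 : 𝔜.IsFormal) {f : 𝔜 ⟶ 𝔛} (hf : IsAdicHom f) : LGn h𝔜 (hw.comp h hf) (idealMap f h𝔜 h J) := by
  intro y V₀ hy
  obtain ⟨C, hC, -⟩ := hJ (((f : Hom 𝔜 𝔛).app 0) y) ⊤ trivial
  obtain ⟨V, hV, hyV, hle⟩ := exists_affine_nhd y (pre f (rg C.j C.hj) ⊓ V₀) ⟨hC, hy⟩
  have hF := isFormal_restrictOpen h𝔜 V
  have hj : OpenImm (𝔜.restrictOpenι h𝔜 V) := openImm_restrictOpenι h𝔜 V
  have hrg : rg (𝔜.restrictOpenι h𝔜 V) hj = V := rg_restrictOpenι h𝔜 V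
  have := isAffine_restrictOpen h𝔜 hV
  obtain ⟨k, hk⟩ := C.hj.exists_lift hF (𝔜.restrictOpenι h𝔜 V ≫ f) fun z =>
    (hle (hrg.le ⟨z, rfl⟩)).1
  exact ⟨C.pull h𝔜 hf hF this _ hj k hk, hrg.ge hyV, hrg.le.trans fun z hz => (hle hz).2⟩

theorem openImm_of_comp {k : 𝔚 ⟶ 𝔘} {j : 𝔘 ⟶ 𝔛} (hj : OpenImm j) (hkj : OpenImm (k ≫ j)) : OpenImm k := fun n => by
  have h1 := hj n
  have h2 : IsOpenImmersion ((k : Hom 𝔚 𝔘).app n ≫ (j : Hom 𝔘 𝔛).app n) := hkj n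
  exact IsOpenImmersion.of_comp _ ((j : Hom 𝔘 𝔛).app n)

/-- Near every point an invertible ideal sheaf generated by global sections is generated by one regular section on
every small open subsystem. -/
theorem exists_nhd_span (h : 𝔜.IsFormal) (𝔟 : Ideal (GS h)) (hinv : (gn (O := 𝔜.Osh h) 𝔟).IsInvertible)
    (y : 𝔜.X 0) : ∃ V₁ : (𝔜.X 0).Opens, y ∈ V₁ ∧ ∀ (𝔚 : FSch.Sys.{u}) (h𝔚 : 𝔚.IsFormal) (j : 𝔚 ⟶ 𝔜) (hj : OpenImm j),
      rg j hj ≤ V₁ → ∃ b ∈ nonZeroDivisors (GS h𝔚), 𝔟.map (gsMap h𝔚 h j) = Ideal.span {b} := by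
  obtain ⟨V₁, hyV₁, a, ha, e⟩ := exists_span_of_isInvertible hinv y
  refine ⟨V₁, hyV₁, fun 𝔚 h𝔚 j hj hle => ?_⟩
  have ht : (⊤ : (𝔚.X 0).Opens) ≤ pre j (rg j hj) := pre_rg j hj
  have haV : Nzd (𝔜.Osh h) (rg j hj) (rs (𝔜.Osh h) hle a) := ha.res hle
  have h1 : Nzd (𝔚.Osh h𝔚) (pre j (rg j hj)) (sh h𝔚 j h (rg j hj) (rs (𝔜.Osh h) hle a)) :=
    (nzd_sh_iff h𝔚 h hj le_rfl _).2 haV
  refine ⟨rs (𝔚.Osh h𝔚) ht (sh h𝔚 j h (rg j hj) (rs (𝔜.Osh h) hle a)), ?_, ?_⟩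
  · rw [mem_nonZeroDivisors_iff_right]
    exact (h1.res ht).self
  · have e1 : gsMap h𝔚 h j = ((rs (𝔚.Osh h𝔚) ht).comp (sh h𝔚 j h (rg j hj))).comp
        ((rs (𝔜.Osh h) hle).comp (rs (𝔜.Osh h) (le_top : V₁ ≤ ⊤))) := by
      ext s
      have e2 : rs (𝔜.Osh h) hle (rs (𝔜.Osh h) (le_top : V₁ ≤ ⊤) s) = rs (𝔜.Osh h) (le_top : rg j hj ≤ ⊤) s := rs_rs _ _ _
      change sh h𝔚 j h ⊤ s = rs _ ht (sh h𝔚 j h (rg j hj) (rs (𝔜.Osh h) hle (rs (𝔜.Osh h) (le_top : V₁ ≤ ⊤) s)))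
      rw [e2]
      exact (rs_sh_rs h𝔚 h j ht s).symm
    rw [e1, ← Ideal.map_map, ← Ideal.map_map, ← Ideal.map_map, e, Ideal.map_span, Set.image_singleton,
      Ideal.map_span, Set.image_singleton, Ideal.map_span, Set.image_singleton]

/-- Around every point there is a chart of `K` on which the invertible ideal `L` is generated by one regular section. -/
theorem exists_chart_span {h : 𝔛.IsFormal} {hw : AdicOver 𝔛 I w} {K L : IdealSh (𝔛.Osh h)} (hK : LGn h hw K)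
    (hLn : LGn h hw L) (hinv : L.IsInvertible) (x : 𝔛.X 0) (V₀ : (𝔛.X 0).Opens) (hx : x ∈ V₀) :
    ∃ C : Chart h hw K, x ∈ rg C.j C.hj ∧ rg C.j C.hj ≤ V₀ ∧ ∃ g ∈ nonZeroDivisors (GS C.hs),
      idealMap C.j C.hs h L = gn (O := C.sys.Osh C.hs) (Ideal.span {g}) ∧
      ∃ k, (I.map (sg C.hs (fun n => (C.j : Hom C.sys 𝔛).app n ≫ w n) (hw.comp h (C.hj.isAdicHom C.hs h)).compat)) ^ k ≤
        Ideal.span {g} := by
  obtain ⟨D, ⟨y, rfl⟩, hD⟩ := hLn x V₀ hx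
  have h1 : (gn (O := D.sys.Osh D.hs) D.𝔟).IsInvertible := by
    rw [← D.e]
    exact isInvertible_idealMap D.hs h D.hj hinv
  obtain ⟨V₁, hyV₁, hV₁⟩ := exists_nhd_span D.hs D.𝔟 h1 y
  obtain ⟨C, hC, hCle⟩ := hK (((D.j : Hom D.sys 𝔛).app 0) y) (im D.hj V₁) ⟨y, hyV₁, rfl⟩
  have hle : ∀ z, ((C.j : Hom C.sys 𝔛).app 0) z ∈ im D.hj V₁ := fun z => hCle ⟨z, rfl⟩
  obtain ⟨k, hk⟩ := D.hj.exists_lift C.hs C.j fun z => im_le_rg D.hj V₁ (hle z)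
  have hko : OpenImm k := openImm_of_comp D.hj (by rw [hk]; exact C.hj)
  have hkr : rg k hko ≤ V₁ := by
    rintro _ ⟨z, rfl⟩
    obtain ⟨y', hy', e⟩ := hle z
    have h2 : ((D.j : Hom D.sys 𝔛).app 0) (((k : Hom C.sys D.sys).app 0) z) = ((C.j : Hom C.sys 𝔛).app 0) z := by
      rw [← hk, ← Scheme.Hom.comp_apply]
      rfl
    have := D.hj 0
    have h3 : y' = ((k : Hom C.sys D.sys).app 0) z := (D.j : Hom D.sys 𝔛).app 0 |>.isOpenEmbedding.injective (e.trans h2.symm)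
    rw [← h3]
    exact hy'
  obtain ⟨g, hg, hg'⟩ := hV₁ C.sys C.hs k hko hkr
  refine ⟨C, hC, hCle.trans ((im_le_rg D.hj V₁).trans hD), g, hg, ?_, D.k, ?_⟩
  · rw [← hk, idealMap_comp C.hs D.hs h, D.e, idealMap_gn]
    exact congrArg _ hg'
  · have h2 := Ideal.map_mono (f := gsMap C.hs D.hs k) D.hk
    rw [Ideal.map_pow, Ideal.map_map, hg'] at h2
    have h3 : sg C.hs (fun n => (C.j : Hom C.sys 𝔛).app n ≫ w n) (hw.comp h (C.hj.isAdicHom C.hs h)).compat =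
        (gsMap C.hs D.hs k).comp (sg D.hs (fun n => (D.j : Hom D.sys 𝔛).app n ≫ w n)
          (hw.comp h (D.hj.isAdicHom D.hs h)).compat) := by
      refine sg_comp C.hs D.hs k _ _ _ _ fun n => ?_
      have e1 : (k : Hom C.sys D.sys).app n ≫ (D.j : Hom D.sys 𝔛).app n = (C.j : Hom C.sys 𝔛).app n :=
        congrArg (fun t : Hom _ _ => t.app n) hk
      rw [← Category.assoc, e1]
    rw [h3]
    exact h2

/-- Invertible open ideals stay invertible on admissible blow-ups. -/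
theorem isInvertible_pullback (hI : I.FG) {h : 𝔛.IsFormal} {hw : AdicOver 𝔛 I w} (hL : LG h I w hw.compat)
    {K L : IdealSh (𝔛.Osh h)} (hK : LGn h hw K) (hLn : LGn h hw L) (hinv : L.IsInvertible) {h' : 𝔛'.IsFormal}
    {b : 𝔛' ⟶ 𝔛} (hb : IsAdmBlowUp b h' h K) : (idealMap b h' h L).IsInvertible := by
  refine isInvertible_of_cover h' fun x' => ?_
  obtain ⟨C, hC, -, g, hg, e, k, hk⟩ := exists_chart_span hK hLn hinv (((b : Hom 𝔛' 𝔛).app 0) x') ⊤ trivial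
  have hcart := cart_pullback b C.j
  have hF : (pullbackSys b C.j).IsFormal :=
    isFormal_of_isAdicHom (isAdicHom_pullbackFst b (C.hj.isAdicHom C.hs h)) h'
  have hb' := IsAdmBlowUp.restrict hb hcart C.hj hF C.hs
  rw [C.e] at hb'
  have := C.aff
  have hL' : LG C.hs I (fun n => (C.j : Hom C.sys 𝔛).app n ≫ w n) (hw.comp h (C.hj.isAdicHom C.hs h)).compat := hL.restrict C.hs C.hj _
  obtain ⟨P, q, r, hq, hr, hpb⟩ := exists_structure C.hs hI (hw.comp h (C.hj.isAdicHom C.hs h)) hL' C.hk hb'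
  refine ⟨_, hF, pullbackFst b C.j, openImm_pullbackFst _ C.hj, (mem_rg_pullbackFst _ C.hj).2 hC, ?_⟩
  rw [← idealMap_comp, hcart.w, idealMap_comp hF C.hs h, e]
  exact isInvertible_gsMap hI (hw.comp h (C.hj.isAdicHom C.hs h)) hL' hq hr hpb hg hk

theorem nzd_of_cover (h : 𝔛.IsFormal) (s : GS h)
    (H : ∀ x : 𝔛.X 0, ∃ (𝔚 : FSch.Sys.{u}) (h𝔚 : 𝔚.IsFormal) (j : 𝔚 ⟶ 𝔛) (hj : OpenImm j), x ∈ rg j hj ∧
      Nzd (𝔚.Osh h𝔚) ⊤ (gsMap h𝔚 h j s)) : Nzd (𝔛.Osh h) ⊤ s := by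
  intro V i t ht
  refine eq_of_local (O := 𝔛.Osh h) fun x hx => ?_
  obtain ⟨𝔚, h𝔚, j, hj, hxj, hn⟩ := H x
  refine ⟨V ⊓ rg j hj, inf_le_left, ⟨hx, hxj⟩, ?_⟩
  rw [map_zero]
  have hb := sh_bijective h𝔚 h hj (inf_le_right : V ⊓ rg j hj ≤ rg j hj)
  refine (map_eq_zero_iff (sh h𝔚 j h (V ⊓ rg j hj)) hb.1).1 (hn (pre j (V ⊓ rg j hj)) le_top _ ?_)
  have e1 : rs (𝔚.Osh h𝔚) (le_top : pre j (V ⊓ rg j hj) ≤ ⊤) (gsMap h𝔚 h j s) =
    sh h𝔚 j h (V ⊓ rg j hj) (rs (𝔛.Osh h) le_top s) := (sh_res h𝔚 j h (le_top : V ⊓ rg j hj ≤ ⊤) s).symm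
  rw [e1, ← map_mul]
  have e2 := congrArg (rs (𝔛.Osh h) (inf_le_left : V ⊓ rg j hj ≤ V)) ht
  rw [map_mul, rs_rs, map_zero] at e2
  rw [e2, map_zero]

/-- The condition `LG` passes to admissible blow-ups. -/
theorem lg_of_isAdmBlowUp (hI : I.FG) {h : 𝔛.IsFormal} {hw : AdicOver 𝔛 I w} (hL : LG h I w hw.compat)
    {K : IdealSh (𝔛.Osh h)} (hK : LGn h hw K) {h' : 𝔛'.IsFormal}
    {b : 𝔛' ⟶ 𝔛} (hb : IsAdmBlowUp b h' h K) : LG h' I (fun n => (b : Hom 𝔛' 𝔛).app n ≫ w n) (hw.comp h hb.1).compat := by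
  have key : ∀ x' : 𝔛'.X 0, ∃ (C : Chart h hw K) (P : Scheme.{u}) (q : P ⟶ Spec (CommRingCat.of (GS C.hs)))
      (r : ∀ n, (pullbackSys b C.j).X n ⟶ P), ((b : Hom 𝔛' 𝔛).app 0) x' ∈ rg C.j C.hj ∧
      BlowUp.IsBlowUp q (idealSpec (GS C.hs) C.𝔟) ∧
      (∀ n, (pullbackSys b C.j).ι n ≫ r (n + 1) = r n) ∧
      (∀ n, IsPullback (r n) ((pullbackSnd b C.j : Hom _ _).app n) q (kap C.hs n)) := by
    intro x'
    obtain ⟨C, hC, -⟩ := hK (((b : Hom 𝔛' 𝔛).app 0) x') ⊤ trivial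
    have hcart := cart_pullback b C.j
    have hF : (pullbackSys b C.j).IsFormal :=
      isFormal_of_isAdicHom (isAdicHom_pullbackFst b (C.hj.isAdicHom C.hs h)) h'
    have hb' := IsAdmBlowUp.restrict hb hcart C.hj hF C.hs
    rw [C.e] at hb'
    have := C.aff
    have hL' : LG C.hs I (fun n => (C.j : Hom C.sys 𝔛).app n ≫ w n) (hw.comp h (C.hj.isAdicHom C.hs h)).compat := hL.restrict C.hs C.hj _
    obtain ⟨P, q, r, hq, hr, hpb⟩ := exists_structure C.hs hI (hw.comp h (C.hj.isAdicHom C.hs h)) hL' C.hk hb'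
    exact ⟨C, P, q, r, hC, hq, hr, hpb⟩
  rcases id hL with hN | ⟨t, ht, hV⟩
  · left
    intro n
    choose C P q r hC hq hr hpb using key
    let 𝒰 : (𝔛'.X n).OpenCover := {
      I₀ := 𝔛'.X 0, X x := (pullbackSys b (C x).j).X n, f x := (pullbackFst b (C x).j : Hom _ _).app n,
      mem₀ := by
        rw [Scheme.presieve₀_mem_precoverage_iff]
        refine ⟨fun x ↦ ⟨𝔛'.gInv h' n x, ?_⟩, fun x => openImm_pullbackFst b (C x).hj n⟩
        have hF : (pullbackSys b (C (𝔛'.gInv h' n x)).j).IsFormal :=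
          isFormal_of_isAdicHom (isAdicHom_pullbackFst b ((C (𝔛'.gInv h' n x)).hj.isAdicHom (C (𝔛'.gInv h' n x)).hs h)) h'
        exact (mem_range_app_iff hF h' _ n x).2 ((mem_rg_pullbackFst _ (C (𝔛'.gInv h' n x)).hj).2 (hC _)) }
    rw [isLocallyNoetherian_iff_openCover 𝒰]
    intro x
    have h1 : LocallyOfFiniteType (q x) := Groth.Agent.Ega4dB.BlowFT.locallyOfFiniteType_of_isBlowUp (fun U => by
      rw [idealSpec_eq_idl]
      have := comap_idl_ideal (C x).𝔟 (𝟙 (Spec (CommRingCat.of (GS (C x).hs)))) U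
      rw [Scheme.IdealSheafData.comap_id] at this
      rw [this]
      exact (C x).fg.map _) (hq x)
    have h2 : LocallyOfFiniteType ((pullbackSnd b (C x).j : Hom _ _).app n) :=
      MorphismProperty.of_isPullback (P := @LocallyOfFiniteType) (hpb x n) h1
    have := (C x).hj n
    have := hN n
    have h3 : IsLocallyNoetherian ((C x).sys.X n) := isLocallyNoetherian_of_isOpenImmersion (((C x).j : Hom _ _).app n)
    exact LocallyOfFiniteType.isLocallyNoetherian ((pullbackSnd b (C x).j : Hom _ _).app n)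
  · right
    refine ⟨t, ht, nzd_of_cover h' _ fun x' => ?_⟩
    obtain ⟨C, P, q, r, hC, hq, hr, hpb⟩ := key x'
    have hF : (pullbackSys b C.j).IsFormal :=
      isFormal_of_isAdicHom (isAdicHom_pullbackFst b (C.hj.isAdicHom C.hs h)) h'
    refine ⟨_, hF, pullbackFst b C.j, openImm_pullbackFst _ C.hj, (mem_rg_pullbackFst _ C.hj).2 hC, ?_⟩
    have := C.aff
    have hL' : LG C.hs I (fun n => (C.j : Hom C.sys 𝔛).app n ≫ w n) (hw.comp h (C.hj.isAdicHom C.hs h)).compat := hL.restrict C.hs C.hj _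
    have hcart := cart_pullback b C.j
    have e1 : gsMap hF h' (pullbackFst b C.j) (sg h' (fun n => (b : Hom 𝔛' 𝔛).app n ≫ w n) (hw.comp h hb.1).compat t) =
        gsMap hF C.hs (pullbackSnd b C.j) (sg C.hs (fun n => (C.j : Hom C.sys 𝔛).app n ≫ w n) (hw.comp h (C.hj.isAdicHom C.hs h)).compat t) := by
      have e2 := sg_comp hF h' (pullbackFst b C.j) (fun n => (b : Hom 𝔛' 𝔛).app n ≫ w n) (hw.comp h hb.1).compat
        (fun n => ((pullbackFst b C.j ≫ b : _ ⟶ _) : Hom _ _).app n ≫ w n)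
        (hw.comp h (isAdicHom_comp ((openImm_pullbackFst b C.hj).isAdicHom hF h') hb.1)).compat
        (fun n => (Category.assoc _ _ _).symm)
      have e3 := sg_comp hF C.hs (pullbackSnd b C.j) (fun n => (C.j : Hom C.sys 𝔛).app n ≫ w n) (hw.comp h (C.hj.isAdicHom C.hs h)).compat
        (fun n => ((pullbackFst b C.j ≫ b : _ ⟶ _) : Hom _ _).app n ≫ w n)
        (hw.comp h (isAdicHom_comp ((openImm_pullbackFst b C.hj).isAdicHom hF h') hb.1)).compat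
        (fun n => by rw [hcart.w]; exact (Category.assoc _ _ _).symm)
      exact (congrArg (fun f : R →+* _ => f t) e2).symm.trans (congrArg (fun f : R →+* _ => f t) e3)
    rw [e1]
    have hg : Nzd (C.sys.Osh C.hs) ⊤ (sg C.hs (fun n => (C.j : Hom C.sys 𝔛).app n ≫ w n) (hw.comp h (C.hj.isAdicHom C.hs h)).compat t) := by
      have h1 : Nzd (𝔛.Osh h) (rg C.j C.hj) (rs (𝔛.Osh h) le_top (sg h w hw.compat t)) := hV.res le_top
      have h2 := ((nzd_sh_iff C.hs h C.hj le_rfl _).2 h1).res (pre_rg C.j C.hj)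
      rw [rs_sh_rs] at h2
      rw [sg_comp C.hs h C.j w hw.compat (fun n => (C.j : Hom C.sys 𝔛).app n ≫ w n) (hw.comp h (C.hj.isAdicHom C.hs h)).compat (fun _ => rfl)]
      exact h2
    refine nzd_gsMap hI (hw.comp h (C.hj.isAdicHom C.hs h)) hL' hq hr hpb (k' := 1) ?_ ?_
    · rw [mem_nonZeroDivisors_iff_right]
      exact hg.self
    · subst ht
      rw [pow_one, Ideal.map_span, Set.image_singleton]

end K788.Glob
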