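import Groth.Agent.FBlow.K788.GlueS

/-!
# Glueing formal systems over a formal system
-/

set_option autoImplicit false
set_option linter.unusedVariables false

universe u

open CategoryTheory CategoryTheory.Limits TopologicalSpace Opposite AlgebraicGeometry

namespace K788.Glue

open FSch FBlow K788.Osh K788.IdSh K788.GenL K788.SysB K788.IdMap K788.Restr K788.Aff K788.Crt

variable {𝔛 𝔛' 𝔜 ℨ 𝔘 𝔚 : FSch.Sys.{u}}

/-- Inclusions between open subsystems. -/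
noncomputable def incl (h : 𝔛.IsFormal) {V V' : (𝔛.X 0).Opens} (i : V ≤ V') :
    𝔛.restrictOpen h V ⟶ 𝔛.restrictOpen h V' :=
  ⟨fun n => (𝔛.X n).homOfLE (FBlow.lvU_mono 𝔛 h n i), fun n => by
    change (𝔛.X n).homOfLE (FBlow.lvU_mono 𝔛 h n i) ≫ (𝔛.ι n).resLE _ _ _ = (𝔛.ι n).resLE _ _ _ ≫
      (𝔛.X (n + 1)).homOfLE (FBlow.lvU_mono 𝔛 h (n + 1) i)
    rw [← cancel_mono (Scheme.Opens.ι _), Category.assoc, Scheme.Hom.resLE_comp_ι, Category.assoc, Scheme.homOfLE_ι,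
      Scheme.Hom.resLE_comp_ι, Scheme.homOfLE_ι_assoc]⟩

theorem incl_ι (h : 𝔛.IsFormal) {V V' : (𝔛.X 0).Opens} (i : V ≤ V') :
    incl h i ≫ 𝔛.restrictOpenι h V' = 𝔛.restrictOpenι h V := by
  apply Hom.ext
  funext n
  exact (𝔛.X n).homOfLE_ι (FBlow.lvU_mono 𝔛 h n i)

theorem openImm_incl (h : 𝔛.IsFormal) {V V' : (𝔛.X 0).Opens} (i : V ≤ V') : OpenImm (incl h i) := fun n =>
  (inferInstance : IsOpenImmersion ((𝔛.X n).homOfLE (FBlow.lvU_mono 𝔛 h n i)))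

variable (𝔛) in
/-- Gluing data of systems over a formal system. -/
structure GlueD (h : 𝔛.IsFormal) where
  Good : (𝔛.X 0).Opens → Prop
  mono : ∀ {V V' : (𝔛.X 0).Opens}, V ≤ V' → Good V' → Good V
  cover : ∀ x : 𝔛.X 0, ∃ V, x ∈ V ∧ Good V
  sys : {V // Good V} → FSch.Sys.{u}
  hs : ∀ V, (sys V).IsFormal
  c : ∀ V, sys V ⟶ 𝔛.restrictOpen h V.1
  m : ∀ {V V' : {V // Good V}}, V ≤ V' → (sys V ⟶ sys V')
  m_id : ∀ V, m (le_refl V) = 𝟙 _
  m_comp : ∀ {V V' V'' : {V // Good V}} (i : V ≤ V') (j : V' ≤ V''), m (i.trans j) = m i ≫ m j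
  cart : ∀ {V V' : {V // Good V}} (i : V ≤ V'), Cart (m i) (c V) (c V') (incl h i)

variable {h : 𝔛.IsFormal}

theorem dirCov (D : GlueD 𝔛 h) (n : ℕ) :
    GlueS.DirCov (X := 𝔛.X n) (fun V : {V // D.Good V} => 𝔛.lvU h n V.1) where
  mono i := FBlow.lvU_mono 𝔛 h n i
  cover x := by
    obtain ⟨V, hV, hG⟩ := D.cover (𝔛.gInv h n x)
    exact ⟨⟨V, hG⟩, hV⟩
  dir V V' x hx hx' := ⟨⟨V.1 ⊓ V'.1, D.mono inf_le_left V.2⟩, (inf_le_left : V.1 ⊓ V'.1 ≤ V.1),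
    (inf_le_right : V.1 ⊓ V'.1 ≤ V'.1), ⟨hx, hx'⟩⟩

/-- The family on a level. -/
noncomputable def famN (D : GlueD 𝔛 h) (n : ℕ) : GlueS.Fam (fun V : {V // D.Good V} => 𝔛.lvU h n V.1) (dirCov D n) where
  P V := (D.sys V).X n
  m i := (D.m i : Hom _ _).app n
  m_id V := congrArg (fun t : Hom _ _ => t.app n) (D.m_id V)
  m_comp i j := congrArg (fun t : Hom _ _ => t.app n) (D.m_comp i j)
  c V := (D.c V : Hom _ _).app n
  hc i := D.cart i n

theorem exists_level (D : GlueD 𝔛 h) (n : ℕ) :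
    ∃ (G : Scheme.{u}) (b : G ⟶ 𝔛.X n) (j : ∀ V : {V // D.Good V}, (D.sys V).X n ⟶ G),
      (∀ {V V' : {V // D.Good V}} (i : V ≤ V'), (D.m i : Hom _ _).app n ≫ j V' = j V) ∧
      (∀ V : {V // D.Good V}, IsPullback (j V) ((D.c V : Hom _ _).app n) b (𝔛.lvU h n V.1).ι) ∧
      (∀ (T : Scheme.{u}) (t : ∀ V : {V // D.Good V}, (D.sys V).X n ⟶ T),
        (∀ {V V' : {V // D.Good V}} (i : V ≤ V'), (D.m i : Hom _ _).app n ≫ t V' = t V) →
        ∃ g : G ⟶ T, ∀ V, j V ≫ g = t V) ∧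
      (∀ (T : Scheme.{u}) (g g' : G ⟶ T), (∀ V, j V ≫ g = j V ≫ g') → g = g') :=
  GlueS.exists_glue (famN D n)

theorem exists_glued (D : GlueD 𝔛 h) :
    ∃ (𝔊 : FSch.Sys.{u}) (_ : 𝔊.IsFormal) (b : 𝔊 ⟶ 𝔛) (j : ∀ V, D.sys V ⟶ 𝔊),
      (∀ {V V' : {V // D.Good V}} (i : V ≤ V'), D.m i ≫ j V' = j V) ∧
      ∀ V, Cart (j V) (D.c V) b (𝔛.restrictOpenι h V.1) := by
  choose G b j hj hC hex huniq using fun n => exists_level D n
  have hι : ∀ n, ∃ g : G n ⟶ G (n + 1), ∀ V : {V // D.Good V}, j n V ≫ g = (D.sys V).ι n ≫ j (n + 1) V := fun n =>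
    hex n (G (n + 1)) (fun V => (D.sys V).ι n ≫ j (n + 1) V) (fun {V V'} i => by
      rw [← Category.assoc, (D.m i : Hom _ _).comm n, Category.assoc, hj])
  choose g hg using hι
  have hcomm : ∀ n, b n ≫ 𝔛.ι n = g n ≫ b (n + 1) := fun n => huniq n _ _ _ fun V => by
    have e1 : j n V ≫ b n = (D.c V : Hom _ _).app n ≫ (𝔛.restrictOpenι h V.1 : Hom _ _).app n := (hC n V).w
    have e2 : j (n + 1) V ≫ b (n + 1) = (D.c V : Hom _ _).app (n + 1) ≫ (𝔛.restrictOpenι h V.1 : Hom _ _).app (n + 1) :=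
      (hC (n + 1) V).w
    rw [← Category.assoc, e1, Category.assoc, (𝔛.restrictOpenι h V.1 : Hom _ _).comm n, ← Category.assoc,
      (D.c V : Hom _ _).comm n, Category.assoc, ← e2, ← Category.assoc, ← hg n V, Category.assoc]
  let 𝔊 : FSch.Sys.{u} := ⟨G, g⟩
  let bb : 𝔊 ⟶ 𝔛 := (⟨b, hcomm⟩ : Hom 𝔊 𝔛)
  let jj : ∀ V, D.sys V ⟶ 𝔊 := fun V => (⟨fun n => j n V, fun n => hg n V⟩ : Hom (D.sys V) 𝔊)
  have hCC : ∀ V, Cart (jj V) (D.c V) bb (𝔛.restrictOpenι h V.1) := fun V n => hC n V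
  have hF : 𝔊.IsFormal := fun n => by
    have hP : ∀ V, IsPullback (j n V) ((D.sys V).ι n) (g n) (j (n + 1) V) := fun V => by
      have hout := (hCC V n).paste_vert
        ((openImm_restrictOpenι h V.1).isAdicHom (isFormal_restrictOpen h V.1) h n).flip
      have e : (D.c V : Hom _ _).app n ≫ (𝔛.restrictOpen h V.1).ι n = (D.sys V).ι n ≫ (D.c V : Hom _ _).app (n + 1) :=
        (D.c V : Hom _ _).comm n
      rw [e, (bb : Hom 𝔊 𝔛).comm n] at hout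
      exact IsPullback.of_bot hout (hg n V) (hCC V (n + 1))
    have hO : ∀ V, IsOpenImmersion (j (n + 1) V) := fun V =>
      ((hCC V).openImm (openImm_restrictOpenι h V.1)) (n + 1)
    have hcov : ∀ x : G (n + 1), ∃ V, x ∈ Set.range (j (n + 1) V) := fun x => by
      obtain ⟨V, hV, hG⟩ := D.cover (𝔛.gInv h (n + 1) (b (n + 1) x))
      obtain ⟨z, hz, -⟩ := Scheme.exists_preimage_of_isPullback (hC (n + 1) ⟨V, hG⟩) x (⟨b (n + 1) x, hV⟩ : 𝔛.lvU h (n + 1) V) rfl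
      exact ⟨⟨V, hG⟩, z, hz⟩
    let 𝒰 : (G (n + 1)).OpenCover :=
      { I₀ := {V // D.Good V}
        X := fun V => (D.sys V).X (n + 1)
        f := fun V => j (n + 1) V
        mem₀ := by
          rw [Scheme.presieve₀_mem_precoverage_iff]
          exact ⟨hcov, hO⟩ }
    constructor
    · refine (IsZariskiLocalAtTarget.iff_of_openCover (P := @IsClosedImmersion) 𝒰).2 fun V => ?_
      have e : 𝒰.pullbackHom (g n) V = (hP V).isoPullback.inv ≫ (D.sys V).ι n :=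
        ((Iso.inv_comp_eq _).2 ((hP V).isoPullback_hom_snd).symm).symm
      have h1 := (D.hs V n).1
      have h2 : IsClosedImmersion ((hP V).isoPullback.inv ≫ (D.sys V).ι n) :=
        (MorphismProperty.cancel_left_of_respectsIso @IsClosedImmersion (hP V).isoPullback.inv ((D.sys V).ι n)).2 h1
      exact e ▸ h2
    · intro y
      obtain ⟨V, z, rfl⟩ := hcov y
      obtain ⟨w, rfl⟩ := (D.hs V n).2 z
      refine ⟨j n V w, ?_⟩
      exact congrArg (fun t : (D.sys V).X n ⟶ G (n + 1) => t w) (hg n V)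
  refine ⟨𝔊, hF, bb, jj, fun {V V'} i => Hom.ext (funext fun n => hj n i), hCC⟩

end K788.Glue
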