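import Groth.Agent.FBlow.K788.Cart
import Mathlib.AlgebraicGeometry.RelativeGluing

/-!
# Glueing schemes over a scheme along a directed open cover
-/

set_option autoImplicit false

universe u

open CategoryTheory CategoryTheory.Limits TopologicalSpace Opposite AlgebraicGeometry

namespace K788.GlueS

theorem exists_of_rgd {S : Scheme.{u}} (𝒰 : S.OpenCover) [Category 𝒰.I₀] [𝒰.LocallyDirected]
    (_ : Quiver.IsThin 𝒰.I₀) (_ : Small.{u} 𝒰.I₀) (d : 𝒰.RelativeGluingData) :
    ∃ (G : Scheme.{u}) (b : G ⟶ S) (j : ∀ i, d.functor.obj i ⟶ G),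
      (∀ {i k} (f : i ⟶ k), d.functor.map f ≫ j k = j i) ∧ (∀ i, IsPullback (j i) (d.natTrans.app i) b (𝒰.f i)) ∧
      (∀ (T : Scheme.{u}) (t : ∀ i, d.functor.obj i ⟶ T), (∀ {i k} (f : i ⟶ k), d.functor.map f ≫ t k = t i) →
        ∃ g : G ⟶ T, ∀ i, j i ≫ g = t i) ∧
      (∀ (T : Scheme.{u}) (g g' : G ⟶ T), (∀ i, j i ≫ g = j i ≫ g') → g = g') := by
  refine ⟨d.glued, d.toBase, fun i => colimit.ι d.functor i, ?_, ?_, ?_, ?_⟩
  · intro i k h
    exact colimit.w d.functor h
  · intro i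
    exact (d.isPullback_natTrans_ι_toBase i).flip
  · intro T t ht
    refine ⟨colimit.desc d.functor ⟨T, ⟨fun i => t i, fun {i k} h => ?_⟩⟩, fun i => colimit.ι_desc _ _⟩
    exact (ht h).trans (Category.comp_id _).symm
  · intro T g g' hg
    exact colimit.hom_ext hg

variable {X : Scheme.{u}} {I : Type u} [Preorder I]

/-- Directed families of opens. -/
structure DirCov (U : I → X.Opens) : Prop where
  mono : ∀ {i j : I}, i ≤ j → U i ≤ U j
  cover : ∀ x : X, ∃ i, x ∈ U i
  dir : ∀ (i j : I) (x : X), x ∈ U i → x ∈ U j → ∃ k, k ≤ i ∧ k ≤ j ∧ x ∈ U k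

theorem homOfLE_self' {X : Scheme.{u}} {U : X.Opens} (e : U ≤ U) : X.homOfLE e = 𝟙 _ :=
  (cancel_mono U.ι).1 ((X.homOfLE_ι e).trans (Category.id_comp _).symm)

theorem homOfLE_trans' {X : Scheme.{u}} {U V W : X.Opens} (e : U ≤ V) (f : V ≤ W) (g : U ≤ W) :
    X.homOfLE g = X.homOfLE e ≫ X.homOfLE f := by
  rw [← cancel_mono W.ι, Category.assoc, X.homOfLE_ι, X.homOfLE_ι, X.homOfLE_ι]

/-- The open cover. -/
@[reducible] noncomputable def cov (U : I → X.Opens) (hU : DirCov U) : X.OpenCover where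
  I₀ := I
  X i := (U i : Scheme.{u})
  f i := (U i).ι
  mem₀ := by
    rw [Scheme.presieve₀_mem_precoverage_iff]
    refine ⟨fun x ↦ ?_, inferInstance⟩
    obtain ⟨i, hi⟩ := hU.cover x
    refine ⟨i, ?_⟩
    rw [Scheme.Opens.range_ι]
    exact hi

@[reducible] def instCat (U : I → X.Opens) (hU : DirCov U) : Category (cov U hU).I₀ := (Preorder.smallCategory I : Category I)

attribute [local instance] instCat

@[reducible] noncomputable def instLD (U : I → X.Opens) (hU : DirCov U) : Scheme.Cover.LocallyDirected (cov U hU) where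
  trans {i j} hij := X.homOfLE (hU.mono (leOfHom (X := I) hij))
  trans_id i := homOfLE_self' _
  trans_comp {i j k} hij hjk := homOfLE_trans' _ _ _
  w {i j} hij := X.homOfLE_ι _
  directed {i j} x := by
    obtain ⟨y, hy⟩ : ∃ y : X, y = (pullback.fst (U i).ι (U j).ι ≫ (U i).ι) x := ⟨_, rfl⟩
    have hi : y ∈ U i := by
      have : y ∈ Set.range (U i).ι := ⟨pullback.fst (U i).ι (U j).ι x, hy.symm⟩
      rwa [Scheme.Opens.range_ι] at this
    have hj : y ∈ U j := by
      have : y ∈ Set.range (U j).ι := by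
        rw [hy, pullback.condition]
        exact ⟨pullback.snd (U i).ι (U j).ι x, rfl⟩
      rwa [Scheme.Opens.range_ι] at this
    obtain ⟨k, hki, hkj, hk⟩ := hU.dir i j y hi hj
    refine ⟨k, homOfLE hki, homOfLE hkj, (⟨y, hk⟩ : U k), ?_⟩
    refine (pullback.fst (U i).ι (U j).ι ≫ (U i).ι).isOpenEmbedding.injective ?_
    refine Eq.trans ?_ hy
    have e : pullback.lift (X.homOfLE (hU.mono hki)) (X.homOfLE (hU.mono hkj)) (by simp) ≫ pullback.fst (U i).ι (U j).ι ≫ (U i).ι =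
      (U k).ι := by
      rw [pullback.lift_fst_assoc, X.homOfLE_ι]
    exact congrArg (fun t : (U k : Scheme.{u}) ⟶ X => t (⟨y, hk⟩ : U k)) e
  property_trans {i j} hij := (inferInstance : IsOpenImmersion (X.homOfLE _))

attribute [local instance] instLD

/-- Families of schemes over the cover. -/
structure Fam (U : I → X.Opens) (hU : DirCov U) where
  P : I → Scheme.{u}
  m : ∀ {i j : I}, i ≤ j → (P i ⟶ P j)
  m_id : ∀ i, m (le_refl i) = 𝟙 _
  m_comp : ∀ {i j k} (h : i ≤ j) (h' : j ≤ k), m (h.trans h') = m h ≫ m h'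
  c : ∀ i, P i ⟶ (U i : Scheme.{u})
  hc : ∀ {i j} (h : i ≤ j), IsPullback (m h) (c i) (c j) (X.homOfLE (hU.mono h))

/-- The relative gluing datum. -/
noncomputable def rgd {U : I → X.Opens} {hU : DirCov U} (F : Fam U hU) : (cov U hU).RelativeGluingData where
  functor :=
    { obj := fun i : I => F.P i
      map := fun {i j : I} h => F.m (leOfHom h)
      map_id := fun i => F.m_id i
      map_comp := fun {i j k} h h' => F.m_comp (leOfHom (X := I) h) (leOfHom (X := I) h') }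
  natTrans :=
    { app := fun i : I => F.c i
      naturality := fun {i j} h => (F.hc (leOfHom (X := I) h)).w }
  equifibered := fun {i j} h => F.hc (leOfHom (X := I) h)

theorem exists_glue {U : I → X.Opens} {hU : DirCov U} (F : Fam U hU) :
    ∃ (G : Scheme.{u}) (b : G ⟶ X) (j : ∀ i, F.P i ⟶ G),
      (∀ {i k} (h : i ≤ k), F.m h ≫ j k = j i) ∧ (∀ i, IsPullback (j i) (F.c i) b (U i).ι) ∧
      (∀ (T : Scheme.{u}) (t : ∀ i, F.P i ⟶ T), (∀ {i k} (h : i ≤ k), F.m h ≫ t k = t i) →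
        ∃ g : G ⟶ T, ∀ i, j i ≫ g = t i) ∧
      (∀ (T : Scheme.{u}) (g g' : G ⟶ T), (∀ i, j i ≫ g = j i ≫ g') → g = g') := by
  obtain ⟨G, b, j, h1, h2, h3, h4⟩ := exists_of_rgd (cov U hU) (inferInstanceAs (Quiver.IsThin I))
    (inferInstanceAs (Small.{u} I)) (rgd F)
  exact ⟨G, b, j, fun {i k} h => h1 (homOfLE h), h2, fun T t ht => h3 T t fun {i k} h => ht (leOfHom (X := I) h), h4⟩

end K788.GlueS
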