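import Groth.Agent.FBlow.K788.SysB

/-!
# Inverse images of ideal sheaves along morphisms of formal systems
-/

set_option autoImplicit false

universe u

open CategoryTheory CategoryTheory.Limits TopologicalSpace Opposite AlgebraicGeometry

namespace K788.IdMap

open FSch FBlow K788.Osh K788.IdSh K788.GenL K788.SysB

section Generic

variable {T T' T'' : TopCat.{u}} {O : Sheaf (Opens.grothendieckTopology T) CommRingCat.{u}}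
  {O' : Sheaf (Opens.grothendieckTopology T') CommRingCat.{u}}
  {O'' : Sheaf (Opens.grothendieckTopology T'') CommRingCat.{u}} (g : T' ⟶ T) (g' : T'' ⟶ T') (k : T'' ⟶ T)
  (φ : O ⟶ (TopCat.Sheaf.pushforward CommRingCat.{u} g).obj O')
  (φ' : O' ⟶ (TopCat.Sheaf.pushforward CommRingCat.{u} g').obj O'')
  (ψ : O ⟶ (TopCat.Sheaf.pushforward CommRingCat.{u} k).obj O'')

theorem map_map_of_comp (hk : ∀ U : Opens T, (Opens.map k).obj U ≤ (Opens.map g').obj ((Opens.map g).obj U))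
    (hk' : ∀ U : Opens T, (Opens.map g').obj ((Opens.map g).obj U) ≤ (Opens.map k).obj U)
    (hψ : ∀ (U : Opens T) (s : O.obj.obj (op U)), ap k ψ U s = rs O'' (hk U) (ap g' φ' _ (ap g φ U s)))
    (J : IdealSh O) :
    IdealSh.map k ψ J = IdealSh.map g' φ' (IdealSh.map g φ J) := by
  refine le_antisymm' ((map_le_iff k ψ).2 fun U a ha => ?_)
    ((map_le_iff g' φ').2 ((map_le_iff g φ).2 fun U a ha => ?_))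
  · change ap k ψ U a ∈ (IdealSh.map g' φ' (IdealSh.map g φ J)).sect ((Opens.map k).obj U)
    rw [hψ]
    exact rs_ap_mem_map g' φ' _ (ap_mem_map g φ J ha) _
  · change ap g' φ' _ (ap g φ U a) ∈ (IdealSh.map k ψ J).sect ((Opens.map g').obj ((Opens.map g).obj U))
    have h1 := ap_mem_map k ψ J ha
    rw [hψ] at h1
    have h2 := rs_mem _ (hk' U) h1
    rw [rs_rs, rs_self] at h2
    exact h2

end Generic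

variable {𝔛 𝔜 ℨ 𝔘 : FSch.Sys.{u}}

theorem idealMap_comp (h𝔛 : 𝔛.IsFormal) (h𝔜 : 𝔜.IsFormal) (hℨ : ℨ.IsFormal) (f : 𝔛 ⟶ 𝔜) (g : 𝔜 ⟶ ℨ)
    (J : IdealSh (ℨ.Osh hℨ)) :
    idealMap (f ≫ g) h𝔛 hℨ J = idealMap f h𝔛 h𝔜 (idealMap g h𝔜 hℨ J) := by
  refine map_map_of_comp _ _ _ _ _ _ (fun U => le_rfl) (fun U => le_rfl) (fun U s => ?_) J
  exact (sh_comp h𝔛 h𝔜 hℨ f g U s).trans (rs_self (O := 𝔛.Osh h𝔛) le_rfl _).symm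

theorem idealMap_mul (h𝔛 : 𝔛.IsFormal) (h𝔜 : 𝔜.IsFormal) (f : 𝔛 ⟶ 𝔜) (J K : IdealSh (𝔜.Osh h𝔜)) :
    idealMap f h𝔛 h𝔜 (IdealSh.mul J K) = IdealSh.mul (idealMap f h𝔛 h𝔜 J) (idealMap f h𝔛 h𝔜 K) :=
  map_mul' _ _ J K

theorem idealMap_mono (h𝔛 : 𝔛.IsFormal) (h𝔜 : 𝔜.IsFormal) (f : 𝔛 ⟶ 𝔜) {J K : IdealSh (𝔜.Osh h𝔜)} (h : J ≤ K) :
    idealMap f h𝔛 h𝔜 J ≤ idealMap f h𝔛 h𝔜 K := map_mono _ _ h

theorem sh_mem_idealMap (h𝔛 : 𝔛.IsFormal) (h𝔜 : 𝔜.IsFormal) (f : 𝔛 ⟶ 𝔜) (J : IdealSh (𝔜.Osh h𝔜))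
    {U : (𝔜.X 0).Opens} {s : Sec 𝔜 h𝔜 U} (hs : s ∈ J.sect U) :
    sh h𝔛 f h𝔜 U s ∈ (idealMap f h𝔛 h𝔜 J).sect (pre f U) := ap_mem_map _ _ J hs

theorem idealMap_le_iff (h𝔛 : 𝔛.IsFormal) (h𝔜 : 𝔜.IsFormal) (f : 𝔛 ⟶ 𝔜) {J : IdealSh (𝔜.Osh h𝔜)}
    {K : IdealSh (𝔛.Osh h𝔛)} : idealMap f h𝔛 h𝔜 J ≤ K ↔
      ∀ (U : (𝔜.X 0).Opens), ∀ s ∈ J.sect U, sh h𝔛 f h𝔜 U s ∈ K.sect (pre f U) := map_le_iff _ _

theorem sh_id (h𝔛 : 𝔛.IsFormal) (U : (𝔛.X 0).Opens) (s : Sec 𝔛 h𝔛 U) : sh h𝔛 (𝟙 𝔛) h𝔛 U s = s := by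
  refine sec_ext h𝔛 fun n => ?_
  refine (pr_sh h𝔛 (𝟙 𝔛) h𝔛 n U s).trans ?_
  have e : Scheme.Hom.appLE (𝟙 (𝔛.X n)) (𝔛.lvU h𝔛 n U) (𝔛.lvU h𝔛 n U) le_rfl = 𝟙 _ := by
    exact (Scheme.Hom.appLE_eq_app (𝟙 (𝔛.X n))).trans (Scheme.Hom.id_app _)
  exact ConcreteCategory.congr_hom e _

theorem idealMap_id (h𝔛 : 𝔛.IsFormal) (J : IdealSh (𝔛.Osh h𝔛)) : idealMap (𝟙 𝔛) h𝔛 h𝔛 J = J := by
  refine le_antisymm' ((idealMap_le_iff h𝔛 h𝔛 (𝟙 𝔛)).2 fun U s hs => ?_) fun U s hs => ?_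
  · rw [sh_id]; exact hs
  · have := sh_mem_idealMap h𝔛 h𝔛 (𝟙 𝔛) J hs
    rwa [sh_id] at this

theorem locStalk_Osh (h𝔛 : 𝔛.IsFormal) : LocStalk (𝔛.Osh h𝔛) where
  zero U x hx h0 := by
    obtain ⟨i, hi, -⟩ := exists_isUnit_res h𝔛 (∅ : Finset ℕ) (U := U) (fun _ => 0) (by simpa using h0) hx
    simp at hi
  add U x hx a b hab := by
    obtain ⟨i, -, V, j, hxV, hu⟩ := exists_isUnit_res h𝔛 (Finset.univ : Finset Bool) (U := U)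
      (fun i => cond i a b) (by simpa using hab) hx
    cases i with
    | true => exact Or.inl ⟨V, j, hxV, hu⟩
    | false => exact Or.inr ⟨V, j, hxV, hu⟩

section Open

variable (h𝔘 : 𝔘.IsFormal) (h𝔛 : 𝔛.IsFormal) {j : 𝔘 ⟶ 𝔛} (hj : OpenImm j)

/-- The image of an open under an open immersion. -/
noncomputable def im (W : (𝔘.X 0).Opens) : (𝔛.X 0).Opens :=
  haveI := hj 0
  ((j : Hom 𝔘 𝔛).app 0) ''ᵁ W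

theorem mem_im {W : (𝔘.X 0).Opens} {x : 𝔛.X 0} : x ∈ im hj W ↔ ∃ y ∈ W, ((j : Hom 𝔘 𝔛).app 0) y = x := Iff.rfl

theorem im_le_rg (W : (𝔘.X 0).Opens) : im hj W ≤ rg j hj := by
  rintro x ⟨y, -, rfl⟩
  exact ⟨y, rfl⟩

theorem pre_im (W : (𝔘.X 0).Opens) : pre j (im hj W) = W := by
  have := hj 0
  ext x
  change ((j : Hom 𝔘 𝔛).app 0) x ∈ ((j : Hom 𝔘 𝔛).app 0) ''ᵁ W ↔ _
  rw [Scheme.Hom.apply_mem_image_iff]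
  rfl

theorem im_le {W : (𝔘.X 0).Opens} {V : (𝔛.X 0).Opens} (h : W ≤ pre j V) : im hj W ≤ V := by
  rintro x ⟨y, hy, rfl⟩
  exact h hy

theorem im_pre {V : (𝔛.X 0).Opens} (hV : V ≤ rg j hj) : im hj (pre j V) = V := by
  refine le_antisymm (im_le hj le_rfl) fun x hx => ?_
  obtain ⟨y, rfl⟩ := hV hx
  exact ⟨y, hx, rfl⟩

/-- An eliminator: every open of `𝔘` is the preimage of an open in the range. -/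
theorem exists_pre_eq (W : (𝔘.X 0).Opens) : ∃ V : (𝔛.X 0).Opens, V ≤ rg j hj ∧ pre j V = W :=
  ⟨im hj W, im_le_rg hj W, pre_im hj W⟩

theorem le_of_pre_le {V V' : (𝔛.X 0).Opens} (hV : V ≤ rg j hj) (h : pre j V ≤ pre j V') : V ≤ V' := by
  rw [← im_pre hj hV]
  exact im_le hj h

include hj in
theorem sh_mem_idealMap_iff {V : (𝔛.X 0).Opens} (hV : V ≤ rg j hj) (J : IdealSh (𝔛.Osh h𝔛)) (s : Sec 𝔛 h𝔛 V) :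
    sh h𝔘 j h𝔛 V s ∈ (idealMap j h𝔘 h𝔛 J).sect (pre j V) ↔ s ∈ J.sect V := by
  refine ⟨fun hs => ?_, fun hs => sh_mem_idealMap h𝔘 h𝔛 j J hs⟩
  refine J.mem_of_local fun x hx => ?_
  obtain ⟨y, rfl⟩ := hV hx
  obtain ⟨W, hW, V', i, k, hy, h1⟩ := exists_of_mem_map _ _ hs (x := y) hx (W₀ := V) hx
  obtain ⟨V'', hV'', rfl⟩ := exists_pre_eq hj V'
  have hle : V'' ≤ V := le_of_pre_le hj hV'' i
  have hleW : V'' ≤ W := le_of_pre_le hj hV'' k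
  refine ⟨V'', hle, hy, ?_⟩
  change rs _ hle s ∈ _
  have e1 : rs (𝔘.Osh h𝔘) i (sh h𝔘 j h𝔛 V s) = sh h𝔘 j h𝔛 V'' (rs _ hle s) := (sh_res h𝔘 j h𝔛 hle s).symm
  rw [e1] at h1
  have hb := sh_bijective h𝔘 h𝔛 hj hV''
  have e2 : (rs (𝔘.Osh h𝔘) k).comp (ap ((j : Hom 𝔘 𝔛).app 0).base (Hom.sharp j h𝔘 h𝔛) W) =
      (sh h𝔘 j h𝔛 V'').comp (rs (𝔛.Osh h𝔛) hleW) := by
    ext t
    exact (sh_res h𝔘 j h𝔛 hleW t).symm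
  rw [e2, ← Ideal.map_map] at h1
  obtain ⟨t, ht, e3⟩ := (Ideal.mem_map_iff_of_surjective _ hb.2).1 h1
  rw [hb.1 e3] at ht
  exact (Ideal.map_le_iff_le_comap.2 fun a ha => rs_mem J hleW ha) ht

include hj in
theorem nzd_sh_iff {V : (𝔛.X 0).Opens} (hV : V ≤ rg j hj) (g : Sec 𝔛 h𝔛 V) :
    Nzd (𝔘.Osh h𝔘) (pre j V) (sh h𝔘 j h𝔛 V g) ↔ Nzd (𝔛.Osh h𝔛) V g := by
  constructor
  · intro H W i t ht
    have hb := sh_bijective h𝔘 h𝔛 hj (i.trans hV)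
    have := H (pre j W) (fun _ hx => i hx) (sh h𝔘 j h𝔛 W t) (by
      have e1 : rs (𝔘.Osh h𝔘) (show pre j W ≤ pre j V from fun _ hx => i hx) (sh h𝔘 j h𝔛 V g) =
        sh h𝔘 j h𝔛 W (rs _ i g) := (sh_res h𝔘 j h𝔛 i g).symm
      rw [e1, ← map_mul, ht, map_zero])
    rw [← map_zero (sh h𝔘 j h𝔛 W)] at this
    exact hb.1 this
  · intro H W' i t ht
    obtain ⟨W, hW, rfl⟩ := exists_pre_eq hj W'
    have hWV : W ≤ V := le_of_pre_le hj hW i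
    have hb := sh_bijective h𝔘 h𝔛 hj hW
    obtain ⟨t, rfl⟩ := hb.2 t
    have e1 : rs (𝔘.Osh h𝔘) i (sh h𝔘 j h𝔛 V g) = sh h𝔘 j h𝔛 W (rs _ hWV g) := (sh_res h𝔘 j h𝔛 hWV g).symm
    rw [e1, ← map_mul, ← map_zero (sh h𝔘 j h𝔛 W)] at ht
    rw [H W hWV t (hb.1 ht), map_zero]

include hj in
theorem princ_sh_iff {V : (𝔛.X 0).Opens} (hV : V ≤ rg j hj) (J : IdealSh (𝔛.Osh h𝔛)) (g : Sec 𝔛 h𝔛 V) :
    Princ (idealMap j h𝔘 h𝔛 J) (pre j V) (sh h𝔘 j h𝔛 V g) ↔ Princ J V g := by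
  constructor
  · intro H
    refine ⟨(sh_mem_idealMap_iff h𝔘 h𝔛 hj hV J g).1 H.mem, fun W i s hs => ?_⟩
    have hb := sh_bijective h𝔘 h𝔛 hj (i.trans hV)
    obtain ⟨t, ht⟩ := H.gen (pre j W) (fun _ hx => i hx) _ (sh_mem_idealMap h𝔘 h𝔛 j J hs)
    obtain ⟨t, rfl⟩ := hb.2 t
    have e1 : rs (𝔘.Osh h𝔘) (show pre j W ≤ pre j V from fun _ hx => i hx) (sh h𝔘 j h𝔛 V g) =
        sh h𝔘 j h𝔛 W (rs _ i g) := (sh_res h𝔘 j h𝔛 i g).symm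
    rw [e1, ← map_mul] at ht
    exact ⟨t, hb.1 ht⟩
  · intro H
    refine ⟨(sh_mem_idealMap_iff h𝔘 h𝔛 hj hV J g).2 H.mem, fun W' i s hs => ?_⟩
    obtain ⟨W, hW, rfl⟩ := exists_pre_eq hj W'
    have hWV : W ≤ V := le_of_pre_le hj hW i
    have hb := sh_bijective h𝔘 h𝔛 hj hW
    obtain ⟨s, rfl⟩ := hb.2 s
    obtain ⟨t, ht⟩ := H.gen W hWV s ((sh_mem_idealMap_iff h𝔘 h𝔛 hj hW J s).1 hs)
    have e1 : rs (𝔘.Osh h𝔘) i (sh h𝔘 j h𝔛 V g) = sh h𝔘 j h𝔛 W (rs _ hWV g) := (sh_res h𝔘 j h𝔛 hWV g).symm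
    exact ⟨sh h𝔘 j h𝔛 W t, by rw [e1, ← map_mul, ht]⟩

include hj in
theorem gen_sh_iff {V : (𝔛.X 0).Opens} (hV : V ≤ rg j hj) (J : IdealSh (𝔛.Osh h𝔛)) (g : Sec 𝔛 h𝔛 V) :
    Gen (idealMap j h𝔘 h𝔛 J) (pre j V) (sh h𝔘 j h𝔛 V g) ↔ Gen J V g :=
  ⟨fun H => ⟨(princ_sh_iff h𝔘 h𝔛 hj hV J g).1 H.toPrinc, (nzd_sh_iff h𝔘 h𝔛 hj hV g).1 H.nzd⟩,
    fun H => ⟨(princ_sh_iff h𝔘 h𝔛 hj hV J g).2 H.toPrinc, (nzd_sh_iff h𝔘 h𝔛 hj hV g).2 H.nzd⟩⟩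

include hj in
theorem isInvertible_idealMap {J : IdealSh (𝔛.Osh h𝔛)} (hJ : J.IsInvertible) :
    (idealMap j h𝔘 h𝔛 J).IsInvertible := by
  rw [isInvertible_iff] at *
  intro y
  obtain ⟨U, hyU, g, hg⟩ := hJ (((j : Hom 𝔘 𝔛).app 0) y)
  refine ⟨pre j (U ⊓ rg j hj), ⟨hyU, ⟨y, rfl⟩⟩, _,
    (gen_sh_iff h𝔘 h𝔛 hj inf_le_right J _).2 (hg.res inf_le_left)⟩

end Open

/-- Invertibility can be checked on an open cover by formal systems. -/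
theorem isInvertible_of_cover (h𝔛 : 𝔛.IsFormal) {J : IdealSh (𝔛.Osh h𝔛)}
    (H : ∀ x : 𝔛.X 0, ∃ (𝔘 : FSch.Sys.{u}) (h𝔘 : 𝔘.IsFormal) (j : 𝔘 ⟶ 𝔛) (hj : OpenImm j), x ∈ rg j hj ∧
      (idealMap j h𝔘 h𝔛 J).IsInvertible) : J.IsInvertible := by
  rw [isInvertible_iff]
  intro x
  obtain ⟨𝔘, h𝔘, j, hj, ⟨y, rfl⟩, hJ⟩ := H x
  rw [isInvertible_iff] at hJ
  obtain ⟨W, hyW, g, hg⟩ := hJ y
  obtain ⟨V, hV, rfl⟩ := exists_pre_eq hj W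
  obtain ⟨g, rfl⟩ := (sh_bijective h𝔘 h𝔛 hj hV).2 g
  exact ⟨V, hyW, g, (gen_sh_iff h𝔘 h𝔛 hj hV J g).1 hg⟩

/-- Inclusions of ideal sheaves can be checked on an open cover by formal systems. -/
theorem le_of_cover (h𝔛 : 𝔛.IsFormal) {J K : IdealSh (𝔛.Osh h𝔛)}
    (H : ∀ x : 𝔛.X 0, ∃ (𝔘 : FSch.Sys.{u}) (h𝔘 : 𝔘.IsFormal) (j : 𝔘 ⟶ 𝔛) (hj : OpenImm j), x ∈ rg j hj ∧
      idealMap j h𝔘 h𝔛 J ≤ idealMap j h𝔘 h𝔛 K) : J ≤ K := by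
  refine le_of_local fun x => ?_
  obtain ⟨𝔘, h𝔘, j, hj, hx, hJK⟩ := H x
  refine ⟨rg j hj, hx, fun V hV s hs => ?_⟩
  exact (sh_mem_idealMap_iff h𝔘 h𝔛 hj hV K s).1 (hJK _ (sh_mem_idealMap h𝔘 h𝔛 j J hs))

/-- Equality of ideal sheaves can be checked on an open cover by formal systems. -/
theorem eq_of_cover (h𝔛 : 𝔛.IsFormal) {J K : IdealSh (𝔛.Osh h𝔛)}
    (H : ∀ x : 𝔛.X 0, ∃ (𝔘 : FSch.Sys.{u}) (h𝔘 : 𝔘.IsFormal) (j : 𝔘 ⟶ 𝔛) (hj : OpenImm j), x ∈ rg j hj ∧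
      idealMap j h𝔘 h𝔛 J = idealMap j h𝔘 h𝔛 K) : J = K :=
  le_antisymm'
    (le_of_cover h𝔛 fun x => by
      obtain ⟨𝔘, h𝔘, j, hj, hx, e⟩ := H x
      exact ⟨𝔘, h𝔘, j, hj, hx, by rw [e]; exact le_rfl' _⟩)
    (le_of_cover h𝔛 fun x => by
      obtain ⟨𝔘, h𝔘, j, hj, hx, e⟩ := H x
      exact ⟨𝔘, h𝔘, j, hj, hx, by rw [e]; exact le_rfl' _⟩)

end K788.IdMap
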