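import Groth.Prelude.Def_FBlow

/-!
# Algebra of ideal sheaves `FBlow.IdealSh`

Galois connection `map_le_iff`, functoriality `map_map`, `map_mul`; local generators `Gen J U g`,
`Gen.mul` and `exists_gen_of_gen_mul` (if a product of ideal sheaves is invertible then both factors are).
-/

set_option autoImplicit false

universe u

open CategoryTheory CategoryTheory.Limits TopologicalSpace Opposite AlgebraicGeometry

namespace K788.IdSh

open FBlow FBlow.IdealSh

section Generic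

variable {T : TopCat.{u}} {O : Sheaf (Opens.grothendieckTopology T) CommRingCat.{u}}

/-- Restriction of sections. -/
noncomputable def rs (O : Sheaf (Opens.grothendieckTopology T) CommRingCat.{u}) {U V : Opens T} (i : V ≤ U) :
    O.obj.obj (op U) →+* O.obj.obj (op V) := (O.obj.map (homOfLE i).op).hom

theorem rs_rs {U V W : Opens T} (i : V ≤ U) (j : W ≤ V) (s : O.obj.obj (op U)) :
    rs O j (rs O i s) = rs O (j.trans i) s := IdealSh.map_comp_apply i j s

theorem rs_self {U : Opens T} (i : U ≤ U) (s : O.obj.obj (op U)) : rs O i s = s := IdealSh.map_id_apply i s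

theorem rs_mem (J : IdealSh O) {U V : Opens T} (i : V ≤ U) {s : O.obj.obj (op U)} (hs : s ∈ J.sect U) :
    rs O i s ∈ J.sect V := J.map_mem i hs

theorem eq_of_local {U : Opens T} {s t : O.obj.obj (op U)}
    (H : ∀ x ∈ U, ∃ (V : Opens T) (i : V ≤ U), x ∈ V ∧ rs O i s = rs O i t) : s = t := by
  choose V i hx e using H
  refine TopCat.Sheaf.eq_of_locally_eq' O (fun x : U => V x.1 x.2) U (fun x => homOfLE (i x.1 x.2))
    (fun x hx' => Opens.mem_iSup.mpr ⟨⟨x, hx'⟩, hx x hx'⟩) s t fun x => ?_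
  exact e x.1 x.2

theorem le_rfl' (J : IdealSh O) : J ≤ J := fun _ => le_rfl

theorem le_trans' {J K L : IdealSh O} (h₁ : J ≤ K) (h₂ : K ≤ L) : J ≤ L := fun U => (h₁ U).trans (h₂ U)

theorem le_antisymm' {J K : IdealSh O} (h₁ : J ≤ K) (h₂ : K ≤ J) : J = K :=
  IdealSh.ext (funext fun U => le_antisymm (h₁ U) (h₂ U))

theorem le_of_local {J K : IdealSh O} (H : ∀ x : T, ∃ U : Opens T, x ∈ U ∧ ∀ V ≤ U, J.sect V ≤ K.sect V) : J ≤ K := by
  intro W s hs
  refine K.mem_of_local fun x hx => ?_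
  obtain ⟨U, hxU, hU⟩ := H x
  exact ⟨W ⊓ U, inf_le_left, ⟨hx, hxU⟩, hU _ inf_le_right (J.map_mem inf_le_left hs)⟩

theorem eq_of_local_sect {J K : IdealSh O} (H : ∀ x : T, ∃ U : Opens T, x ∈ U ∧ ∀ V ≤ U, J.sect V = K.sect V) : J = K :=
  le_antisymm' (le_of_local fun x => by obtain ⟨U, hx, hU⟩ := H x; exact ⟨U, hx, fun V hV => (hU V hV).le⟩)
    (le_of_local fun x => by obtain ⟨U, hx, hU⟩ := H x; exact ⟨U, hx, fun V hV => (hU V hV).ge⟩)

theorem mul_mem_mul {J K : IdealSh O} {U : Opens T} {a b : O.obj.obj (op U)} (ha : a ∈ J.sect U) (hb : b ∈ K.sect U) :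
    a * b ∈ (mul J K).sect U := subset_gen _ _ ⟨a, ha, b, hb, rfl⟩

theorem mul_le_iff {J K L : IdealSh O} :
    mul J K ≤ L ↔ ∀ (U : Opens T), ∀ a ∈ J.sect U, ∀ b ∈ K.sect U, a * b ∈ L.sect U := by
  refine ⟨fun h U a ha b hb => h U (mul_mem_mul ha hb), fun h => gen_le ?_⟩
  rintro W _ ⟨a, ha, b, hb, rfl⟩
  exact h W a ha b hb

/-- A local expression of sections of a product. -/
theorem exists_of_mem_mul {J K : IdealSh O} {U : Opens T} {s : O.obj.obj (op U)} (hs : s ∈ (mul J K).sect U)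
    {x : T} (hx : x ∈ U) :
    ∃ (V : Opens T) (i : V ≤ U) (_ : x ∈ V), rs O i s ∈ (J.sect V * K.sect V : Ideal _) := by
  obtain ⟨V, i, hxV, hV⟩ := hs x hx
  refine ⟨V, i, hxV, ?_⟩
  refine Ideal.span_le.mpr ?_ hV
  rintro _ ⟨W, j, _, ⟨a, ha, b, hb, rfl⟩, rfl⟩

  rw [map_mul]
  exact Ideal.mul_mem_mul (J.map_mem j ha) (K.map_mem j hb)

theorem mul_comm' (J K : IdealSh O) : mul J K = mul K J :=
  le_antisymm' (mul_le_iff.2 fun U a ha b hb => by rw [mul_comm]; exact mul_mem_mul hb ha)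
    (mul_le_iff.2 fun U a ha b hb => by rw [mul_comm]; exact mul_mem_mul hb ha)

theorem mul_mono {J J' K K' : IdealSh O} (h₁ : J ≤ J') (h₂ : K ≤ K') : mul J K ≤ mul J' K' :=
  mul_le_iff.2 fun U _ ha _ hb => mul_mem_mul (h₁ U ha) (h₂ U hb)

theorem mul_le_left (J K : IdealSh O) : mul J K ≤ J := mul_le_iff.2 fun _ _ ha b _ => Ideal.mul_mem_right b _ ha

theorem mul_le_right (J K : IdealSh O) : mul J K ≤ K := mul_le_iff.2 fun _ a _ _ hb => Ideal.mul_mem_left _ a hb

theorem mul_assoc' (J K L : IdealSh O) : mul (mul J K) L = mul J (mul K L) := by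
  refine le_antisymm' (mul_le_iff.2 fun U a ha b hb => ?_) (mul_le_iff.2 fun U a ha b hb => ?_)
  · refine IdealSh.mem_of_local _ fun x hx => ?_
    obtain ⟨V, i, hxV, hV⟩ := exists_of_mem_mul ha hx
    refine ⟨V, i, hxV, ?_⟩
    rw [map_mul]
    change rs O i a * rs O i b ∈ _
    refine Submodule.mul_induction_on hV (fun m hm n hn => ?_) (fun y z hy hz => ?_)
    · rw [mul_assoc]
      exact mul_mem_mul hm (mul_mem_mul hn (L.map_mem i hb))
    · rw [add_mul]; exact Ideal.add_mem _ hy hz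
  · refine IdealSh.mem_of_local _ fun x hx => ?_
    obtain ⟨V, i, hxV, hV⟩ := exists_of_mem_mul hb hx
    refine ⟨V, i, hxV, ?_⟩
    rw [map_mul]
    change rs O i a * rs O i b ∈ _
    refine Submodule.mul_induction_on hV (fun m hm n hn => ?_) (fun y z hy hz => ?_)
    · rw [← mul_assoc]
      exact mul_mem_mul (mul_mem_mul (J.map_mem i ha) hm) hn
    · rw [mul_add]; exact Ideal.add_mem _ hy hz

end Generic

section Map

variable {T T' : TopCat.{u}} {O : Sheaf (Opens.grothendieckTopology T) CommRingCat.{u}}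
  {O' : Sheaf (Opens.grothendieckTopology T') CommRingCat.{u}} (g : T' ⟶ T)
  (φ : O ⟶ (TopCat.Sheaf.pushforward CommRingCat.{u} g).obj O')

/-- The map on sections of `φ`. -/
noncomputable def ap (U : Opens T) : O.obj.obj (op U) →+* O'.obj.obj (op ((Opens.map g).obj U)) :=
  (φ.hom.app (op U)).hom

theorem ap_rs {U V : Opens T} (i : V ≤ U) (s : O.obj.obj (op U)) :
    ap g φ V (rs O i s) = rs O' (show (Opens.map g).obj V ≤ (Opens.map g).obj U from fun _ hx => i hx) (ap g φ U s) := by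
  have := φ.hom.naturality (homOfLE i).op
  exact congrArg (fun t => CommRingCat.Hom.hom t s) this

/-- The preimage of an ideal sheaf of `O'`. -/
noncomputable def comap (K : IdealSh O') : IdealSh O where
  sect U := (K.sect ((Opens.map g).obj U)).comap (ap g φ U)
  map_mem {U V} i s hs := by
    rw [Ideal.mem_comap] at hs ⊢
    change ap g φ V (rs O i s) ∈ _
    rw [ap_rs]
    exact K.map_mem _ hs
  mem_of_local {U s} hs := by
    rw [Ideal.mem_comap]
    refine K.mem_of_local fun x hx => ?_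
    obtain ⟨V, i, hxV, hV⟩ := hs (g x) hx
    refine ⟨(Opens.map g).obj V, fun _ hx => i hx, hxV, ?_⟩
    rw [Ideal.mem_comap] at hV
    change ap g φ V (rs O i s) ∈ _ at hV
    rw [ap_rs] at hV
    exact hV

theorem map_le_iff {J : IdealSh O} {K : IdealSh O'} : IdealSh.map g φ J ≤ K ↔ J ≤ comap g φ K := by
  constructor
  · intro h W a ha
    have := h _ (image_mem_map g φ J ha (V := (Opens.map g).obj W) le_rfl)
    change rs O' _ (ap g φ W a) ∈ _ at this
    rw [rs_self] at this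
    exact this
  · intro h
    refine IdealSh.map_le fun W a ha V j => K.map_mem j (h W ha)

theorem ap_mem_map (J : IdealSh O) {W : Opens T} {a : O.obj.obj (op W)} (ha : a ∈ J.sect W) :
    ap g φ W a ∈ (IdealSh.map g φ J).sect ((Opens.map g).obj W) :=
  (map_le_iff g φ).1 (le_rfl' _) W ha

theorem rs_ap_mem_map (J : IdealSh O) {W : Opens T} {a : O.obj.obj (op W)} (ha : a ∈ J.sect W) {V : Opens T'}
    (j : V ≤ (Opens.map g).obj W) : rs O' j (ap g φ W a) ∈ (IdealSh.map g φ J).sect V :=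
  rs_mem _ j (ap_mem_map g φ J ha)

theorem map_mono {J K : IdealSh O} (h : J ≤ K) : IdealSh.map g φ J ≤ IdealSh.map g φ K :=
  (map_le_iff g φ).2 (le_trans' h ((map_le_iff g φ).1 (le_rfl' _)))

/-- A local expression of sections of the inverse image ideal: near each point over `x ∈ W₀`, they are combinations of
images of sections over one neighbourhood contained in `W₀`. -/
theorem exists_of_mem_map {J : IdealSh O} {U : Opens T'} {s : O'.obj.obj (op U)} (hs : s ∈ (IdealSh.map g φ J).sect U)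
    {x : T'} (hx : x ∈ U) {W₀ : Opens T} (hW₀ : g x ∈ W₀) :
    ∃ (W : Opens T) (_ : W ≤ W₀) (V : Opens T') (i : V ≤ U) (j : V ≤ (Opens.map g).obj W) (_ : x ∈ V),
      rs O' i s ∈ (J.sect W).map ((rs O' j).comp (ap g φ W)) := by
  obtain ⟨V, i, hxV, hV⟩ := hs x hx
  have key : ∀ t ∈ Ideal.span (IdealSh.seed (fun V => {t | ∃ (W : Opens T) (j : V ≤ (Opens.map g).obj W)
      (a : O.obj.obj (op W)), a ∈ J.sect W ∧ t = O'.obj.map (homOfLE j).op (φ.hom.app (op W) a)}) V),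
      ∃ (W : Opens T) (_ : W ≤ W₀) (V' : Opens T') (i : V' ≤ V) (j : V' ≤ (Opens.map g).obj W) (_ : x ∈ V'),
      rs O' i t ∈ (J.sect W).map ((rs O' j).comp (ap g φ W)) := by
    intro t ht
    refine Submodule.span_induction ?_ ?_ ?_ ?_ ht
    · rintro _ ⟨V₁, j₁, _, ⟨W, j, a, ha, rfl⟩, rfl⟩
      refine ⟨W ⊓ W₀, inf_le_right, V ⊓ (Opens.map g).obj (W ⊓ W₀), inf_le_left, inf_le_right,
        ⟨hxV, ⟨j (j₁ hxV), hW₀⟩⟩, ?_⟩
      have : rs O' (inf_le_left : V ⊓ (Opens.map g).obj (W ⊓ W₀) ≤ V)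
          (O'.obj.map (homOfLE j₁).op (O'.obj.map (homOfLE j).op (φ.hom.app (op W) a))) =
          ((rs O' (inf_le_right : V ⊓ (Opens.map g).obj (W ⊓ W₀) ≤ _)).comp (ap g φ (W ⊓ W₀)))
            (rs O inf_le_left a) := by
        rw [RingHom.comp_apply, ap_rs, rs_rs]
        change rs O' _ (rs O' _ (rs O' _ (ap g φ W a))) = _
        rw [rs_rs, rs_rs]
      rw [this]
      exact Ideal.mem_map_of_mem _ (rs_mem J _ ha)
    · exact ⟨W₀, le_rfl, V ⊓ (Opens.map g).obj W₀, inf_le_left, inf_le_right, ⟨hxV, hW₀⟩, by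
        rw [map_zero]; exact Ideal.zero_mem _⟩
    · rintro y z _ _ ⟨W₁, k₁, V₁, i₁, j₁, hx₁, h₁⟩ ⟨W₂, k₂, V₂, i₂, j₂, hx₂, h₂⟩
      refine ⟨W₁ ⊓ W₂, inf_le_left.trans k₁, V₁ ⊓ V₂, inf_le_left.trans i₁, fun _ hz => ⟨j₁ hz.1, j₂ hz.2⟩,
        ⟨hx₁, hx₂⟩, ?_⟩
      have gen : ∀ (W' : Opens T) (V' : Opens T') (i' : V' ≤ V) (j' : V' ≤ (Opens.map g).obj W')
          (kW : W₁ ⊓ W₂ ≤ W') (kV : V₁ ⊓ V₂ ≤ V') (w : O'.obj.obj (op V)),
          rs O' i' w ∈ (J.sect W').map ((rs O' j').comp (ap g φ W')) →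
          rs O' (kV.trans i') w ∈ (J.sect (W₁ ⊓ W₂)).map ((rs O'
            (show V₁ ⊓ V₂ ≤ (Opens.map g).obj (W₁ ⊓ W₂) from fun _ hz => ⟨j₁ hz.1, j₂ hz.2⟩)).comp
              (ap g φ (W₁ ⊓ W₂))) := by
        intro W' V' i' j' kW kV w hw
        rw [← rs_rs i' kV]
        have h3 := Ideal.mem_map_of_mem (rs O' kV) hw
        rw [Ideal.map_map] at h3
        refine (Ideal.map_le_iff_le_comap.2 ?_) h3
        intro a ha
        rw [Ideal.mem_comap]
        have : ((rs O' kV).comp ((rs O' j').comp (ap g φ W'))) a = ((rs O'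
            (show V₁ ⊓ V₂ ≤ (Opens.map g).obj (W₁ ⊓ W₂) from fun _ hz => ⟨j₁ hz.1, j₂ hz.2⟩)).comp
              (ap g φ (W₁ ⊓ W₂))) (rs O kW a) := by
          simp only [RingHom.comp_apply, ap_rs, rs_rs]
        rw [this]
        exact Ideal.mem_map_of_mem _ (rs_mem J kW ha)
      rw [map_add]
      exact Ideal.add_mem _ (gen W₁ V₁ i₁ j₁ inf_le_left inf_le_left y h₁)
        (gen W₂ V₂ i₂ j₂ inf_le_right inf_le_right z h₂)
    · rintro c y _ ⟨W₁, k₁, V₁, i₁, j₁, hx₁, h₁⟩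
      refine ⟨W₁, k₁, V₁, i₁, j₁, hx₁, ?_⟩
      rw [smul_eq_mul, map_mul]
      exact Ideal.mul_mem_left _ _ h₁
  obtain ⟨W, hW, V', i', j', hx', h'⟩ := key _ hV
  refine ⟨W, hW, V', i'.trans i, j', hx', ?_⟩
  rw [← rs_rs i i']
  exact h'

theorem map_mul' (J K : IdealSh O) :
    IdealSh.map g φ (mul J K) = mul (IdealSh.map g φ J) (IdealSh.map g φ K) := by
  refine le_antisymm' ((map_le_iff g φ).2 (mul_le_iff.2 fun U a ha b hb => ?_)) (mul_le_iff.2 fun U a ha b hb => ?_)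
  · change ap g φ U (a * b) ∈ (mul (IdealSh.map g φ J) (IdealSh.map g φ K)).sect ((Opens.map g).obj U)
    rw [map_mul]
    exact mul_mem_mul (ap_mem_map g φ J ha) (ap_mem_map g φ K hb)
  · refine IdealSh.mem_of_local _ fun x hx => ?_
    obtain ⟨W, -, V, i, j, hxV, hV⟩ := exists_of_mem_map g φ ha hx (W₀ := ⊤) trivial
    obtain ⟨W', k', V', i', j', hxV', hV'⟩ := exists_of_mem_map g φ (rs_mem _ i hb) hxV (W₀ := W) (j hxV)
    refine ⟨V', i'.trans i, hxV', ?_⟩
    rw [map_mul]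
    change rs O' _ a * rs O' _ b ∈ _
    rw [← rs_rs i i', ← rs_rs i i' b]
    have h3 : rs O' i' (rs O' i a) ∈ (J.sect W').map ((rs O' j').comp (ap g φ W')) := by
      have h4 := Ideal.mem_map_of_mem (rs O' i') hV
      rw [Ideal.map_map] at h4
      refine (Ideal.map_le_iff_le_comap.2 ?_) h4
      intro c hc
      rw [Ideal.mem_comap]
      have : ((rs O' i').comp ((rs O' j).comp (ap g φ W))) c =
          ((rs O' j').comp (ap g φ W')) (rs O k' c) := by
        simp only [RingHom.comp_apply, ap_rs, rs_rs]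
      rw [this]
      exact Ideal.mem_map_of_mem _ (rs_mem J k' hc)
    have h5 := Ideal.mul_mem_mul h3 hV'
    rw [← Ideal.map_mul] at h5
    refine (Ideal.map_le_iff_le_comap.2 ?_) h5
    rw [Ideal.mul_le]
    intro c hc d hd
    exact rs_ap_mem_map g φ _ (mul_mem_mul hc hd) j'

end Map

end K788.IdSh
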