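import Groth.Agent.FBlow.K788.Inv
import Groth.Prelude.Def_W4bk4boschfrg79
import Mathlib.RingTheory.Polynomial.ScaleRoots
import Mathlib.RingTheory.Localization.BaseChange
import Mathlib.RingTheory.Valuation.ValuationRing

/-!
# Finite modifications generated by fractions with a common denominator are blow-ups
-/

set_option autoImplicit false

universe u

open CategoryTheory CategoryTheory.Limits AlgebraicGeometry BlowUp Polynomial
open scoped TensorProduct

namespace K788.IntBlow

open K788.Inv Groth.Agent.Divis.BlowChart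

theorem isUnit_of_pow_mem {B : Type*} [CommRing B] {n : ℕ} {u : B} {v : Fin n → B}
    (hv : ∀ i, ∃ m, v i ^ m ∈ Ideal.span {u}) (h1 : Ideal.span (insert u (Set.range v)) = ⊤) : IsUnit u := by
  have h2 : Ideal.span (insert u (Set.range v)) ≤ (Ideal.span {u}).radical := by
    rw [Ideal.span_le]
    rintro x (rfl | ⟨i, rfl⟩)
    · exact Ideal.le_radical (Ideal.mem_span_singleton_self _)
    · exact hv i
  rw [h1, top_le_iff, Ideal.radical_eq_top] at h2
  exact Ideal.span_singleton_eq_top.1 h2

theorem pow_mem_of_relation {B : Type*} [CommRing B] {p : B[X]} (hp : p.Monic) {s u v : B} (hs : s ∈ nonZeroDivisors B)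
    (e : (p.scaleRoots (s * u)).eval (s * v) = 0) : ∃ m, v ^ m ∈ Ideal.span {u} := by
  have h1 : (p.scaleRoots u).eval v = 0 := by
    rw [mul_comm s u, scaleRoots_mul, scaleRoots_eval_mul] at e
    have := pow_mem hs (p.scaleRoots u).natDegree
    rw [mem_nonZeroDivisors_iff_right] at this
    exact this _ (by rw [mul_comm]; exact e)
  refine ⟨(p.map (Ideal.Quotient.mk (Ideal.span {u}))).natDegree, ?_⟩
  rw [← Ideal.Quotient.eq_zero_iff_mem, map_pow]
  have h2 := congrArg (Ideal.Quotient.mk (Ideal.span {u})) h1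
  rw [map_zero, ← Polynomial.eval₂_at_apply, ← Polynomial.eval_map] at h2
  by_cases ht : Nontrivial (B ⧸ Ideal.span {u})
  · have h3 : (p.scaleRoots u).map (Ideal.Quotient.mk (Ideal.span {u})) =
        (p.map (Ideal.Quotient.mk (Ideal.span {u}))).scaleRoots 0 := by
      rw [map_scaleRoots _ _ _ (by rw [hp.leadingCoeff, map_one]; exact one_ne_zero)]
      congr 1
      exact Ideal.Quotient.eq_zero_iff_mem.2 (Ideal.mem_span_singleton_self u)
    rw [h3, scaleRoots_zero, (hp.map _).leadingCoeff, one_smul, eval_pow, eval_X] at h2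
    exact h2
  · rw [not_nontrivial_iff_subsingleton] at ht
    exact Subsingleton.elim _ _

/-- The ideal generated by `c` and `g` becomes principal only if it is generated by `c`, when `g i / c` is integral. -/
theorem map_eq_span_of_relation {A B : Type*} [CommRing A] [CommRing B] {n : ℕ} {c : A} {g : Fin n → A}
    (hrel : ∀ i, ∃ p : A[X], p.Monic ∧ (p.scaleRoots c).eval (g i) = 0) (ψ : A →+* B) {s : B}
    (hs : s ∈ nonZeroDivisors B) (e : (Ideal.span (insert c (Set.range g))).map ψ = Ideal.span {s}) :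
    (Ideal.span (insert c (Set.range g))).map ψ = Ideal.span {ψ c} := by
  have hc : ψ c ∈ Ideal.span {s} := by
    rw [← e]
    exact Ideal.mem_map_of_mem _ (Ideal.subset_span (Set.mem_insert _ _))
  obtain ⟨u, hu⟩ := Ideal.mem_span_singleton.1 hc
  have hg : ∀ i, ∃ v, ψ (g i) = s * v := fun i => by
    have : ψ (g i) ∈ Ideal.span {s} := by
      rw [← e]
      exact Ideal.mem_map_of_mem _ (Ideal.subset_span (Set.mem_insert_of_mem _ ⟨i, rfl⟩))
    exact Ideal.mem_span_singleton.1 this
  choose v hv using hg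
  have h1 : Ideal.span (insert u (Set.range v)) = ⊤ := by
    have h2 : s ∈ (Ideal.span (insert c (Set.range g))).map ψ := by
      rw [e]
      exact Ideal.mem_span_singleton_self s
    have h3 : (Ideal.span (insert c (Set.range g))).map ψ ≤ Ideal.span {s} * Ideal.span (insert u (Set.range v)) := by
      rw [Ideal.map_span, Ideal.span_le]
      rintro _ ⟨x, rfl | ⟨i, rfl⟩, rfl⟩
      · change ψ x ∈ _
        rw [hu]
        exact Ideal.mul_mem_mul (Ideal.mem_span_singleton_self s) (Ideal.subset_span (Set.mem_insert _ _))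
      · change ψ (g i) ∈ _
        rw [hv]
        exact Ideal.mul_mem_mul (Ideal.mem_span_singleton_self s)
          (Ideal.subset_span (Set.mem_insert_of_mem _ ⟨i, rfl⟩))
    obtain ⟨w, hw, hw2⟩ := Ideal.mem_span_singleton_mul.1 (h3 h2)
    rw [Ideal.eq_top_iff_one]
    have : w = 1 := by
      rw [mem_nonZeroDivisors_iff_right] at hs
      rw [← sub_eq_zero]
      apply hs
      rw [sub_mul, one_mul, mul_comm, hw2, sub_self]
    rw [← this]
    exact hw
  have hu' : IsUnit u := by
    refine isUnit_of_pow_mem (v := v) (fun i => ?_) h1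
    obtain ⟨p, hp, hpe⟩ := hrel i
    refine pow_mem_of_relation (p := p.map ψ) (hp.map ψ) hs ?_
    by_cases ht : Nontrivial B
    · rw [← hu, ← hv, ← map_scaleRoots _ _ _ (by rw [hp.leadingCoeff, map_one]; exact one_ne_zero), eval_map,
        eval₂_at_apply, hpe, map_zero]
    · rw [not_nontrivial_iff_subsingleton] at ht
      exact Subsingleton.elim _ _
  rw [e, hu]
  exact (Ideal.span_singleton_mul_right_unit hu' s).symm

/-- If the ideal `𝔞` becomes principal only if it is generated by `c`, its blow-up is the chart of `c`. -/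
theorem isBlowUp_chartMap {A : Type u} [CommRing A] {𝔞 : Ideal A} {c : A} (hc : c ∈ 𝔞)
    (H : ∀ (B : Type u) [CommRing B] (ψ : A →+* B) (s : B), s ∈ nonZeroDivisors B → 𝔞.map ψ = Ideal.span {s} →
      𝔞.map ψ = Ideal.span {ψ c}) : IsBlowUp (chartMap 𝔞 c) (idl 𝔞) := by
  refine ⟨isEffCartier_chartMap 𝔞 c hc, fun Y g hE => ?_⟩
  have h1 : ∀ y : Y, ∃ V : Y.affineOpens, y ∈ V.1 ∧ resT Y V.1 (glob g c) ∈ nonZeroDivisors Γ(Y, V.1) ∧
      ((idl 𝔞).comap g).ideal V ≤ Ideal.span {resT Y V.1 (glob g c)} := by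
    intro y
    obtain ⟨V, hyV, s, hs, e⟩ := hE y
    rw [comap_idl_ideal] at e
    have h2 := H _ _ s hs e
    refine ⟨V, hyV, ?_, by rw [comap_idl_ideal, h2]; rfl⟩
    have h3 : s ∈ Ideal.span {((resT Y V.1).comp (glob g)) c} := by
      rw [← h2, e]
      exact Ideal.mem_span_singleton_self s
    obtain ⟨w, hw⟩ := Ideal.mem_span_singleton.1 h3
    rw [hw] at hs
    exact (mul_mem_nonZeroDivisors.1 hs).1
  have hreg : RegSec Y (glob g c) := regSec_of_affine fun y => by
    obtain ⟨V, h, h', -⟩ := h1 y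
    exact ⟨V, h, h'⟩
  obtain ⟨k, hk⟩ := exists_lift 𝔞 c g hreg fun y => by
    obtain ⟨V, h, -, h'⟩ := h1 y
    exact ⟨V, h, h'⟩
  exact ⟨k, hk, fun l hl => lift_unique 𝔞 c hreg hl hk⟩

section Iso

variable {A T : Type u} [CommRing A] [CommRing T] [Algebra A T]

/-- The localization at `c` inside an extension in which `c` is invertible. -/
noncomputable def locMap {c : A} (hu : IsUnit (algebraMap A T c)) : Localization.Away c →ₐ[A] T :=
  IsLocalization.liftAlgHom (M := Submonoid.powers c) (f := Algebra.ofId A T) (by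
    rintro ⟨_, n, rfl⟩
    rw [Algebra.ofId_apply]
    change IsUnit (algebraMap A T (c ^ n))
    rw [map_pow]
    exact hu.pow n)

theorem locMap_mk' {c : A} (hu : IsUnit (algebraMap A T c)) (x : A) :
    algebraMap A T c * locMap hu (IsLocalization.mk' (Localization.Away c) x ⟨c, Submonoid.mem_powers c⟩) =
      algebraMap A T x := by
  have h1 := IsLocalization.mk'_spec (Localization.Away c) x (⟨c, Submonoid.mem_powers c⟩ : Submonoid.powers c)
  have h2 := congrArg (locMap hu) h1
  rw [map_mul, AlgHom.commutes, AlgHom.commutes] at h2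
  rw [mul_comm]
  exact h2

theorem locMap_injective {c : A} (hu : IsUnit (algebraMap A T c)) (hinj : Function.Injective (algebraMap A T)) :
    Function.Injective (locMap hu) := by
  rw [injective_iff_map_eq_zero]
  intro x hx
  obtain ⟨⟨a, s⟩, e⟩ := IsLocalization.surj (Submonoid.powers c) x
  have h1 := congrArg (locMap hu) e
  rw [map_mul, hx, zero_mul, AlgHom.commutes] at h1
  have h2 : a = 0 := hinj (by rw [map_zero]; exact h1.symm)
  have h3 : IsUnit (algebraMap A (Localization.Away c) s) := IsLocalization.map_units _ s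
  have h4 : x * algebraMap A (Localization.Away c) s = 0 := e.trans (by
    change algebraMap A (Localization.Away c) a = 0
    rw [h2, map_zero])
  exact (h3.mul_left_eq_zero).1 h4

theorem map_affineAlgebra {n : ℕ} {c : A} {g : Fin n → A} {f : Fin n → T} (hu : IsUnit (algebraMap A T c))
    (hg : ∀ i, algebraMap A T (g i) = algebraMap A T c * f i) :
    (affineAlgebra A (Ideal.span (insert c (Set.range g))) c).map (locMap hu) = Algebra.adjoin A (Set.range f) := by
  rw [affineAlgebra, AlgHom.map_adjoin]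
  apply le_antisymm
  · refine Algebra.adjoin_le ?_
    rintro _ ⟨_, ⟨x, hx, rfl⟩, rfl⟩
    have key : ∀ x ∈ Ideal.span (insert c (Set.range g)), ∃ y ∈ Algebra.adjoin A (Set.range f),
        algebraMap A T c * y = algebraMap A T x := by
      intro x hx
      refine Submodule.span_induction (p := fun x _ => ∃ y ∈ Algebra.adjoin A (Set.range f),
        algebraMap A T c * y = algebraMap A T x) ?_ ?_ ?_ ?_ hx
      · rintro x (rfl | ⟨i, rfl⟩)
        · exact ⟨1, one_mem _, mul_one _⟩
        · exact ⟨f i, Algebra.subset_adjoin ⟨i, rfl⟩, (hg i).symm⟩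
      · exact ⟨0, zero_mem _, by rw [mul_zero, map_zero]⟩
      · rintro x x' _ _ ⟨y, hy, e⟩ ⟨y', hy', e'⟩
        exact ⟨y + y', add_mem hy hy', by rw [mul_add, e, e', map_add]⟩
      · rintro a x _ ⟨y, hy, e⟩
        exact ⟨a • y, Subalgebra.smul_mem _ hy a, by rw [smul_eq_mul, map_mul, Algebra.mul_smul_comm, e, Algebra.smul_def]⟩
    obtain ⟨y, hy, e⟩ := key x hx
    have e2 := locMap_mk' hu x
    have : y = locMap hu (IsLocalization.mk' (Localization.Away c) x ⟨c, Submonoid.mem_powers c⟩) :=
      hu.mul_left_cancel (e.trans e2.symm)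
    rw [this] at hy
    exact hy
  · refine Algebra.adjoin_mono ?_
    rintro _ ⟨i, rfl⟩
    refine ⟨_, ⟨g i, Ideal.subset_span (Set.mem_insert_of_mem _ ⟨i, rfl⟩), rfl⟩, ?_⟩
    exact hu.mul_left_cancel ((locMap_mk' hu (g i)).trans (hg i))

omit [CommRing T] [Algebra A T] in
theorem isBlowUp_of_algEquiv {B B' : Type u} [CommRing B] [CommRing B'] [Algebra A B] [Algebra A B'] (e : B ≃ₐ[A] B')
    {𝓘 : (Spec (CommRingCat.of A)).IdealSheafData} (h : IsBlowUp (Spec.map (CommRingCat.ofHom (algebraMap A B))) 𝓘) :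
    IsBlowUp (Spec.map (CommRingCat.ofHom (algebraMap A B'))) 𝓘 := by
  refine Groth.Agent.Divis.BlowUpFormal.isBlowUp_of_iso h (Scheme.Spec.mapIso e.toRingEquiv.toCommRingCatIso.op) ?_
  change Spec.map (CommRingCat.ofHom (e : B →+* B')) ≫ Spec.map (CommRingCat.ofHom (algebraMap A B)) = _
  rw [← Spec.map_comp, ← CommRingCat.ofHom_comp]
  congr 2
  ext x
  exact e.commutes x

theorem isBlowUp_adjoin {n : ℕ} {c : A} {g : Fin n → A} {f : Fin n → T} (hu : IsUnit (algebraMap A T c))
    (hinj : Function.Injective (algebraMap A T)) (hg : ∀ i, algebraMap A T (g i) = algebraMap A T c * f i)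
    (hf : ∀ i, IsIntegral A (f i)) :
    IsBlowUp (Spec.map (CommRingCat.ofHom (algebraMap A ↥(Algebra.adjoin A (Set.range f)))))
      (FSch.idealSpec A (Ideal.span (insert c (Set.range g)))) := by
  have hrel : ∀ i, ∃ p : A[X], p.Monic ∧ (p.scaleRoots c).eval (g i) = 0 := by
    intro i
    obtain ⟨p, hp, e⟩ := hf i
    refine ⟨p, hp, ?_⟩
    have h1 := scaleRoots_eval₂_eq_zero (algebraMap A T) (s := c) e
    rw [← hg, eval₂_at_apply] at h1
    exact hinj (by rw [h1, map_zero])
  have h1 : IsBlowUp (chartMap (Ideal.span (insert c (Set.range g))) c) (idl (Ideal.span (insert c (Set.range g)))) :=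
    isBlowUp_chartMap (Ideal.subset_span (Set.mem_insert _ _)) fun B _ ψ s hs e => map_eq_span_of_relation hrel ψ hs e
  rw [idealSpec_eq_idl]
  exact isBlowUp_of_algEquiv ((Subalgebra.equivMapOfInjective _ _ (locMap_injective hu hinj)).trans
    (Subalgebra.equivOfEq _ _ (map_affineAlgebra hu hg))) h1

end Iso

section Val

variable {R : Type u} [CommRing R] [IsDomain R] [ValuationRing R] {t : R} [IsAdicComplete (Ideal.span {t}) R]
  {A : Type u} [CommRing A] [Algebra R A]

theorem exists_dvd_pow {c : R} (hc : c ≠ 0) : ∃ k, c ∣ t ^ k := by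
  by_contra H
  push Not at H
  apply hc
  refine IsHausdorff.haus (I := Ideal.span {t}) inferInstance c fun k => ?_
  rw [SModEq.zero, smul_eq_mul, Ideal.mul_top, Ideal.span_singleton_pow, Ideal.mem_span_singleton]
  rcases ValuationRing.dvd_total (t ^ k) c with h | h
  · exact h
  · exact absurd h (H k)

theorem eq_zero_of_smul (hA : AdicRing.NoPowTorsion (Ideal.span {t}) A) {c : R} (hc : c ≠ 0) {x : A} (h : c • x = 0) :
    x = 0 := by
  obtain ⟨k, b, hb⟩ := exists_dvd_pow (t := t) hc
  refine hA x k fun a ha => ?_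
  rw [Ideal.span_singleton_pow] at ha
  obtain ⟨d, rfl⟩ := Ideal.mem_span_singleton.1 ha
  rw [hb, mul_assoc, mul_comm c, mul_smul, h, smul_zero]

theorem le_nonZeroDivisors (hA : AdicRing.NoPowTorsion (Ideal.span {t}) A) :
    Algebra.algebraMapSubmonoid A (nonZeroDivisors R) ≤ nonZeroDivisors A := by
  rintro _ ⟨c, hc, rfl⟩
  rw [mem_nonZeroDivisors_iff_right]
  intro x hx
  refine eq_zero_of_smul (t := t) hA (nonZeroDivisors.ne_zero hc) ?_
  rw [Algebra.smul_def, mul_comm]
  exact hx

end Val

end K788.IntBlow
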