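import Groth.Agent.FBlow.K788.UP
import Groth.Agent.FBlow.K788.ARed
import Groth.Agent.Ega4dB.BlowFT
import Groth.Agent.Divis.BlowTwist
import Groth.Agent.Divis.BlowUpFormal

/-!
# Invertibility of the blown-up ideal on the base change of a blow-up to a completion
-/

set_option autoImplicit false

universe u

open CategoryTheory CategoryTheory.Limits TopologicalSpace Opposite AlgebraicGeometry

namespace K788.Inv

open FSch FBlow K788.Osh K788.IdSh K788.GenL K788.SysB K788.IdMap K788.Restr K788.Aff K788.AffSch K788.UP K788.ARed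
open Groth.Agent.Divis.BlowChart Groth.Agent.Fcompl.H552.IdealSpec

variable {𝔛 𝔜 ℨ 𝔘 : FSch.Sys.{u}} {P : Scheme.{u}}

/-- The family `r` presents `𝔛` as the completion of `P` along the ideal sheaf `𝓘`. -/
structure IsCompl (r : ∀ n, 𝔛.X n ⟶ P) (𝓘 : P.IdealSheafData) : Prop where
  compat : ∀ n, 𝔛.ι n ≫ r (n + 1) = r n
  ci : ∀ n, IsClosedImmersion (r n)
  ker : ∀ n, (r n).ker = 𝓘 ^ (n + 1)

theorem pr_eq_of_le (h : 𝔛.IsFormal) {U : (𝔛.X 0).Opens} {s t : Sec 𝔛 h U} {m n : ℕ} (hnm : n ≤ m)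
    (e : pr 𝔛 h m U s = pr 𝔛 h m U t) : pr 𝔛 h n U s = pr 𝔛 h n U t := by
  induction m, hnm using Nat.le_induction with
  | base => exact e
  | succ m _ ih =>
    apply ih
    rw [← tr_pr (s := s), ← tr_pr (s := t), e]

variable (h : 𝔛.IsFormal) {r : ∀ n, 𝔛.X n ⟶ P} {𝓘 : P.IdealSheafData} (hc : IsCompl r 𝓘)

theorem appLE_surjective {X Y : Scheme.{u}} (f : X ⟶ Y) {U : Y.Opens} {V : X.Opens} (e : V ≤ f ⁻¹ᵁ U) (e' : V = f ⁻¹ᵁ U)
    (hs : Function.Surjective (f.app U)) : Function.Surjective (f.appLE U V e) := by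
  subst e'
  rw [← Scheme.Hom.app_eq_appLE]
  exact hs

theorem appLE_eq_zero_iff {X Y : Scheme.{u}} (f : X ⟶ Y) {U : Y.Opens} {V : X.Opens} (e : V ≤ f ⁻¹ᵁ U) (e' : V = f ⁻¹ᵁ U)
    (s : Γ(Y, U)) : f.appLE U V e s = 0 ↔ f.app U s = 0 := by
  subst e'
  rw [← Scheme.Hom.app_eq_appLE]

include hc in
theorem exists_lssh (n : ℕ) {W : P.Opens} (hW : IsAffineOpen W) (y : Γ(𝔛.X n, 𝔛.lvU h n (r 0 ⁻¹ᵁ W))) :
    ∃ s : Γ(P, W), lssh h r hc.compat n W s = y := by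
  have := hc.ci n
  exact appLE_surjective (r n) _ (lvU_p 𝔛 h r hc.compat n W).symm (Scheme.Hom.app_surjective (r n) W hW) y

include hc in
theorem lssh_eq_zero_iff (n : ℕ) (W : P.affineOpens) (s : Γ(P, W.1)) :
    lssh h r hc.compat n W.1 s = 0 ↔ s ∈ (𝓘.ideal W) ^ (n + 1) := by
  have := hc.ci n
  have h1 : (r n).ker.ideal W = (𝓘 ^ (n + 1)).ideal W := by rw [hc.ker]
  rw [Scheme.Hom.ker_apply, Scheme.IdealSheafData.ideal_pow] at h1
  refine (appLE_eq_zero_iff (r n) _ (lvU_p 𝔛 h r hc.compat n W.1).symm s).trans ?_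
  change s ∈ RingHom.ker ((r n).app W.1).hom ↔ _
  rw [h1]
  rfl

include hc in
/-- Elements with the Artin-Rees property are non-zero-divisors on the completion. -/
theorem eq_zero_of_mul (W : P.affineOpens) {a : Γ(P, W.1)} (hAR : AR (𝓘.ideal W) a) (s : Sec 𝔛 h (r 0 ⁻¹ᵁ W.1))
    (hs : ssh h r hc.compat W.1 a * s = 0) : s = 0 := by
  refine sec_ext h fun n => ?_
  rw [map_zero]
  obtain ⟨m, hnm, hm⟩ := hAR (n + 1)
  obtain ⟨y, hy⟩ := exists_lssh h hc m W.2 (pr 𝔛 h m _ s)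
  have h1 : lssh h r hc.compat m W.1 (a * y) = 0 := by
    rw [map_mul, hy, ← pr_ssh, ← map_mul, hs, map_zero]
  rw [lssh_eq_zero_iff h hc] at h1
  have h2 : y ∈ (𝓘.ideal W) ^ (n + 1) := hm y (Ideal.pow_le_pow_right (Nat.le_succ m) h1)
  have h3 : pr 𝔛 h n _ s = pr 𝔛 h n _ (ssh h r hc.compat W.1 y) := by
    refine pr_eq_of_le h (by omega : n ≤ m) ?_
    rw [pr_ssh, hy]
  rw [h3, pr_ssh]
  exact (lssh_eq_zero_iff h hc n W y).2 h2

theorem AR.res (W : P.affineOpens) {a : Γ(P, W.1)} (hAR : AR (𝓘.ideal W) a) (f : Γ(P, W.1)) :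
    AR (𝓘.ideal (P.affineBasicOpen f)) (P.presheaf.map (homOfLE (P.basicOpen_le f)).op a) := by
  have hloc : IsLocalization.Away f Γ(P, P.basicOpen f) := W.2.isLocalization_basicOpen f
  have h1 := hAR.localization f Γ(P, P.basicOpen f)
  have h2 : (𝓘.ideal W).map (algebraMap Γ(P, W.1) Γ(P, P.basicOpen f)) = 𝓘.ideal (P.affineBasicOpen f) :=
    𝓘.map_ideal (U := P.affineBasicOpen f) (V := W) (P.basicOpen_le f)
  rw [h2] at h1
  exact h1

include hc in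
theorem nzd_ssh (W : P.affineOpens) {a : Γ(P, W.1)} (hAR : AR (𝓘.ideal W) a) :
    Nzd (𝔛.Osh h) (r 0 ⁻¹ᵁ W.1) (ssh h r hc.compat W.1 a) := by
  intro V i s hs
  refine eq_of_local (O := 𝔛.Osh h) fun x hx => ?_
  have := hc.ci 0
  obtain ⟨T, hT, hTV⟩ := (r 0).isClosedEmbedding.isInducing.isOpen_iff.1 V.2
  obtain ⟨f, hf, hxf⟩ := W.2.exists_basicOpen_le (V := W.1 ⊓ ⟨T, hT⟩) ⟨r 0 x, ⟨i hx, by
    have : x ∈ (r 0).base ⁻¹' T := by
      rw [hTV]
      exact hx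
    exact this⟩⟩ (i hx)
  have hle : r 0 ⁻¹ᵁ (P.basicOpen f) ≤ V := by
    intro z hz
    have h1 : z ∈ (r 0).base ⁻¹' T := (hf hz).2
    rw [hTV] at h1
    exact h1
  refine ⟨r 0 ⁻¹ᵁ (P.basicOpen f), hle, hxf, ?_⟩
  rw [map_zero]
  refine eq_zero_of_mul h hc (P.affineBasicOpen f) (AR.res W hAR f) _ ?_
  have e1 := ssh_res h r hc.compat (P.basicOpen_le f) a
  have e2 : ssh h r hc.compat (P.basicOpen f) (P.presheaf.map (homOfLE (P.basicOpen_le f)).op a) =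
    rs (𝔛.Osh h) hle (rs (𝔛.Osh h) i (ssh h r hc.compat W.1 a)) := e1.trans (rs_rs _ _ _).symm
  change ssh h r hc.compat (P.basicOpen f) (P.presheaf.map (homOfLE (P.basicOpen_le f)).op a) * rs (𝔛.Osh h) hle s = 0
  rw [e2, ← map_mul, mul_comm, hs, map_zero]

section Gn

variable {T : TopCat.{u}} {O : Sheaf (Opens.grothendieckTopology T) CommRingCat.{u}}

/-- An ideal sheaf generated by global sections is generated on `U` by `g` if the ideal becomes `(g)` there. -/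
theorem gen_gn_of_span {𝔟 : Ideal (O.obj.obj (op ⊤))} {U : Opens T} {g : O.obj.obj (op U)} (hg : Nzd O U g)
    (e : 𝔟.map (rs O (le_top : U ≤ ⊤)) = Ideal.span {g}) : Gen (gn 𝔟) U g := by
  refine ⟨⟨map_le_gn 𝔟 U (by rw [e]; exact Ideal.mem_span_singleton_self g), fun V i s hs => ?_⟩, hg⟩
  refine exists_eq_mul_of_local hg i s fun x hx => ?_
  obtain ⟨W, j, hxW, hW⟩ := mem_gn.1 hs x hx
  have e2 : (rs O (j.trans i)).comp (rs O (le_top : U ≤ ⊤)) = rs O (le_top : W ≤ ⊤) := by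
    ext t
    exact rs_rs _ _ _
  rw [← e2, ← Ideal.map_map, e, Ideal.map_span, Set.image_singleton, Ideal.mem_span_singleton] at hW
  obtain ⟨t, ht⟩ := hW
  exact ⟨W, j, hxW, t, by rw [ht, mul_comm]⟩

end Gn

open Groth.Agent.Divis.BlowTwist

variable {A : Type u} [CommRing A] {q : P ⟶ Spec (CommRingCat.of A)}

theorem rs_sg (w : ∀ n, 𝔛.ι n ≫ r (n + 1) = r n) (w' : ∀ n, 𝔛.ι n ≫ r (n + 1) ≫ q = r n ≫ q) (W : P.Opens) (α : A) :
    rs (𝔛.Osh h) (le_top : r 0 ⁻¹ᵁ W ≤ ⊤) (sg h (fun n => r n ≫ q) w' α) = ssh h r w W (rho q W α) := by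
  refine sec_ext h fun n => ?_
  refine (pr_res h n _ _).trans (Eq.trans ?_ (pr_ssh h r w n W _).symm)
  rw [show pr 𝔛 h n ⊤ (sg h (fun n => r n ≫ q) w' α) = glob (r n ≫ q) α from prT_sg h _ w' n α, glob_comp]
  exact resT_appTop (r n) W (𝔛.lvU h n (r 0 ⁻¹ᵁ W)) (lvU_p 𝔛 h r w n W).ge (glob q α)

theorem idealSpec_eq_idl (I : Ideal A) : idealSpec A I = idl I := by
  ext1
  funext W
  rw [← pow_one (idealSpec A I), ideal_idealSpec_pow, pow_one]
  have := comap_idl_ideal I (𝟙 (Spec (CommRingCat.of A))) W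
  rw [Scheme.IdealSheafData.comap_id] at this
  rw [this]
  rfl

/-- Base rings for which the Artin-Rees property holds on all blow-up charts. -/
def Gd (A : Type*) [CommRing A] (I : Ideal A) : Prop :=
  IsNoetherianRing A ∨ ∃ t, t ∈ nonZeroDivisors A ∧ I = Ideal.span {t}

theorem isEff_idealSpec_span {t : A} (ht : t ∈ nonZeroDivisors A) :
    BlowUp.IsEffCartierIdeal (idealSpec A (Ideal.span {t})) := by
  have := isEff_comap_of_span (RingHom.id A) (𝔞 := Ideal.span {t}) ht (Ideal.map_id _)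
  have e : CommRingCat.ofHom (RingHom.id A) = 𝟙 _ := rfl
  rw [e, Spec.map_id, Scheme.IdealSheafData.comap_id] at this
  exact this

theorem ar_of_isEff {I 𝔞 : Ideal A} (hA : Gd A I) {k : ℕ} (hk : I ^ k ≤ 𝔞)
    (hq : BlowUp.IsBlowUp q (idealSpec A 𝔞)) (W : P.affineOpens) (a : Γ(P, W.1))
    (e : ((idealSpec A 𝔞).comap q).ideal W = Ideal.span {a}) : AR (((idealSpec A I).comap q).ideal W) a := by
  have ha : a ∈ nonZeroDivisors Γ(P, W.1) := mem_nonZeroDivisors_of_isEff hq.1 W a e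
  rcases hA with hN | ⟨t, ht, rfl⟩
  · have : IsLocallyNoetherian (Spec (CommRingCat.of A)) := inferInstance
    have := Groth.Agent.Ega4dB.BlowFT.isLocallyNoetherian_of_isBlowUp hq
    have : IsNoetherianRing Γ(P, W.1) := IsLocallyNoetherian.component_noetherian W
    exact AR.of_noeth _ ha
  · have h1 := Groth.Agent.Divis.BlowUpFormal.isEff_comap_of_isBlowUp hq (isEff_idealSpec_span ht)
    have h2 : ((idealSpec A (Ideal.span {t})).comap q).ideal W = Ideal.span {rho q W.1 t} := by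
      rw [idealSpec_eq_idl, comap_idl, Ideal.map_span, Set.image_singleton]
    have h3 := mem_nonZeroDivisors_of_isEff h1 W _ h2
    rw [h2]
    refine AR.of_span h3 (k := k) ?_
    rw [← e, idealSpec_eq_idl, comap_idl, ← map_pow]
    refine Ideal.mem_map_of_mem _ (hk ?_)
    exact Ideal.pow_mem_pow (Ideal.mem_span_singleton_self t) k

/-- Invertibility of the ideal generated by `𝔞` on the completion of the blow-up of `𝔞`. -/
theorem isInvertible_of_isBlowUp {I 𝔞 : Ideal A} (hA : Gd A I) {k : ℕ} (hk : I ^ k ≤ 𝔞)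
    (hq : BlowUp.IsBlowUp q (idealSpec A 𝔞)) (hc : IsCompl r ((idealSpec A I).comap q))
    (w' : ∀ n, 𝔛.ι n ≫ r (n + 1) ≫ q = r n ≫ q) :
    (schIdealMap 𝔛 h (fun n => r n ≫ q) w' (IdealSh.ofData (idealSpec A 𝔞))).IsInvertible := by
  rw [schIdealMap_eq_gn, isInvertible_iff]
  intro x
  obtain ⟨W, hxW, a, ha, e⟩ := hq.1 (r 0 x)
  refine ⟨r 0 ⁻¹ᵁ W.1, hxW, ssh h r hc.compat W.1 a, gen_gn_of_span (nzd_ssh h hc W (ar_of_isEff hA hk hq W a e)) ?_⟩
  have e1 : (rs (𝔛.Osh h) (le_top : r 0 ⁻¹ᵁ W.1 ≤ ⊤)).comp (sg h (fun n => r n ≫ q) w') =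
      (ssh h r hc.compat W.1).comp (rho q W.1) := by
    ext α
    exact rs_sg h hc.compat w' W.1 α
  rw [Ideal.map_map, e1, ← Ideal.map_map, ← comap_idl, ← idealSpec_eq_idl, e, Ideal.map_span, Set.image_singleton]

theorem ker_of_isPullback {X Y Z W : Scheme.{u}} {f : W ⟶ X} {g : W ⟶ Z} {a : X ⟶ Y} {i : Z ⟶ Y} [IsClosedImmersion i]
    (hp : IsPullback f g a i) : f.ker = i.ker.comap a := by
  rw [← Scheme.IdealSheafData.ker_fst_of_isClosedImmersion, ← hp.isoPullback_hom_fst, Scheme.Hom.ker_comp_of_isIso]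

/-- The base change of a blow-up of schemes to a completion is an admissible formal blow-up. -/
theorem isAdmBlowUp_of_isPullback {I 𝔞 : Ideal A} (hA : Gd A I) {k : ℕ} (hk : I ^ k ≤ 𝔞)
    (hq : BlowUp.IsBlowUp q (idealSpec A 𝔞)) (h𝔜 : 𝔜.IsFormal)
    (p : ∀ n, 𝔜.X n ⟶ Spec (CommRingCat.of A)) (hp : IsCompl p (idealSpec A I)) (b : 𝔛 ⟶ 𝔜)
    (hr : ∀ n, 𝔛.ι n ≫ r (n + 1) = r n)
    (hpb : ∀ n, IsPullback (r n) ((b : Hom 𝔛 𝔜).app n) q (p n)) :
    IsAdmBlowUp b h h𝔜 (schIdealMap 𝔜 h𝔜 p hp.compat (IdealSh.ofData (idealSpec A 𝔞))) := by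
  have hc : IsCompl r ((idealSpec A I).comap q) := by
    refine ⟨hr, fun n => ?_, fun n => ?_⟩
    · have := hp.ci n
      exact MorphismProperty.of_isPullback (P := @IsClosedImmersion) (hpb n).flip this
    · have := hp.ci n
      rw [ker_of_isPullback (hpb n), hp.ker, Groth.Agent.Divis.IdealComap.comap_pow]
  refine ⟨?_, ?_, fun ℨ hℨ g _ hg => existsUnique_lift hq h𝔜 p hp.compat r hr b hpb hℨ g hg⟩
  · intro n
    have h1 : IsPullback (𝔛.ι n ≫ r (n + 1)) ((b : Hom 𝔛 𝔜).app n) q (𝔜.ι n ≫ p (n + 1)) := by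
      rw [hr, hp.compat]
      exact hpb n
    exact IsPullback.of_right h1 ((b : Hom 𝔛 𝔜).comm n).symm (hpb (n + 1))
  · have w' : ∀ n, 𝔛.ι n ≫ r (n + 1) ≫ q = r n ≫ q := fun n => by rw [← Category.assoc, hr]
    rw [idealMap_schIdealMap h h𝔜 b p hp.compat (fun n => r n ≫ q) w' (fun n => (hpb n).w.symm)]
    exact isInvertible_of_isBlowUp h hA hk hq hc w'

end K788.Inv
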