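import Groth.Agent.FBlow.K788.CohC
import Groth.Agent.FBlow.K788.Exist
import Groth.Agent.Picfga.IdealGlue

/-!
# Coherent open ideals on a quasi-compact system come from a level
-/

set_option autoImplicit false
set_option linter.unusedVariables false

universe u

open CategoryTheory CategoryTheory.Limits TopologicalSpace Opposite AlgebraicGeometry

namespace K788.Lev

open FSch FBlow K788.Osh K788.IdSh K788.GenL K788.SysB K788.IdMap K788.Restr K788.Aff K788.AffSch K788.UP K788.Inv K788.SpfB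
open K788.AffStr K788.Crt K788.AffV K788.CohL K788.ARed K788.LocB K788.LocC K788.Glob K788.CohC
open Groth.Agent.Divis.BlowChart Groth.Agent.Fcompl.H552.IdealSpec Groth.Agent.Divis.BlowTwist Groth.Agent.Divis.IdealFT

variable {𝔛 𝔛' 𝔜 ℨ 𝔘 𝔚 : FSch.Sys.{u}} {R : Type u} [CommRing R] {I : Ideal R}
  {w : ∀ n, 𝔛.X n ⟶ Spec (CommRingCat.of R)}

theorem ofLevel_le_iff (h : 𝔛.IsFormal) (hI : I.FG) (hw : AdicOver 𝔛 I w) {n : ℕ} {𝒜 𝒜' : (𝔛.X n).IdealSheafData}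
    (e : ofLevel 𝔛 h n 𝒜 ≤ ofLevel 𝔛 h n 𝒜') (V : (𝔛.X 0).Opens) (hV : IsAffineOpen V) :
    𝒜.ideal ⟨𝔛.lvU h n V, isAffineOpen_lvU h hV n⟩ ≤ 𝒜'.ideal ⟨𝔛.lvU h n V, isAffineOpen_lvU h hV n⟩ := by
  intro t ht
  obtain ⟨h3, h4⟩ := pr_affineOpen h hI hw hV n
  obtain ⟨s, rfl⟩ := h3 t
  exact (memData_affine _ ⟨𝔛.lvU h n V, isAffineOpen_lvU h hV n⟩ _).1
    ((mem_ofLevel h n _).1 (e V ((mem_ofLevel h n _).2 ((memData_affine _ ⟨𝔛.lvU h n V, isAffineOpen_lvU h hV n⟩ _).2 ht))))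

theorem ofLevel_injective (h : 𝔛.IsFormal) (hI : I.FG) (hw : AdicOver 𝔛 I w) {n : ℕ} {𝒜 𝒜' : (𝔛.X n).IdealSheafData}
    (e : ofLevel 𝔛 h n 𝒜 = ofLevel 𝔛 h n 𝒜') : 𝒜 = 𝒜' := by
  refine Groth.Agent.Divis.IdealComap.ext_of_forall_mem fun x => ?_
  obtain ⟨V, hV, hxV, -⟩ := exists_affine_nhd (𝔛.gInv h n x) ⊤ trivial
  exact ⟨⟨𝔛.lvU h n V, isAffineOpen_lvU h hV n⟩, hxV, le_antisymm (ofLevel_le_iff h hI hw (e ▸ le_rfl' _) V hV)
    (ofLevel_le_iff h hI hw (e ▸ le_rfl' _) V hV)⟩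

theorem idealMap_ofLevel (h𝔚 : 𝔚.IsFormal) (h : 𝔛.IsFormal) {j : 𝔚 ⟶ 𝔛} (hj : OpenImm j) {n : ℕ}
    (𝒜 : (𝔛.X n).IdealSheafData) :
    idealMap j h𝔚 h (ofLevel 𝔛 h n 𝒜) = ofLevel 𝔚 h𝔚 n (𝒜.comap ((j : Hom 𝔚 𝔛).app n)) :=
  IdealSh.ext (funext fun V' => sect_idealMap_ofLevel h𝔚 h hj (U := ⊤) (fun _ _ => rfl) le_top)

theorem idealFT_of_cover {X : Scheme.{u}} {𝒜 : X.IdealSheafData}
    (H : ∀ x : X, ∃ (W : Scheme.{u}) (f : W ⟶ X) (_ : IsOpenImmersion f), x ∈ Set.range f ∧ IdealFT (𝒜.comap f)) :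
    IdealFT 𝒜 := by
  intro V
  refine fg_of_cover 𝒜 V fun x hx => ?_
  obtain ⟨W, f, hf, ⟨y, rfl⟩, hft⟩ := H x
  obtain ⟨V', hV', hyV', -⟩ := Opens.isBasis_iff_nbhd.mp W.isBasis_affineOpens (show y ∈ (⊤ : W.Opens) from trivial)
  refine ⟨⟨f ''ᵁ V', hV'.image_of_isOpenImmersion f⟩, ⟨y, hyV', rfl⟩, ?_⟩
  have := ideal_image_eq f 𝒜 ⟨V', hV'⟩
  rw [this]
  exact (hft ⟨V', hV'⟩).map _

/-- Gluing ideal sheaves on a level. -/
theorem exists_level_of_charts {h : 𝔛.IsFormal} (hI : I.FG) {hw : AdicOver 𝔛 I w} {J : IdealSh (𝔛.Osh h)}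
    {T : Type u} (C : T → Chart h hw J) (hC : ∀ x : 𝔛.X 0, ∃ t, x ∈ rg (C t).j (C t).hj) {n : ℕ}
    (hn : ∀ t, (C t).k ≤ n) : ∃ 𝒜 : (𝔛.X n).IdealSheafData, IdealFT 𝒜 ∧ J = ofLevel 𝔛 h n 𝒜 := by
  let ℐ : ∀ t, ((C t).sys.X n).IdealSheafData := fun t => (idealSpec (GS (C t).hs) (C t).𝔟).comap (kap (C t).hs n)
  have hℐ : ∀ t, idealMap (C t).j (C t).hs h J = ofLevel (C t).sys (C t).hs n (ℐ t) := fun t => by
    have := (C t).aff
    rw [(C t).e]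
    exact IdealSh.ext (funext fun V' => sect_gn_eq_ofLevel (C t).hs hI (hw.comp h ((C t).hj.isAdicHom (C t).hs h))
      ((Ideal.pow_le_pow_right ((hn t).trans (Nat.le_succ n))).trans (C t).hk) V')
  have hop : ∀ t, IsOpenImmersion (((C t).j : Hom (C t).sys 𝔛).app n) := fun t => (C t).hj n
  have hcov : ∀ x : 𝔛.X n, ∃ (t : T) (y : (C t).sys.X n), ((C t).j : Hom (C t).sys 𝔛).app n y = x := fun x => by
    obtain ⟨t, ht⟩ := hC (𝔛.gInv h n x)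
    obtain ⟨y, hy⟩ := (mem_range_app_iff (C t).hs h (C t).j n x).2 ht
    exact ⟨t, y, hy⟩
  obtain ⟨𝒜, h𝒜, -⟩ := Groth.Agent.Picfga.IdealGlue.exists_unique_glue_family (fun t => (C t).sys.X n)
    (fun t => ((C t).j : Hom (C t).sys 𝔛).app n) hcov ℐ fun t t' => by
      have hF : (pullbackSys (C t).j (C t').j).IsFormal :=
        isFormal_of_isAdicHom (isAdicHom_pullbackFst (C t).j ((C t').hj.isAdicHom (C t').hs h)) (C t).hs
      have ho1 : OpenImm (pullbackFst (C t).j (C t').j) := openImm_pullbackFst _ (C t').hj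
      have ho2 : OpenImm (pullbackSnd (C t).j (C t').j) := openImm_pullbackSnd (C t).hj _
      refine ofLevel_injective hF hI ((hw.comp h ((C t).hj.isAdicHom (C t).hs h)).comp (C t).hs
        (ho1.isAdicHom hF (C t).hs)) ?_
      have e1 := idealMap_ofLevel hF (C t).hs ho1 (ℐ t)
      have e2 := idealMap_ofLevel hF (C t').hs ho2 (ℐ t')
      rw [← hℐ, ← idealMap_comp] at e1 e2
      rw [pullbackSys_condition'] at e1
      exact e1.symm.trans e2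
  refine ⟨𝒜, idealFT_of_cover fun x => ?_, eq_of_cover h fun x => ?_⟩
  · obtain ⟨t, y, rfl⟩ := hcov x
    refine ⟨_, ((C t).j : Hom (C t).sys 𝔛).app n, hop t, ⟨y, rfl⟩, ?_⟩
    rw [h𝒜]
    exact isFT_comap (idealFT_idealSpec (C t).fg) _
  · obtain ⟨t, ht⟩ := hC x
    refine ⟨_, (C t).hs, (C t).j, (C t).hj, ht, ?_⟩
    rw [idealMap_ofLevel (C t).hs h (C t).hj, h𝒜, hℐ]

/-- On a quasi-compact system, locally generated open ideals come from all sufficiently high levels. -/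
theorem LGn.exists_level {h : 𝔛.IsFormal} (hI : I.FG) {hw : AdicOver 𝔛 I w} [CompactSpace (𝔛.X 0)]
    {J : IdealSh (𝔛.Osh h)} (hJ : LGn h hw J) :
    ∃ n₀, ∀ n ≥ n₀, ∃ 𝒜 : (𝔛.X n).IdealSheafData, IdealFT 𝒜 ∧ J = ofLevel 𝔛 h n 𝒜 := by
  choose C hC using fun x => hJ x ⊤ trivial
  obtain ⟨t, ht⟩ := isCompact_univ.elim_finite_subcover (fun x => (rg (C x).j (C x).hj : Set (𝔛.X 0)))
    (fun x => (rg (C x).j (C x).hj).isOpen) fun x _ => Set.mem_iUnion.2 ⟨x, (hC x).1⟩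
  refine ⟨t.sup fun x => (C x).k, fun n hn => ?_⟩
  refine exists_level_of_charts (T := {x // x ∈ t}) hI (fun x => C x.1) (fun x => ?_) fun x =>
    (Finset.le_sup (f := fun x => (C x).k) x.2).trans hn
  have := ht (Set.mem_univ x)
  simp only [Set.mem_iUnion] at this
  obtain ⟨y, hy, hxy⟩ := this
  exact ⟨⟨y, hy⟩, hxy⟩

theorem isCohOpen_ofLevel (h : 𝔛.IsFormal) {n : ℕ} {𝒜 : (𝔛.X n).IdealSheafData} (h𝒜 : IdealFT 𝒜) :
    IsCohOpen 𝔛 h (ofLevel 𝔛 h n 𝒜) := fun x => ⟨⊤, trivial, n, 𝒜, h𝒜, fun V _ => rfl⟩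

/-- On a quasi-compact system, locally generated open ideals are coherent open ideals. -/
theorem LGn.isCohOpen' {h : 𝔛.IsFormal} (hI : I.FG) {hw : AdicOver 𝔛 I w} [CompactSpace (𝔛.X 0)]
    {J : IdealSh (𝔛.Osh h)} (hJ : LGn h hw J) : IsCohOpen 𝔛 h J := by
  obtain ⟨n₀, hn⟩ := LGn.exists_level hI hJ
  obtain ⟨𝒜, h𝒜, rfl⟩ := hn n₀ le_rfl
  exact isCohOpen_ofLevel h h𝒜

end K788.Lev
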