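import Groth.Agent.FBlow.K788.Hyp
import Groth.Agent.FBlow.K788.Lev

/-!
# Locally Noetherian spaces
-/

set_option autoImplicit false
set_option linter.unusedVariables false

universe u

open CategoryTheory CategoryTheory.Limits TopologicalSpace Opposite AlgebraicGeometry

namespace K788.LNoeth

open FSch FBlow K788.Osh K788.IdSh K788.GenL K788.SysB K788.IdMap K788.Restr K788.Aff K788.AffSch K788.UP K788.Inv K788.SpfB
open K788.AffStr K788.Crt K788.AffV K788.CohL K788.ARed K788.LocB K788.LocC K788.Glob K788.CohC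

theorem noetherianSpace_of_finiteType {C B : Type u} [CommRing C] [CommRing B] (f : C →+* B) (hf : f.FiniteType)
    (hC : IsNoetherianRing (C ⧸ nilradical C)) : NoetherianSpace (PrimeSpectrum B) := by
  set J := (nilradical C).map f with hJ
  have hle : J ≤ nilradical B := by
    rw [hJ, Ideal.map_le_iff_le_comap]
    intro x hx
    exact (IsNilpotent.map ((mem_nilradical).1 hx) f)
  let f' : C ⧸ nilradical C →+* B ⧸ J := Ideal.quotientMap J f Ideal.le_comap_map
  have hf' : f'.FiniteType := by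
    refine RingHom.FiniteType.of_comp_finiteType (f := Ideal.Quotient.mk (nilradical C)) ?_
    have e : f'.comp (Ideal.Quotient.mk (nilradical C)) = (Ideal.Quotient.mk J).comp f := Ideal.quotientMap_comp_mk _
    rw [e]
    exact RingHom.FiniteType.comp (RingHom.FiniteType.of_surjective _ Ideal.Quotient.mk_surjective) hf
  algebraize [f']
  have hN : IsNoetherianRing (B ⧸ J) := Algebra.FiniteType.isNoetherianRing (C ⧸ nilradical C) _
  have h1 := NoetherianSpace.range (α := PrimeSpectrum (B ⧸ J)) (PrimeSpectrum.comap (Ideal.Quotient.mk J))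
    (PrimeSpectrum.continuous_comap _)
  have h2 : Set.range (PrimeSpectrum.comap (Ideal.Quotient.mk J)) = Set.univ := by
    rw [range_comap_of_surjective _ _ Ideal.Quotient.mk_surjective, Ideal.mk_ker,
      Set.eq_univ_iff_forall]
    exact fun p => hle.trans (nilradical_le_prime p.asIdeal)
  rw [h2] at h1
  exact noetherian_univ_iff.1 h1

/-- Quasi-compact opens are Noetherian spaces. -/
def LNS (X : Scheme.{u}) : Prop :=
  ∀ K V : X.Opens, IsCompact (K : Set X) → V ≤ K → IsCompact (V : Set X)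

theorem lns_of_affine {X : Scheme.{u}} (H : ∀ V : X.affineOpens, NoetherianSpace (PrimeSpectrum Γ(X, V))) : LNS X := by
  intro K V hK hVK
  obtain ⟨T, hT, hKT⟩ := (isCompact_iff_finite_and_eq_biUnion_affineOpens (U := K)).mp hK
  have e : (V : Set X) = ⋃ U ∈ T, ((V : Set X) ∩ (U.1 : Set X)) := by
    ext x
    simp only [Set.mem_iUnion, Set.mem_inter_iff]
    constructor
    · intro hx
      have := hVK hx
      rw [hKT] at this
      simp only [Opens.mem_iSup] at this
      obtain ⟨U, hU, hxU⟩ := this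
      exact ⟨U, hU, hx, hxU⟩
    · rintro ⟨U, hU, hx, -⟩
      exact hx
  rw [e]
  refine hT.isCompact_biUnion fun U hU => ?_
  have h1 : NoetherianSpace (Spec Γ(X, U.1)) := H U
  have h2 : IsCompact (U.2.fromSpec ⁻¹' (V : Set X)) := NoetherianSpace.isCompact _
  have h3 := h2.image U.2.fromSpec.continuous
  rwa [Set.image_preimage_eq_inter_range, U.2.range_fromSpec] at h3

theorem lns_of_locallyOfFiniteType {X : Scheme.{u}} {C : Type u} [CommRing C] (f : X ⟶ Spec (CommRingCat.of C))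
    [LocallyOfFiniteType f] (hC : IsNoetherianRing (C ⧸ nilradical C)) : LNS X := by
  refine lns_of_affine fun V => ?_
  have h1 := f.finiteType_appLE (isAffineOpen_top _) V.2 le_top
  refine noetherianSpace_of_finiteType (C := C)
    ((f.appLE ⊤ V.1 le_top).hom.comp (Scheme.ΓSpecIso (CommRingCat.of C)).inv.hom) ?_ hC
  refine RingHom.FiniteType.comp h1 (RingHom.FiniteType.of_surjective _ ?_)
  exact (ConcreteCategory.bijective_of_isIso (Scheme.ΓSpecIso (CommRingCat.of C)).inv).2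

theorem isNoetherianRing_of_isBase {R : Type u} [CommRing R] {I : Ideal R} (hR : AdicRing.IsBase R I) (n : ℕ) :
    IsNoetherianRing ((R ⧸ I ^ (n + 1)) ⧸ nilradical (R ⧸ I ^ (n + 1))) := by
  rcases hR.2 with ⟨h1, -⟩ | ⟨h1, h2, h3, t, ht, rfl⟩
  · infer_instance
  · have hV : ValuationRing R := { __ := h2, __ := h1 }
    by_cases htu : IsUnit t
    · have : Ideal.span {t} ^ (n + 1) = ⊤ := by
        rw [Ideal.span_singleton_eq_top.2 htu, Ideal.top_pow]
      rw [this]
      have : Subsingleton (R ⧸ (⊤ : Ideal R)) := Ideal.Quotient.subsingleton_iff.2 rfl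
      infer_instance
    · have hne : Ideal.span {t} ^ (n + 1) ≠ ⊤ := by
        rw [Ideal.span_singleton_pow, Ne, Ideal.span_singleton_eq_top]
        exact fun hu => htu (isUnit_pow_succ_iff.1 hu)
      have : Nontrivial (R ⧸ Ideal.span {t} ^ (n + 1)) := Ideal.Quotient.nontrivial_iff.2 hne
      have hloc : IsLocalRing (R ⧸ Ideal.span {t} ^ (n + 1)) :=
        IsLocalRing.of_surjective' (Ideal.Quotient.mk _) Ideal.Quotient.mk_surjective
      have hdim : Ring.KrullDimLE 0 (R ⧸ Ideal.span {t} ^ (n + 1)) := by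
        rw [Ideal.krullDimLE_zero_quotient_iff_forall_minimalPrimes_isMaximal]
        intro P hP
        have hPp := hP.1.1
        refine Ring.krullDimLE_one_iff_of_noZeroDivisors.1 h3 P ?_ hPp
        rintro rfl
        have h4 := hP.1.2 (Ideal.pow_mem_pow (Ideal.mem_span_singleton_self t) (n + 1))
        exact pow_ne_zero _ ht ((Submodule.mem_bot R).1 h4)
      have hmax : (nilradical (R ⧸ Ideal.span {t} ^ (n + 1))).IsMaximal := by
        rw [Ring.KrullDimLE.nilradical_eq_maximalIdeal]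
        infer_instance
      let _ := Ideal.Quotient.field (nilradical (R ⧸ Ideal.span {t} ^ (n + 1)))
      infer_instance

theorem lns_of_isBase {R : Type u} [CommRing R] {I : Ideal R} (hR : AdicRing.IsBase R I) {𝔛 : FSch.Sys.{u}}
    (p : 𝔛 ⟶ spf R I) (n : ℕ) (hfp : LocallyOfFiniteType ((p : Hom 𝔛 (spf R I)).app n)) : LNS (𝔛.X n) :=
  @lns_of_locallyOfFiniteType _ (R ⧸ I ^ (n + 1)) _ ((p : Hom 𝔛 (spf R I)).app n) hfp (isNoetherianRing_of_isBase hR n)

section Ext

open Groth.Agent.Divis.IdealFT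

variable {X W : Scheme.{u}}

theorem ideal_map_eq_top (f : W ⟶ X) [QuasiCompact f] (𝒜 : W.IdealSheafData) (V : X.affineOpens)
    (hV : f ⁻¹ᵁ V.1 = ⊥) : (𝒜.map f).ideal V = ⊤ := by
  rw [Ideal.eq_top_iff_one, mem_ideal_map_iff]
  intro V' e
  have hV' : V'.1 = ⊥ := le_bot_iff.1 (e.trans hV.le)
  have : Subsingleton Γ(W, V'.1) := by
    rw [hV']
    infer_instance
  have h0 : (f.appLE V.1 V'.1 e).hom 1 = 0 := Subsingleton.elim _ _
  exact h0 ▸ Ideal.zero_mem _

theorem comap_eq_top (K : X.IdealSheafData) {Z : X.Opens} (hK : ∀ V : X.affineOpens, V.1 ≤ Z → K.ideal V = ⊤)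
    (a : W ⟶ X) (ha : ∀ y, a y ∈ Z) : K.comap a = ⊤ := by
  refine Groth.Agent.Divis.IdealComap.ext_of_forall_mem fun y => ?_
  obtain ⟨U, V, hxU, hxV, hU, hV, e⟩ := Groth.Agent.Divis.IdealComap.exists_affine_le a y ⊤ trivial Z (ha y)
  refine ⟨V, by assumption, ?_⟩
  rw [Groth.Agent.Divis.IdealComap.ideal_comap _ a U V e, hK U (by assumption), Ideal.map_top]
  rfl

theorem exists_glue_two {Y₁ Y₂ : Scheme.{u}} (p₁ : Y₁ ⟶ X) (p₂ : Y₂ ⟶ X) [IsOpenImmersion p₁] [IsOpenImmersion p₂]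
    (hcov : ∀ x : X, x ∈ Set.range p₁ ∨ x ∈ Set.range p₂) (K₁ : Y₁.IdealSheafData) (K₂ : Y₂.IdealSheafData)
    (hK : K₁.comap (pullback.fst p₁ p₂) = K₂.comap (pullback.snd p₁ p₂)) :
    ∃ K : X.IdealSheafData, K.comap p₁ = K₁ ∧ K.comap p₂ = K₂ := by
  let Y : ULift.{u} Bool → Scheme.{u} := fun b => match b with
    | ⟨true⟩ => Y₁
    | ⟨false⟩ => Y₂
  let p : ∀ b, Y b ⟶ X := fun b => match b with
    | ⟨true⟩ => p₁
    | ⟨false⟩ => p₂
  let 𝒦 : ∀ b, (Y b).IdealSheafData := fun b => match b with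
    | ⟨true⟩ => K₁
    | ⟨false⟩ => K₂
  have ho : ∀ b, IsOpenImmersion (p b) := fun b => match b with
    | ⟨true⟩ => (inferInstance : IsOpenImmersion p₁)
    | ⟨false⟩ => (inferInstance : IsOpenImmersion p₂)
  obtain ⟨K, hK, -⟩ := Groth.Agent.Picfga.IdealGlue.exists_unique_glue_family Y p (fun x => by
    rcases hcov x with ⟨y, hy⟩ | ⟨y, hy⟩
    · exact ⟨⟨true⟩, y, hy⟩
    · exact ⟨⟨false⟩, y, hy⟩) 𝒦 (by
      rintro ⟨_ | _⟩ ⟨_ | _⟩
      · change K₂.comap (pullback.fst p₂ p₂) = K₂.comap (pullback.snd p₂ p₂)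
        rw [fst_eq_snd_of_mono_eq]
      · change K₂.comap (pullback.fst p₂ p₁) = K₁.comap (pullback.snd p₂ p₁)
        rw [← pullbackSymmetry_hom_comp_snd p₂ p₁, ← pullbackSymmetry_hom_comp_fst p₂ p₁,
          Scheme.IdealSheafData.comap_comp, Scheme.IdealSheafData.comap_comp, hK]
      · change K₁.comap (pullback.fst p₁ p₂) = K₂.comap (pullback.snd p₁ p₂)
        exact hK
      · change K₁.comap (pullback.fst p₁ p₁) = K₁.comap (pullback.snd p₁ p₁)
        rw [fst_eq_snd_of_mono_eq])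
  exact ⟨K, hK ⟨true⟩, hK ⟨false⟩⟩

/-- Extension of finite type ideals from quasi-compact opens of quasi-paracompact schemes, by the unit ideal away from
the open. -/
theorem exists_ft_extension_qp [QuasiSeparatedSpace X] (hLN : LNS X) {T : Type*} (V : T → X.Opens)
    (hV : (⨆ i, V i) = ⊤) (hVc : ∀ i, IsCompact (V i : Set X)) (hVf : ∀ i, Set.Finite {j | V i ⊓ V j ≠ ⊥})
    (f : W ⟶ X) [IsOpenImmersion f] [CompactSpace W] {𝒜 : W.IdealSheafData} (h𝒜 : IdealFT 𝒜) :
    ∃ K : X.IdealSheafData, IdealFT K ∧ K.comap f = 𝒜 ∧ ∀ V : X.affineOpens, V.1 ⊓ f.opensRange = ⊥ → K.ideal V = ⊤ := by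
  set U := f.opensRange with hU
  have hUc : IsCompact (U : Set X) := by
    rw [hU, Scheme.Hom.coe_opensRange]
    exact isCompact_range f.continuous
  have hcov : ∀ x : X, ∃ i, x ∈ V i := fun x => by
    have : x ∈ (⨆ i, V i) := hV ▸ trivial
    simpa only [Opens.mem_iSup] using this
  have hSfin : Set.Finite {j | V j ⊓ U ≠ ⊥} := by
    obtain ⟨t, ht⟩ := hUc.elim_finite_subcover (fun i => (V i : Set X)) (fun i => (V i).isOpen) fun x _ =>
      Set.mem_iUnion.2 (hcov x)
    refine Set.Finite.subset (Set.Finite.biUnion t.finite_toSet fun i _ => hVf i) fun j hj => ?_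
    have hj' : (V j ⊓ U : X.Opens) ≠ ⊥ := hj
    rw [Ne, ← Opens.coe_eq_empty, ← Ne, ← Set.nonempty_iff_ne_empty] at hj'
    obtain ⟨x, hxj, hxU⟩ := hj'
    have hx := ht hxU
    simp only [Set.mem_iUnion] at hx
    obtain ⟨i, hi, hxi⟩ := hx
    simp only [Set.mem_iUnion]
    refine ⟨i, hi, fun h0 => ?_⟩
    have : x ∈ (V i ⊓ V j : X.Opens) := ⟨hxi, hxj⟩
    rw [h0] at this
    exact this
  let W₀ : X.Opens := ⨆ j : {j | V j ⊓ U ≠ ⊥}, V j.1
  have hW₀c : IsCompact (W₀ : Set X) := by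
    have := hSfin.to_subtype
    rw [Opens.coe_iSup]
    exact isCompact_iUnion fun j => hVc j.1
  have hmem : ∀ x, x ∈ closure (U : Set X) → x ∈ W₀ := fun x hx => by
    obtain ⟨j, hj⟩ := hcov x
    refine Opens.mem_iSup.2 ⟨⟨j, fun h0 => ?_⟩, hj⟩
    obtain ⟨y, hy1, hy2⟩ := mem_closure_iff.1 hx (V j) (V j).isOpen hj
    have : y ∈ (V j ⊓ U : X.Opens) := ⟨hy1, hy2⟩
    rw [h0] at this
    exact this
  have hUW₀ : U ≤ W₀ := fun x hx => hmem x (subset_closure hx)
  let Z : X.Opens := ⟨(closure (U : Set X))ᶜ, isClosed_closure.isOpen_compl⟩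
  have hZU : ∀ x, x ∈ Z → x ∉ U := fun x hx hxU => hx (subset_closure hxU)
  have hWc : CompactSpace W₀ := isCompact_iff_compactSpace.1 hW₀c
  have hWq : QuasiSeparatedSpace W₀ := QuasiSeparatedSpace.of_isOpenEmbedding W₀.ι.isOpenEmbedding
  have hr : Set.range f ⊆ Set.range W₀.ι := by
    rw [Scheme.Opens.range_ι]
    rintro _ ⟨y, rfl⟩
    exact hUW₀ ⟨y, rfl⟩
  let f' : W ⟶ W₀ := IsOpenImmersion.lift W₀.ι f hr
  have hf' : f' ≫ W₀.ι = f := IsOpenImmersion.lift_fac _ _ _
  have ho : IsOpenImmersion f' := by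
    have : IsOpenImmersion (f' ≫ W₀.ι) := hf' ▸ inferInstance
    exact IsOpenImmersion.of_comp f' W₀.ι
  have hq : QuasiCompact f' := by
    constructor
    intro U' hU' hU'c
    rw [f'.isOpenEmbedding.isCompact_iff, Set.image_preimage_eq_inter_range]
    exact hU'c.inter_of_isOpen (isCompact_range f'.continuous) hU' f'.isOpenEmbedding.isOpen_range
  let Z' : (W₀ : Scheme.{u}).Opens := W₀.ι ⁻¹ᵁ Z
  have hZc : IsCompact (Z' : Set W₀) := by
    rw [W₀.ι.isOpenEmbedding.isCompact_iff]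
    have h1 := hLN W₀ (W₀.ι ''ᵁ Z') hW₀c (by
      rintro _ ⟨y, -, rfl⟩
      exact y.2)
    exact h1
  have hLtop : ∀ V : (W₀ : Scheme.{u}).affineOpens, V.1 ≤ Z' → (𝒜.map f').ideal V = ⊤ := fun V' hV' => by
    refine ideal_map_eq_top f' 𝒜 V' (le_bot_iff.1 fun y hy => ?_)
    have h1 : W₀.ι (f' y) ∈ Z := hV' hy
    refine (hZU _ h1 ?_).elim
    refine ⟨y, ?_⟩
    rw [← hf']
    rfl
  have hL : FTOn (𝒜.map f') (f'.opensRange ⊔ Z') := by
    intro V' hV'
    refine fg_of_cover _ V' fun x hx => ?_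
    rcases hV' hx with h1 | h1
    · obtain ⟨V'', hV'', hxV'', hle⟩ := Opens.isBasis_iff_nbhd.mp (W₀ : Scheme.{u}).isBasis_affineOpens h1
      exact ⟨⟨V'', hV''⟩, hxV'', ftOn_map f' h𝒜 ⟨V'', hV''⟩ hle⟩
    · obtain ⟨V'', hV'', hxV'', hle⟩ := Opens.isBasis_iff_nbhd.mp (W₀ : Scheme.{u}).isBasis_affineOpens h1
      refine ⟨⟨V'', hV''⟩, hxV'', ?_⟩
      rw [hLtop ⟨V'', hV''⟩ hle]
      exact Ideal.fg_top _
  obtain ⟨K₀, -, hK₀, hK₀'⟩ := exists_ft_eqOn (𝒜.map f') (f'.opensRange ⊔ Z') (by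
    rw [Opens.coe_sup]
    refine IsCompact.union ?_ hZc
    rw [Scheme.Hom.coe_opensRange]
    exact isCompact_range f'.continuous) hL
  have hK₀top : ∀ V : (W₀ : Scheme.{u}).affineOpens, V.1 ≤ Z' → K₀.ideal V = ⊤ := fun V' hV' => by
    rw [hK₀' V' (hV'.trans le_sup_right), hLtop V' hV']
  -- gluing with the unit ideal
  obtain ⟨K, hK1, hK2⟩ := exists_glue_two W₀.ι Z.ι (fun x => by
    rw [Scheme.Opens.range_ι, Scheme.Opens.range_ι]
    by_cases hx : x ∈ closure (U : Set X)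
    · exact Or.inl (hmem x hx)
    · exact Or.inr hx) K₀ ⊤ (by
      rw [comap_eq_top K₀ hK₀top (pullback.fst W₀.ι Z.ι), comap_eq_top ⊤ (Z := ⊤) (fun _ _ => rfl)]
      · exact fun _ => trivial
      · intro y
        have h1 : W₀.ι (pullback.fst W₀.ι Z.ι y) = Z.ι (pullback.snd W₀.ι Z.ι y) :=
          congrArg (fun t : pullback W₀.ι Z.ι ⟶ X => t y) pullback.condition
        change W₀.ι (pullback.fst W₀.ι Z.ι y) ∈ Z
        rw [h1]
        exact (pullback.snd W₀.ι Z.ι y).2)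
  refine ⟨K, Lev.idealFT_of_cover fun x => ?_, ?_, fun V' hV' => ?_⟩
  · by_cases hx : x ∈ closure (U : Set X)
    · refine ⟨_, W₀.ι, inferInstance, ?_, ?_⟩
      · rw [Scheme.Opens.range_ι]
        exact hmem x hx
      · rw [hK1]
        exact hK₀
    · refine ⟨_, Z.ι, inferInstance, ?_, ?_⟩
      · rw [Scheme.Opens.range_ι]
        exact hx
      · rw [hK2]
        exact fun V => Ideal.fg_top _
  · rw [← hf', Scheme.IdealSheafData.comap_comp, hK1]
    refine Eq.trans ?_ (comap_map_eq f' 𝒜)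
    ext1
    funext V
    rw [Scheme.IdealSheafData.ideal_comap_of_isOpenImmersion, Scheme.IdealSheafData.ideal_comap_of_isOpenImmersion,
      hK₀' _ ((f'.image_le_opensRange V.1).trans le_sup_left)]
  · have hle : V'.1 ≤ Z.ι.opensRange := by
      rw [Scheme.Opens.opensRange_ι]
      intro x hx hx'
      obtain ⟨y, hy1, hy2⟩ := mem_closure_iff.1 hx' V'.1 V'.1.isOpen hx
      have : y ∈ (V'.1 ⊓ U : X.Opens) := ⟨hy1, hy2⟩
      rw [hV'] at this
      exact this
    obtain ⟨V'', rfl⟩ := exists_image_eq Z.ι V' hle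
    rw [ideal_image_eq, hK2]
    exact Ideal.map_top _

end Ext

end K788.LNoeth
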