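import Groth.Agent.FBlow.K788.CohL
import Groth.Agent.Flat2C.BlowExist

/-!
# Local structure and local existence of admissible blow-ups
-/

set_option autoImplicit false

universe u

open CategoryTheory CategoryTheory.Limits TopologicalSpace Opposite AlgebraicGeometry

namespace K788.LocB

open FSch FBlow K788.Osh K788.IdSh K788.GenL K788.SysB K788.IdMap K788.Restr K788.Aff K788.AffSch K788.UP K788.Inv K788.SpfB
open K788.AffStr K788.Crt K788.AffV K788.CohL K788.ARed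
open Groth.Agent.Divis.BlowChart Groth.Agent.Fcompl.H552.IdealSpec Groth.Agent.Divis.BlowTwist

variable {𝔛 𝔛' 𝔜 ℨ 𝔘 𝔚 : FSch.Sys.{u}} {R : Type u} [CommRing R]

theorem isAdicHom_of_isPullback {P Y : Scheme.{u}} {q : P ⟶ Y} {r : ∀ n, 𝔛.X n ⟶ P} {p : ∀ n, 𝔜.X n ⟶ Y}
    (b : 𝔛 ⟶ 𝔜) (hr : ∀ n, 𝔛.ι n ≫ r (n + 1) = r n) (hp : ∀ n, 𝔜.ι n ≫ p (n + 1) = p n)
    (hpb : ∀ n, IsPullback (r n) ((b : Hom 𝔛 𝔜).app n) q (p n)) : IsAdicHom b := by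
  intro n
  have h1 : IsPullback (𝔛.ι n ≫ r (n + 1)) ((b : Hom 𝔛 𝔜).app n) q (𝔜.ι n ≫ p (n + 1)) := by
    rw [hr, hp]
    exact hpb n
  exact IsPullback.of_right h1 ((b : Hom 𝔛 𝔜).comm n).symm (hpb (n + 1))

theorem sg_kap (h : 𝔛.IsFormal) : sg h (kap h) (ι_kap h) = RingHom.id (GS h) := by
  refine ringHom_ext h fun n => ?_
  rw [kap_sg]
  have e : CommRingCat.ofHom (RingHom.id (GS h)) = 𝟙 _ := rfl
  rw [e, Spec.map_id, Category.comp_id]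

theorem schIdealMap_kap (h : 𝔛.IsFormal) (𝔟 : Ideal (GS h)) :
    schIdealMap 𝔛 h (kap h) (ι_kap h) (IdealSh.ofData (idealSpec (GS h) 𝔟)) = gn (O := 𝔛.Osh h) 𝔟 := by
  rw [schIdealMap_eq_gn, sg_kap, Ideal.map_id]

section Local

variable (h : 𝔛.IsFormal) {I : Ideal R} (hI : I.FG) {w : ∀ n, 𝔛.X n ⟶ Spec (CommRingCat.of R)} (hw : AdicOver 𝔛 I w)
  (hL : LG h I w hw.compat) [IsAffine (𝔛.X 0)] {𝔟 : Ideal (GS h)} {k : ℕ} (hk : (I.map (sg h w hw.compat)) ^ k ≤ 𝔟)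

include hI hL hk in
theorem isAdmBlowUp_aff {P : Scheme.{u}} {q : P ⟶ Spec (CommRingCat.of (GS h))}
    (hq : BlowUp.IsBlowUp q (idealSpec (GS h) 𝔟)) (h' : 𝔛'.IsFormal) (b : 𝔛' ⟶ 𝔛) {r : ∀ n, 𝔛'.X n ⟶ P}
    (hr : ∀ n, 𝔛'.ι n ≫ r (n + 1) = r n) (hpb : ∀ n, IsPullback (r n) ((b : Hom 𝔛' 𝔛).app n) q (kap h n)) :
    IsAdmBlowUp b h' h (gn (O := 𝔛.Osh h) 𝔟) := by
  rw [← schIdealMap_kap]
  exact isAdmBlowUp_of_isPullback h' (hL.gd hI hw) hk hq h (kap h) (isCompl_kap h hI hw) b hr hpb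

include hI hL hk in
/-- Local existence of admissible blow-ups. -/
theorem exists_isAdmBlowUp_aff {P : Scheme.{u}} {q : P ⟶ Spec (CommRingCat.of (GS h))}
    (hq : BlowUp.IsBlowUp q (idealSpec (GS h) 𝔟)) :
    ∃ (𝔛' : FSch.Sys.{u}) (h' : 𝔛'.IsFormal) (b : 𝔛' ⟶ 𝔛) (r : ∀ n, 𝔛'.X n ⟶ P),
      (∀ n, 𝔛'.ι n ≫ r (n + 1) = r n) ∧ (∀ n, IsPullback (r n) ((b : Hom 𝔛' 𝔛).app n) q (kap h n)) ∧
      IsAdmBlowUp b h' h (gn (O := 𝔛.Osh h) 𝔟) := by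
  let 𝔓 := pullbackSys (cstMap q) (fam (kap h) (ι_kap h))
  let b : 𝔓 ⟶ 𝔛 := pullbackSnd (cstMap q) (fam (kap h) (ι_kap h))
  have hpb : ∀ n, IsPullback (fm (pullbackFst (cstMap q) (fam (kap h) (ι_kap h))) n) ((b : Hom 𝔓 𝔛).app n) q (kap h n) :=
    fun n => IsPullback.of_hasPullback _ _
  have hr : ∀ n, 𝔓.ι n ≫ fm (pullbackFst (cstMap q) (fam (kap h) (ι_kap h))) (n + 1) =
    fm (pullbackFst (cstMap q) (fam (kap h) (ι_kap h))) n := fam_compat _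
  have h' : 𝔓.IsFormal := isFormal_of_isAdicHom (isAdicHom_of_isPullback b hr (ι_kap h) hpb) h
  exact ⟨𝔓, h', b, _, hr, hpb, isAdmBlowUp_aff h hI hw hL hk hq h' b hr hpb⟩

include hI hL hk in
/-- Local structure of admissible blow-ups. -/
theorem exists_structure {h' : 𝔛'.IsFormal} {b : 𝔛' ⟶ 𝔛} (hb : IsAdmBlowUp b h' h (gn (O := 𝔛.Osh h) 𝔟)) :
    ∃ (P : Scheme.{u}) (q : P ⟶ Spec (CommRingCat.of (GS h))) (r : ∀ n, 𝔛'.X n ⟶ P),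
      BlowUp.IsBlowUp q (idealSpec (GS h) 𝔟) ∧
      (∀ n, 𝔛'.ι n ≫ r (n + 1) = r n) ∧ (∀ n, IsPullback (r n) ((b : Hom 𝔛' 𝔛).app n) q (kap h n)) := by
  obtain ⟨P, q, hq⟩ := Groth.Agent.Flat2C.BlowExist.exists_isBlowUp (idealSpec (GS h) 𝔟)
  obtain ⟨𝔛'', h'', c, r, hr, hpb, hc⟩ := exists_isAdmBlowUp_aff h hI hw hL hk hq
  obtain ⟨e, he⟩ := IsAdmBlowUp.exists_iso hb hc
  refine ⟨P, q, fun n => (e.hom : Hom 𝔛' 𝔛'').app n ≫ r n, hq, fun n => ?_, fun n => ?_⟩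
  · rw [← Category.assoc, ← (e.hom : Hom 𝔛' 𝔛'').comm n, Category.assoc, hr]
  · have h1 : IsIso ((e.hom : Hom 𝔛' 𝔛'').app n) :=
      ⟨(e.inv : Hom 𝔛'' 𝔛').app n, congrArg (fun t : Hom _ _ => t.app n) e.hom_inv_id,
        congrArg (fun t : Hom _ _ => t.app n) e.inv_hom_id⟩
    have h2 : (b : Hom 𝔛' 𝔛).app n = (e.hom : Hom 𝔛' 𝔛'').app n ≫ (c : Hom 𝔛'' 𝔛).app n := by
      rw [← he]
      rfl
    have h3 : IsPullback ((e.hom : Hom 𝔛' 𝔛'').app n) ((b : Hom 𝔛' 𝔛).app n) ((c : Hom 𝔛'' 𝔛).app n) (𝟙 _) := by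
      refine IsPullback.of_horiz_isIso ⟨?_⟩
      rw [Category.comp_id, h2]
    have h4 := h3.paste_horiz (hpb n)
    rw [Category.id_comp] at h4
    exact h4

end Local

end K788.LocB
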