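import Groth.Agent.FBlow.K788.LocB

/-!
# Local structure of admissible blow-ups: consequences
-/

set_option autoImplicit false

universe u

open CategoryTheory CategoryTheory.Limits TopologicalSpace Opposite AlgebraicGeometry

namespace K788.LocC

open FSch FBlow K788.Osh K788.IdSh K788.GenL K788.SysB K788.IdMap K788.Restr K788.Aff K788.AffSch K788.UP K788.Inv K788.SpfB
open K788.AffStr K788.Crt K788.AffV K788.CohL K788.ARed K788.LocB
open Groth.Agent.Divis.BlowChart Groth.Agent.Fcompl.H552.IdealSpec Groth.Agent.Divis.BlowTwist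

variable {𝔛 𝔛' 𝔜 ℨ 𝔘 𝔚 : FSch.Sys.{u}} {R : Type u} [CommRing R]

section Ring

variable {A : Type u} [CommRing A] {P : Scheme.{u}} {q : P ⟶ Spec (CommRingCat.of A)} {𝔞 : Ideal A}

theorem rho_mem_nonZeroDivisors (hq : BlowUp.IsBlowUp q (idealSpec A 𝔞)) {g : A} (hg : g ∈ nonZeroDivisors A)
    (W : P.affineOpens) : rho q W.1 g ∈ nonZeroDivisors Γ(P, W.1) := by
  have h1 := Groth.Agent.Divis.BlowUpFormal.isEff_comap_of_isBlowUp hq (isEff_idealSpec_span hg)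
  have h2 : ((idealSpec A (Ideal.span {g})).comap q).ideal W = Ideal.span {rho q W.1 g} := by
    rw [idealSpec_eq_idl, comap_idl, Ideal.map_span, Set.image_singleton]
  exact mem_nonZeroDivisors_of_isEff h1 W _ h2

theorem ar_rho {I : Ideal A} (hA : Gd A I) (hq : BlowUp.IsBlowUp q (idealSpec A 𝔞)) {g : A}
    (hg : g ∈ nonZeroDivisors A) {k : ℕ} (hk : I ^ k ≤ Ideal.span {g}) (W : P.affineOpens) :
    AR (((idealSpec A I).comap q).ideal W) (rho q W.1 g) := by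
  have h1 := rho_mem_nonZeroDivisors hq hg W
  rcases hA with hN | ⟨t, ht, rfl⟩
  · have : IsLocallyNoetherian (Spec (CommRingCat.of A)) := inferInstance
    have := Groth.Agent.Ega4dB.BlowFT.isLocallyNoetherian_of_isBlowUp hq
    have : IsNoetherianRing Γ(P, W.1) := IsLocallyNoetherian.component_noetherian W
    exact AR.of_noeth _ h1
  · have h2 : ((idealSpec A (Ideal.span {t})).comap q).ideal W = Ideal.span {rho q W.1 t} := by
      rw [idealSpec_eq_idl, comap_idl, Ideal.map_span, Set.image_singleton]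
    rw [h2]
    refine AR.of_span (rho_mem_nonZeroDivisors hq ht W) (k := k) ?_
    have h3 := Ideal.mem_map_of_mem (rho q W.1) (hk (Ideal.pow_mem_pow (Ideal.mem_span_singleton_self t) k))
    rw [Ideal.map_span, Set.image_singleton, map_pow] at h3
    exact h3

theorem isCompl_of_isPullback {Y : Scheme.{u}} {q : P ⟶ Y} {𝓘 : Y.IdealSheafData} {r : ∀ n, 𝔛'.X n ⟶ P}
    {p : ∀ n, 𝔛.X n ⟶ Y} (hp : IsCompl p 𝓘) (b : 𝔛' ⟶ 𝔛) (hr : ∀ n, 𝔛'.ι n ≫ r (n + 1) = r n)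
    (hpb : ∀ n, IsPullback (r n) ((b : Hom 𝔛' 𝔛).app n) q (p n)) : IsCompl r (𝓘.comap q) := by
  refine ⟨hr, fun n => ?_, fun n => ?_⟩
  · have := hp.ci n
    exact MorphismProperty.of_isPullback (P := @IsClosedImmersion) (hpb n).flip this
  · have := hp.ci n
    rw [ker_of_isPullback (hpb n), hp.ker, Groth.Agent.Divis.IdealComap.comap_pow]

end Ring

section Local

variable {h : 𝔛.IsFormal} {I : Ideal R} (hI : I.FG) {w : ∀ n, 𝔛.X n ⟶ Spec (CommRingCat.of R)} (hw : AdicOver 𝔛 I w)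
  (hL : LG h I w hw.compat) [IsAffine (𝔛.X 0)] {𝔟 : Ideal (GS h)} {k : ℕ} (hk : (I.map (sg h w hw.compat)) ^ k ≤ 𝔟)
  {h' : 𝔛'.IsFormal} {b : 𝔛' ⟶ 𝔛} {P : Scheme.{u}} {q : P ⟶ Spec (CommRingCat.of (GS h))}
  (hq : BlowUp.IsBlowUp q (idealSpec (GS h) 𝔟)) {r : ∀ n, 𝔛'.X n ⟶ P} (hr : ∀ n, 𝔛'.ι n ≫ r (n + 1) = r n)
  (hpb : ∀ n, IsPullback (r n) ((b : Hom 𝔛' 𝔛).app n) q (kap h n))

omit [IsAffine (𝔛.X 0)] in
include hpb in
theorem rs_gsMap (s : GS h) (W : P.Opens) :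
    rs (𝔛'.Osh h') (le_top : r 0 ⁻¹ᵁ W ≤ ⊤) (gsMap h' h b s) = ssh h' r hr W (rho q W s) := by
  have w' : ∀ n, 𝔛'.ι n ≫ r (n + 1) ≫ q = r n ≫ q := fun n => by rw [← Category.assoc, hr]
  have e : sg h' (fun n => r n ≫ q) w' = gsMap h' h b := by
    rw [sg_comp h' h b (kap h) (ι_kap h) (fun n => r n ≫ q) w' (fun n => (hpb n).w.symm), sg_kap, RingHom.comp_id]
  rw [← e]
  exact rs_sg h' hr w' W s

include hI hL hq hr hpb in
theorem nzd_rs_gsMap {g : GS h} (hg : g ∈ nonZeroDivisors (GS h)) {k' : ℕ}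
    (hk' : (I.map (sg h w hw.compat)) ^ k' ≤ Ideal.span {g}) (W : P.affineOpens) :
    Nzd (𝔛'.Osh h') (r 0 ⁻¹ᵁ W.1) (rs (𝔛'.Osh h') (le_top : r 0 ⁻¹ᵁ W.1 ≤ ⊤) (gsMap h' h b g)) := by
  rw [rs_gsMap (h' := h') hr hpb]
  have hc := isCompl_of_isPullback (isCompl_kap h hI hw) b hr hpb
  exact nzd_ssh h' hc W (ar_rho (hL.gd hI hw) hq hg hk' W)

include hI hL hq hr hpb in
theorem nzd_gsMap {g : GS h} (hg : g ∈ nonZeroDivisors (GS h)) {k' : ℕ}
    (hk' : (I.map (sg h w hw.compat)) ^ k' ≤ Ideal.span {g}) : Nzd (𝔛'.Osh h') ⊤ (gsMap h' h b g) := by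
  intro V i s hs
  refine eq_of_local (O := 𝔛'.Osh h') fun x hx => ?_
  obtain ⟨W, hW, hxW, -⟩ := Opens.isBasis_iff_nbhd.mp P.isBasis_affineOpens (show r 0 x ∈ (⊤ : P.Opens) from trivial)
  refine ⟨V ⊓ r 0 ⁻¹ᵁ W, inf_le_left, ⟨hx, hxW⟩, ?_⟩
  rw [map_zero]
  refine nzd_rs_gsMap hI hw hL hq hr hpb hg hk' ⟨W, hW⟩ _ inf_le_right _ ?_
  have e := congrArg (rs (𝔛'.Osh h') (inf_le_left : V ⊓ r 0 ⁻¹ᵁ W ≤ V)) hs
  rw [map_mul, rs_rs, map_zero] at e
  rw [rs_rs]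
  exact e

include hI hL hq hr hpb in
/-- Invertible open ideals stay invertible on an admissible blow-up (affine case). -/
theorem isInvertible_gsMap {g : GS h} (hg : g ∈ nonZeroDivisors (GS h)) {k' : ℕ}
    (hk' : (I.map (sg h w hw.compat)) ^ k' ≤ Ideal.span {g}) :
    (idealMap b h' h (gn (O := 𝔛.Osh h) (Ideal.span {g}))).IsInvertible := by
  rw [idealMap_gn, isInvertible_iff]
  intro x
  refine ⟨⊤, trivial, gsMap h' h b g, gen_gn_of_span (nzd_gsMap hI hw hL hq hr hpb hg hk') ?_⟩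
  have e : rs (𝔛'.Osh h') (le_top : (⊤ : (𝔛'.X 0).Opens) ≤ ⊤) = RingHom.id _ := by
    ext s
    exact rs_self _ _
  rw [e, Ideal.map_id]
  exact (Ideal.map_span (gsMap h' h b) {g}).trans (by rw [Set.image_singleton])

include hI hL hq hr hpb in
/-- The condition `LG` passes to admissible blow-ups (affine case). -/
theorem lg_aff (h𝔟 : 𝔟.FG) (hw' : ∀ n, 𝔛'.ι n ≫ (b : Hom 𝔛' 𝔛).app (n + 1) ≫ w (n + 1) = (b : Hom 𝔛' 𝔛).app n ≫ w n) :
    LG h' I (fun n => (b : Hom 𝔛' 𝔛).app n ≫ w n) hw' := by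
  rcases id hL with hN | ⟨t, ht, hV⟩
  · left
    intro n
    have h1 : LocallyOfFiniteType q := Groth.Agent.Ega4dB.BlowFT.locallyOfFiniteType_of_isBlowUp (fun U => by
      rw [idealSpec_eq_idl]
      have := comap_idl_ideal 𝔟 (𝟙 (Spec (CommRingCat.of (GS h)))) U
      rw [Scheme.IdealSheafData.comap_id] at this
      rw [this]
      exact h𝔟.map _) hq
    have h2 : LocallyOfFiniteType ((b : Hom 𝔛' 𝔛).app n) :=
      MorphismProperty.of_isPullback (P := @LocallyOfFiniteType) (hpb n) h1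
    have := hN n
    exact LocallyOfFiniteType.isLocallyNoetherian ((b : Hom 𝔛' 𝔛).app n)
  · right
    refine ⟨t, ht, ?_⟩
    rw [sg_comp h' h b w hw.compat _ hw' (fun _ => rfl)]
    have hg : sg h w hw.compat t ∈ nonZeroDivisors (GS h) := by
      rw [mem_nonZeroDivisors_iff_right]
      exact hV.self
    refine nzd_gsMap hI hw hL hq hr hpb hg (k' := 1) ?_
    subst ht
    rw [pow_one, Ideal.map_span, Set.image_singleton]

end Local

end K788.LocC
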