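import Groth.Agent.FBlow.K788.Ext
import Groth.Agent.AlgSp.K597.FlatKer

/-!
# Pushing forward ideal sheaves
-/

set_option autoImplicit false
set_option linter.unusedVariables false

universe u

open CategoryTheory CategoryTheory.Limits TopologicalSpace Opposite AlgebraicGeometry

namespace K788.MapC

open FSch FBlow K788.Osh K788.IdSh K788.GenL K788.SysB K788.IdMap K788.Restr K788.Aff K788.AffSch K788.UP K788.Inv K788.SpfB
open K788.AffStr K788.Crt K788.AffV K788.CohL K788.ARed K788.LocB K788.LocC K788.Glob K788.CohC K788.LNoeth K788.Lev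
open Groth.Agent.Divis.IdealFT

variable {X Y X' Y' W : Scheme.{u}}

theorem map_comap_of_isPullback {g' : X' ⟶ X} {f' : X' ⟶ Y'} {f : X ⟶ Y} {g : Y' ⟶ Y}
    (sq : IsPullback g' f' f g) [QuasiCompact f] [Flat g] (I : X.IdealSheafData) :
    (I.map f).comap g = (I.comap g').map f' := by
  have s1 := (IsPullback.of_hasPullback I.subschemeι g')
  have s2 := s1.paste_vert sq
  have h := K597.FlatKer.ker_of_isPullback_flat s2
  have h1 : (pullback.snd I.subschemeι g').ker = I.comap g' := by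
    rw [← Scheme.IdealSheafData.ker_subschemeι I, ← Scheme.IdealSheafData.ker_fst_of_isClosedImmersion,
      ← pullbackSymmetry_hom_comp_snd, Scheme.Hom.ker_comp_of_isIso]
    rw [Scheme.IdealSheafData.ker_subschemeι I]
  rw [Scheme.Hom.ker_comp, Scheme.Hom.ker_comp, h1, Scheme.IdealSheafData.ker_subschemeι] at h
  exact h.symm

/-- Membership in a pushed forward ideal. -/
theorem memData_map_iff (f : X ⟶ Y) [QuasiCompact f] (𝒜 : X.IdealSheafData) (U : Y.Opens) (s : Γ(Y, U)) :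
    MemData (𝒜.map f) U s ↔ MemData 𝒜 (f ⁻¹ᵁ U) (f.app U s) := by
  constructor
  · intro hs x hx
    obtain ⟨U', V', hU, hyV', hV, hU', e'⟩ := Groth.Agent.Divis.IdealComap.exists_affine_le f x (f ⁻¹ᵁ U) hx U hx
    refine ⟨V', hV, hyV', ?_⟩
    have h1 := (mem_ideal_map_iff 𝒜 f U' _).1 (memData_le (𝒜.map f) hs U' hU') V' e'
    have e1 : X.presheaf.map (homOfLE hV).op (f.app U s) = f.appLE U' V' e' (Y.presheaf.map (homOfLE hU').op s) := by
      have : f.app U ≫ X.presheaf.map (homOfLE hV).op = Y.presheaf.map (homOfLE hU').op ≫ f.appLE U' V' e' := by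
        rw [Scheme.Hom.map_appLE]
        rfl
      exact congrArg (fun t => CommRingCat.Hom.hom t s) this
    rw [e1]
    exact h1
  · intro hs y hy
    obtain ⟨V, hV, hyV, hle⟩ := Opens.isBasis_iff_nbhd.mp Y.isBasis_affineOpens hy
    refine ⟨⟨V, hV⟩, hle, hyV, (mem_ideal_map_iff 𝒜 f ⟨V, hV⟩ _).2 fun V' e' => ?_⟩
    have h1 := memData_le 𝒜 hs V' (e'.trans (f.preimage_mono hle))
    have e1 : X.presheaf.map (homOfLE (e'.trans (f.preimage_mono hle))).op (f.app U s) =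
        f.appLE V V' e' (Y.presheaf.map (homOfLE hle).op s) := by
      have : f.app U ≫ X.presheaf.map (homOfLE (e'.trans (f.preimage_mono hle))).op =
          Y.presheaf.map (homOfLE hle).op ≫ f.appLE V V' e' := by
        rw [Scheme.Hom.map_appLE]
        rfl
      exact congrArg (fun t => CommRingCat.Hom.hom t s) this
    rw [e1] at h1
    exact h1

theorem comap_map_of_isClosedImmersion (r : X ⟶ Y) [IsClosedImmersion r] (𝒜 : X.IdealSheafData) :
    (𝒜.map r).comap r = 𝒜 := by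
  refine Groth.Agent.Divis.IdealComap.ext_of_forall_mem fun x => ?_
  obtain ⟨U, hU, hxU, -⟩ := Opens.isBasis_iff_nbhd.mp Y.isBasis_affineOpens (show r x ∈ (⊤ : Y.Opens) from trivial)
  refine ⟨⟨r ⁻¹ᵁ U, hU.preimage r⟩, hxU, ?_⟩
  rw [Groth.Agent.Divis.IdealComap.ideal_comap _ r ⟨U, hU⟩ ⟨r ⁻¹ᵁ U, hU.preimage r⟩ le_rfl,
    Scheme.IdealSheafData.ideal_map_of_isAffineHom, ← Scheme.Hom.app_eq_appLE]
  exact Ideal.map_comap_of_surjective _ (r.app_surjective U hU) _

theorem idealFT_map (r : X ⟶ Y) [IsClosedImmersion r] {𝒜 : X.IdealSheafData} (h𝒜 : IdealFT 𝒜) (hk : IdealFT r.ker) :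
    IdealFT (𝒜.map r) := by
  intro U
  rw [Scheme.IdealSheafData.ideal_map_of_isAffineHom]
  refine fg_comap (r.app_surjective U.1 U.2) ?_ (h𝒜 _)
  have := hk U
  rwa [Scheme.Hom.ker_apply] at this

theorem le_of_top [IsAffine X] {K L : X.IdealSheafData} (e : K.ideal ⟨⊤, isAffineOpen_top X⟩ ≤ L.ideal ⟨⊤, isAffineOpen_top X⟩) :
    K ≤ L := by
  intro V
  rw [← K.map_ideal (U := V) (V := ⟨⊤, isAffineOpen_top X⟩) (show V.1 ≤ ⊤ from le_top),
    ← L.map_ideal (U := V) (V := ⟨⊤, isAffineOpen_top X⟩) (show V.1 ≤ ⊤ from le_top)]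
  exact Ideal.map_mono e

theorem exists_ft_comap_eq [CompactSpace X] [QuasiSeparatedSpace X] (b : X' ⟶ X) [QuasiCompact b]
    (𝒵 : X'.IdealSheafData) {T : Type*} [Finite T] (W W' : T → Scheme.{u}) (j : ∀ t, W t ⟶ X)
    [∀ t, IsOpenImmersion (j t)] [∀ t, IsAffine (W t)] (hj : ∀ x : X, ∃ t, x ∈ Set.range (j t))
    (j' : ∀ t, W' t ⟶ X') (b' : ∀ t, W' t ⟶ W t) (hP : ∀ t, IsPullback (j' t) (b' t) b (j t))
    (𝒦 : ∀ t, (W t).IdealSheafData) (h𝒦 : ∀ t, IdealFT (𝒦 t)) (e : ∀ t, (𝒦 t).comap (b' t) = 𝒵.comap (j' t)) :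
    ∃ K : X.IdealSheafData, IdealFT K ∧ K.comap b = 𝒵 := by
  have hqc : ∀ t, QuasiCompact (b' t) := fun t => MorphismProperty.of_isPullback (hP t) inferInstance
  have hle : ∀ t, 𝒦 t ≤ (𝒵.map b).comap (j t) := fun t => by
    rw [map_comap_of_isPullback (hP t), ← e t, Scheme.IdealSheafData.le_map_iff_comap_le]
  let U : T → X.affineOpens := fun t => ⟨(j t) ''ᵁ ⊤, (isAffineOpen_top (W t)).image_of_isOpenImmersion (j t)⟩
  let J : ∀ t, Ideal Γ(X, U t) := fun t => ((𝒦 t).ideal ⟨⊤, isAffineOpen_top (W t)⟩).map ((j t).appIso ⊤).inv.hom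
  obtain ⟨K, hK1, hK2, hK3⟩ := exists_ft_mem_family (𝒵.map b) U J (fun t => (h𝒦 t _).map _) fun t => by
    have h1 := ideal_image_eq (j t) (𝒵.map b) ⟨⊤, isAffineOpen_top (W t)⟩
    refine (Ideal.map_mono ?_).trans h1.ge
    exact hle t _
  have hle2 : ∀ t, 𝒦 t ≤ K.comap (j t) := fun t => by
    refine le_of_top ?_
    rw [Scheme.IdealSheafData.ideal_comap_of_isOpenImmersion]
    exact Ideal.map_le_iff_le_comap.1 (hK3 t)
  refine ⟨K, hK2, ?_⟩
  have hK4 : K.comap b ≤ 𝒵 := Scheme.IdealSheafData.le_map_iff_comap_le.mp hK1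
  refine idealSheafData_ext_of_cover fun x' => ?_
  obtain ⟨t, y, hy⟩ := hj (b x')
  obtain ⟨z, hz, -⟩ := Scheme.exists_preimage_of_isPullback (hP t) x' y hy.symm
  refine ⟨_, j' t, MorphismProperty.of_isPullback (hP t).flip inferInstance, ⟨z, hz⟩, ?_⟩
  apply le_antisymm
  · exact Scheme.IdealSheafData.comap_mono _ hK4
  · rw [← e t, ← Scheme.IdealSheafData.comap_comp, (hP t).w, Scheme.IdealSheafData.comap_comp]
    exact Scheme.IdealSheafData.comap_mono _ (hle2 t)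

end K788.MapC
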