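import Groth.Prelude.Def_FBlow

/-!
# Sections of the structure sheaf `𝔛.Osh h` of a formal system

`Sec 𝔛 h U` are the sections over an open `U` of the common space; `pr n U` the projection to the sections of level `n`.
Main lemmas: `sec_ext`, `exists_sec` (sections are compatible families), `pr_res`, `pr_sharp`, `pr_schSharp`,
`isUnit_iff` (unit criterion at level `0`), `exists_isUnit_res` (`O_𝔛` has local stalks).
-/

set_option autoImplicit false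

universe u

open CategoryTheory CategoryTheory.Limits TopologicalSpace Opposite AlgebraicGeometry

namespace K788.Osh

open FSch

noncomputable section

variable (𝔛 : FSch.Sys.{u}) (h : 𝔛.IsFormal)

/-- Sections of `O_𝔛` over `U`. -/
abbrev Sec (U : (𝔛.X 0).Opens) : Type u := (𝔛.Osh h).obj.obj (op U)

/-- The projection of sections of `O_𝔛` to sections of the level `n`. -/
def pr (n : ℕ) (U : (𝔛.X 0).Opens) : Sec 𝔛 h U →+* Γ(𝔛.X n, 𝔛.lvU h n U) :=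
  ((𝔛.OshProj h n).hom.app (op U)).hom

/-- The transition map on sections. -/
def tr (n : ℕ) (U : (𝔛.X 0).Opens) : Γ(𝔛.X (n + 1), 𝔛.lvU h (n + 1) U) →+* Γ(𝔛.X n, 𝔛.lvU h n U) :=
  ((𝔛.ι n).appLE (𝔛.lvU h (n + 1) U) (𝔛.lvU h n U) (𝔛.lvU_le h n U)).hom

/-- Restriction of sections. -/
def res {U V : (𝔛.X 0).Opens} (i : V ≤ U) : Sec 𝔛 h U →+* Sec 𝔛 h V :=
  ((𝔛.Osh h).obj.map (homOfLE i).op).hom

/-- Restriction of sections of the level `n`. -/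
def lres (n : ℕ) {U V : (𝔛.X 0).Opens} (i : V ≤ U) : Γ(𝔛.X n, 𝔛.lvU h n U) →+* Γ(𝔛.X n, 𝔛.lvU h n V) :=
  ((𝔛.X n).presheaf.map (homOfLE (FBlow.lvU_mono 𝔛 h n i)).op).hom

variable {𝔛}

theorem tr_pr (n : ℕ) (U : (𝔛.X 0).Opens) (s : Sec 𝔛 h U) : tr 𝔛 h n U (pr 𝔛 h (n + 1) U s) = pr 𝔛 h n U s := by
  have := 𝔛.OshProj_levelMap h n
  have h2 : (𝔛.OshProj h (n + 1) ≫ 𝔛.levelMap h n).hom.app (op U) = (𝔛.OshProj h n).hom.app (op U) := by rw [this]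
  exact congrArg (fun t => CommRingCat.Hom.hom t s) h2

/-- The functor of sections over `U`, to types. -/
abbrev secFun (U : (𝔛.X 0).Opens) : Sheaf (Opens.grothendieckTopology (𝔛.X 0)) CommRingCat.{u} ⥤ Type u :=
  sheafToPresheaf _ _ ⋙ (evaluation _ _).obj (op U) ⋙ forget CommRingCat.{u}

/-- Sections over `U` are the limit of sections of the levels. -/
def isLimitSec (U : (𝔛.X 0).Opens) : IsLimit ((secFun U).mapCone (limit.cone (𝔛.levelRing h))) :=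
  isLimitOfPreserves _ (limit.isLimit _)

theorem sec_ext {U : (𝔛.X 0).Opens} {s t : Sec 𝔛 h U} (H : ∀ n, pr 𝔛 h n U s = pr 𝔛 h n U t) : s = t := by
  refine Concrete.isLimit_ext _ (isLimitSec h U) s t ?_
  rintro ⟨n⟩
  exact H n

theorem exists_sec (U : (𝔛.X 0).Opens) (y : ∀ n, Γ(𝔛.X n, 𝔛.lvU h n U)) (hy : ∀ n, tr 𝔛 h n U (y (n + 1)) = y n) :
    ∃ s : Sec 𝔛 h U, ∀ n, pr 𝔛 h n U s = y n := by
  let c : Cone (𝔛.levelRing h ⋙ secFun U) :=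
    { pt := PUnit
      π := NatTrans.ofOpSequence (fun n => ↾fun _ => y n) (fun n => by
        ext x
        simp only [Functor.const_obj_obj, Functor.const_obj_map, Category.id_comp, Functor.comp_obj,
          Functor.comp_map, Sys.levelRing_map_succ]
        exact (hy n).symm) }
  refine ⟨(isLimitSec h U).lift c PUnit.unit, fun n => ?_⟩
  exact ConcreteCategory.congr_hom ((isLimitSec h U).fac c (op n)) PUnit.unit

theorem pr_res (n : ℕ) {U V : (𝔛.X 0).Opens} (i : V ≤ U) (s : Sec 𝔛 h U) :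
    pr 𝔛 h n V (res 𝔛 h i s) = lres 𝔛 h n i (pr 𝔛 h n U s) := by
  have := (𝔛.OshProj h n).hom.naturality (homOfLE i).op
  exact congrArg (fun t => CommRingCat.Hom.hom t s) this

theorem res_res {U V W : (𝔛.X 0).Opens} (i : V ≤ U) (j : W ≤ V) (s : Sec 𝔛 h U) :
    res 𝔛 h j (res 𝔛 h i s) = res 𝔛 h (j.trans i) s :=
  FBlow.IdealSh.map_comp_apply i j s

theorem res_self {U : (𝔛.X 0).Opens} (i : U ≤ U) (s : Sec 𝔛 h U) : res 𝔛 h i s = s :=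
  FBlow.IdealSh.map_id_apply i s

theorem lres_lres (n : ℕ) {U V W : (𝔛.X 0).Opens} (i : V ≤ U) (j : W ≤ V) (s : Γ(𝔛.X n, 𝔛.lvU h n U)) :
    lres 𝔛 h n j (lres 𝔛 h n i s) = lres 𝔛 h n (j.trans i) s := by
  change (𝔛.X n).presheaf.map _ ((𝔛.X n).presheaf.map _ s) = (𝔛.X n).presheaf.map _ s
  rw [← CategoryTheory.comp_apply, ← Functor.map_comp]
  rfl

theorem tr_lres (n : ℕ) {U V : (𝔛.X 0).Opens} (i : V ≤ U) (s : Γ(𝔛.X (n + 1), 𝔛.lvU h (n + 1) U)) :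
    tr 𝔛 h n V (lres 𝔛 h (n + 1) i s) = lres 𝔛 h n i (tr 𝔛 h n U s) := by
  have e : (𝔛.X (n + 1)).presheaf.map (homOfLE (FBlow.lvU_mono 𝔛 h (n + 1) i)).op ≫
        (𝔛.ι n).appLE (𝔛.lvU h (n + 1) V) (𝔛.lvU h n V) (𝔛.lvU_le h n V) =
      (𝔛.ι n).appLE (𝔛.lvU h (n + 1) U) (𝔛.lvU h n U) (𝔛.lvU_le h n U) ≫
        (𝔛.X n).presheaf.map (homOfLE (FBlow.lvU_mono 𝔛 h n i)).op := by
    rw [Scheme.Hom.appLE_map, Scheme.Hom.map_appLE]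
  exact congrArg (fun t => CommRingCat.Hom.hom t s) e

/-- Sections that agree locally agree. -/
theorem sec_ext_local {U : (𝔛.X 0).Opens} {s t : Sec 𝔛 h U}
    (H : ∀ x ∈ U, ∃ (V : (𝔛.X 0).Opens) (i : V ≤ U), x ∈ V ∧ res 𝔛 h i s = res 𝔛 h i t) : s = t := by
  choose V i hx e using H
  refine TopCat.Sheaf.eq_of_locally_eq' (𝔛.Osh h) (fun x : U => V x.1 x.2) U (fun x => homOfLE (i x.1 x.2))
    (fun x hx' => Opens.mem_iSup.mpr ⟨⟨x, hx'⟩, hx x hx'⟩) s t fun x => ?_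
  exact e x.1 x.2

section Maps

variable {𝔜 : FSch.Sys.{u}} (f : 𝔛 ⟶ 𝔜) (h𝔜 : 𝔜.IsFormal)

/-- The preimage of an open of the common space. -/
abbrev pre (U : (𝔜.X 0).Opens) : (𝔛.X 0).Opens := ((f : Hom 𝔛 𝔜).app 0) ⁻¹ᵁ U

/-- The map on sections of a morphism of formal systems. -/
def sh (U : (𝔜.X 0).Opens) : Sec 𝔜 h𝔜 U →+* Sec 𝔛 h (pre f U) :=
  ((Hom.sharp f h h𝔜).hom.app (op U)).hom

/-- The map on sections of the `n`-th level. -/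
def lsh (n : ℕ) (U : (𝔜.X 0).Opens) : Γ(𝔜.X n, 𝔜.lvU h𝔜 n U) →+* Γ(𝔛.X n, 𝔛.lvU h n (pre f U)) :=
  (((f : Hom 𝔛 𝔜).app n).appLE (𝔜.lvU h𝔜 n U) (𝔛.lvU h n (pre f U)) (Hom.lvU_preimage f h h𝔜 n U).ge).hom

theorem pr_sh (n : ℕ) (U : (𝔜.X 0).Opens) (s : Sec 𝔜 h𝔜 U) :
    pr 𝔛 h n (pre f U) (sh h f h𝔜 U s) = lsh h f h𝔜 n U (pr 𝔜 h𝔜 n U s) := by
  have e := Hom.sharp_proj f h h𝔜 n
  have e2 : (Hom.sharp f h h𝔜 ≫ (TopCat.Sheaf.pushforward CommRingCat.{u} ((f : Hom 𝔛 𝔜).app 0).base).map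
      (𝔛.OshProj h n)).hom.app (op U) = (𝔜.OshProj h𝔜 n ≫ Hom.levelPush f h h𝔜 n).hom.app (op U) := by rw [e]
  exact congrArg (fun t => CommRingCat.Hom.hom t s) e2

theorem sh_res {U V : (𝔜.X 0).Opens} (i : V ≤ U) (s : Sec 𝔜 h𝔜 U) :
    sh h f h𝔜 V (res 𝔜 h𝔜 i s) = res 𝔛 h (show pre f V ≤ pre f U from fun _ hx => i hx) (sh h f h𝔜 U s) := by
  have := (Hom.sharp f h h𝔜).hom.naturality (homOfLE i).op
  exact congrArg (fun t => CommRingCat.Hom.hom t s) this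

end Maps

section ToScheme

variable {Y : Scheme.{u}} (p : ∀ n, 𝔛.X n ⟶ Y) (hp : ∀ n, 𝔛.ι n ≫ p (n + 1) = p n)

/-- The map on sections of a compatible family of morphisms to a scheme. -/
def ssh (U : Y.Opens) : Γ(Y, U) →+* Sec 𝔛 h (p 0 ⁻¹ᵁ U) :=
  ((schSharp 𝔛 h p hp).hom.app (op U)).hom

/-- The map on sections of the `n`-th level. -/
def lssh (n : ℕ) (U : Y.Opens) : Γ(Y, U) →+* Γ(𝔛.X n, 𝔛.lvU h n (p 0 ⁻¹ᵁ U)) :=
  ((p n).appLE U (𝔛.lvU h n (p 0 ⁻¹ᵁ U)) (lvU_p 𝔛 h p hp n U).ge).hom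

theorem pr_ssh (n : ℕ) (U : Y.Opens) (s : Γ(Y, U)) :
    pr 𝔛 h n (p 0 ⁻¹ᵁ U) (ssh h p hp U s) = lssh h p hp n U s := by
  have e := schSharp_proj 𝔛 h p hp n
  have e2 : (schSharp 𝔛 h p hp ≫ (TopCat.Sheaf.pushforward CommRingCat.{u} (p 0).base).map (𝔛.OshProj h n)).hom.app (op U) =
    (schLevel 𝔛 h p hp n).hom.app (op U) := by rw [e]
  exact congrArg (fun t => CommRingCat.Hom.hom t s) e2

theorem ssh_res {U V : Y.Opens} (i : V ≤ U) (s : Γ(Y, U)) :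
    ssh h p hp V (Y.presheaf.map (homOfLE i).op s) =
      res 𝔛 h (show p 0 ⁻¹ᵁ V ≤ p 0 ⁻¹ᵁ U from fun _ hx => i hx) (ssh h p hp U s) := by
  have := (schSharp 𝔛 h p hp).hom.naturality (homOfLE i).op
  exact congrArg (fun t => CommRingCat.Hom.hom t s) this

end ToScheme

section Unit

theorem isUnit_of_le_basicOpen {X : Scheme.{u}} {U : X.Opens} (f : Γ(X, U)) (hf : U ≤ X.basicOpen f) : IsUnit f :=
  X.toLocallyRingedSpace.toRingedSpace.isUnit_of_isUnit_germ U f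
    (fun x hx => (X.mem_basicOpen f x hx).1 (hf hx))

theorem gInv_zero : 𝔛.gInv h 0 = 𝟙 _ := by
  have := 𝔛.toX_base_gInv h 0
  exact (Category.id_comp _).symm.trans this

theorem lvU_zero (U : (𝔛.X 0).Opens) : 𝔛.lvU h 0 U = U := by
  rw [Sys.lvU, gInv_zero]
  rfl

theorem gInv_toX (n : ℕ) (x : 𝔛.X 0) : 𝔛.gInv h n ((𝔛.toX n) x) = x :=
  ConcreteCategory.congr_hom (𝔛.toX_base_gInv h n) x

theorem toX_gInv (n : ℕ) (z : 𝔛.X n) : (𝔛.toX n) (𝔛.gInv h n z) = z :=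
  ConcreteCategory.congr_hom (𝔛.gInv_toX_base h n) z

theorem gInv_ι (n : ℕ) (z : 𝔛.X n) : 𝔛.gInv h (n + 1) ((𝔛.ι n) z) = 𝔛.gInv h n z :=
  ConcreteCategory.congr_hom (𝔛.ι_base_gInv h n) z

theorem mem_lvU {n : ℕ} {U : (𝔛.X 0).Opens} {z : 𝔛.X n} : z ∈ 𝔛.lvU h n U ↔ 𝔛.gInv h n z ∈ U := Iff.rfl

/-- The map of a level-`n` open back to the common space. -/
def unlv (n : ℕ) (W : (𝔛.X n).Opens) : (𝔛.X 0).Opens := (𝔛.toX n) ⁻¹ᵁ W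

theorem lvU_unlv (n : ℕ) (W : (𝔛.X n).Opens) : 𝔛.lvU h n (unlv (𝔛 := 𝔛) n W) = W := by
  ext z
  change (𝔛.toX n) (𝔛.gInv h n z) ∈ W ↔ z ∈ W
  rw [toX_gInv]

theorem unlv_lvU (n : ℕ) (U : (𝔛.X 0).Opens) : unlv (𝔛 := 𝔛) n (𝔛.lvU h n U) = U := by
  ext x
  change 𝔛.gInv h n ((𝔛.toX n) x) ∈ U ↔ x ∈ U
  rw [gInv_toX]

theorem isUnit_of_isUnit_tr (n : ℕ) (U : (𝔛.X 0).Opens) (y : Γ(𝔛.X (n + 1), 𝔛.lvU h (n + 1) U))
    (hy : IsUnit (tr 𝔛 h n U y)) : IsUnit y := by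
  refine isUnit_of_le_basicOpen y fun z hz => ?_
  obtain ⟨w, rfl⟩ := (h n).2 z
  have h1 := Scheme.basicOpen_of_isUnit _ hy
  rw [tr] at h1
  have h2 := Scheme.basicOpen_appLE (𝔛.ι n) (𝔛.lvU h n U) (𝔛.lvU h (n + 1) U) (𝔛.lvU_le h n U) y
  have h3 : w ∈ 𝔛.lvU h n U := by
    rw [mem_lvU, ← gInv_ι]; exact hz
  have h4 : w ∈ 𝔛.lvU h n U ⊓ (𝔛.ι n) ⁻¹ᵁ ((𝔛.X (n + 1)).basicOpen y) := by
    rw [← h2, h1]; exact h3
  exact h4.2

theorem isUnit_pr (n : ℕ) (U : (𝔛.X 0).Opens) (s : Sec 𝔛 h U) (hs : IsUnit (pr 𝔛 h 0 U s)) : IsUnit (pr 𝔛 h n U s) := by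
  induction n with
  | zero => exact hs
  | succ n ih => exact isUnit_of_isUnit_tr h n U _ (by rw [tr_pr]; exact ih)

theorem isUnit_iff {U : (𝔛.X 0).Opens} (s : Sec 𝔛 h U) : IsUnit s ↔ IsUnit (pr 𝔛 h 0 U s) := by
  refine ⟨fun hs => hs.map _, fun hs => ?_⟩
  choose t ht using fun n => (isUnit_pr h n U s hs).exists_right_inv
  obtain ⟨y, hy⟩ := exists_sec h U t fun n => by
    have h1 : pr 𝔛 h n U s * tr 𝔛 h n U (t (n + 1)) = 1 := by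
      rw [← tr_pr h n U s, ← map_mul, ht, map_one]
    calc tr 𝔛 h n U (t (n + 1)) = (t n * pr 𝔛 h n U s) * tr 𝔛 h n U (t (n + 1)) := by
          rw [mul_comm (t n), ht, one_mul]
      _ = t n := by rw [mul_assoc, h1, mul_one]
  refine IsUnit.of_mul_eq_one y (sec_ext h fun n => ?_)
  rw [map_mul, hy, ht, map_one]

theorem exists_isUnit_res {ι : Type*} (S : Finset ι) {U : (𝔛.X 0).Opens} (s : ι → Sec 𝔛 h U)
    (hs : IsUnit (∑ i ∈ S, s i)) {x : 𝔛.X 0} (hx : x ∈ U) :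
    ∃ i ∈ S, ∃ (V : (𝔛.X 0).Opens) (j : V ≤ U), x ∈ V ∧ IsUnit (res 𝔛 h j (s i)) := by
  have hx' : x ∈ 𝔛.lvU h 0 U := by rw [lvU_zero]; exact hx
  have h0 : IsUnit ((𝔛.X 0).presheaf.germ (𝔛.lvU h 0 U) x hx' (pr 𝔛 h 0 U (∑ i ∈ S, s i))) :=
    (hs.map (pr 𝔛 h 0 U)).map ((𝔛.X 0).presheaf.germ (𝔛.lvU h 0 U) x hx').hom
  obtain ⟨i, hi, hu⟩ : ∃ i ∈ S, IsUnit ((𝔛.X 0).presheaf.germ (𝔛.lvU h 0 U) x hx' (pr 𝔛 h 0 U (s i))) := by
    by_contra hcon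
    push Not at hcon
    have hmem : (𝔛.X 0).presheaf.germ (𝔛.lvU h 0 U) x hx' (pr 𝔛 h 0 U (∑ i ∈ S, s i)) ∈
        IsLocalRing.maximalIdeal ((𝔛.X 0).presheaf.stalk x) := by
      rw [map_sum, map_sum]
      exact Ideal.sum_mem _ fun i hi => (IsLocalRing.mem_maximalIdeal _).2 (hcon i hi)
    exact (IsLocalRing.mem_maximalIdeal _).1 hmem h0
  refine ⟨i, hi, (𝔛.X 0).basicOpen (pr 𝔛 h 0 U (s i)), ?_, ?_, ?_⟩
  · exact ((𝔛.X 0).basicOpen_le _).trans (lvU_zero h U).le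
  · exact ((𝔛.X 0).mem_basicOpen _ x hx').2 hu
  · rw [isUnit_iff, pr_res]
    refine isUnit_of_le_basicOpen _ ?_
    rw [lres]
    have := (𝔛.X 0).basicOpen_res (pr 𝔛 h 0 U (s i))
      (homOfLE (FBlow.lvU_mono 𝔛 h 0 (((𝔛.X 0).basicOpen_le (pr 𝔛 h 0 U (s i))).trans (lvU_zero h U).le))).op
    refine le_trans ?_ this.ge
    rw [lvU_zero]
    exact le_inf le_rfl le_rfl

end Unit

end

end K788.Osh
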