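import Groth.Agent.FBlow.K788.AMap

/-!
# Products of locally generated open ideals
-/

set_option autoImplicit false
set_option linter.unusedVariables false

universe u

open CategoryTheory CategoryTheory.Limits TopologicalSpace Opposite AlgebraicGeometry

namespace K788.Prod

open FSch FBlow K788.Osh K788.IdSh K788.GenL K788.SysB K788.IdMap K788.Restr K788.Aff K788.AffSch K788.UP K788.Inv K788.SpfB
open K788.AffStr K788.Crt K788.AffV K788.CohL K788.ARed K788.LocB K788.LocC K788.Glob K788.CohC K788.LNoeth K788.Lev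
open K788.MapC K788.AMap Groth.Agent.Divis.BlowChart Groth.Agent.Divis.IdealFT Groth.Agent.Fcompl.H552.IdealSpec

section Gn

variable {T : TopCat.{u}} {O : Sheaf (Opens.grothendieckTopology T) CommRingCat.{u}}

theorem map_rs_mono {𝔟 : Ideal (O.obj.obj (op ⊤))} {U V : Opens T} (i : V ≤ U) {s : O.obj.obj (op U)}
    (hs : s ∈ 𝔟.map (rs O (le_top : U ≤ ⊤))) : rs O i s ∈ 𝔟.map (rs O (le_top : V ≤ ⊤)) := by
  have h1 := Ideal.mem_map_of_mem (rs O i) hs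
  rw [Ideal.map_map] at h1
  have h2 : (rs O i).comp (rs O (le_top : U ≤ ⊤)) = rs O (le_top : V ≤ ⊤) := by
    ext t
    exact rs_rs _ _ _
  rwa [h2] at h1

theorem gn_mul (𝔟₁ 𝔟₂ : Ideal (O.obj.obj (op ⊤))) : IdealSh.mul (gn 𝔟₁) (gn 𝔟₂) = gn (𝔟₁ * 𝔟₂) := by
  apply le_antisymm'
  · rw [mul_le_iff]
    intro U a ha b hb
    refine mem_gn.2 fun x hx => ?_
    obtain ⟨V₁, i₁, hx₁, h₁⟩ := mem_gn.1 ha x hx
    obtain ⟨V₂, i₂, hx₂, h₂⟩ := mem_gn.1 hb x hx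
    refine ⟨V₁ ⊓ V₂, inf_le_left.trans i₁, ⟨hx₁, hx₂⟩, ?_⟩
    rw [map_mul, Ideal.map_mul]
    refine Ideal.mul_mem_mul ?_ ?_
    · have := map_rs_mono (inf_le_left : V₁ ⊓ V₂ ≤ V₁) h₁
      rwa [rs_rs] at this
    · have := map_rs_mono (inf_le_right : V₁ ⊓ V₂ ≤ V₂) h₂
      rwa [rs_rs] at this
  · rw [gn_le_iff]
    exact Ideal.mul_le.2 fun a ha b hb => mul_mem_mul (mem_gn_top ha) (mem_gn_top hb)

end Gn

variable {𝔛 𝔛' 𝔜 ℨ 𝔘 𝔚 : FSch.Sys.{u}} {R : Type u} [CommRing R] {I : Ideal R}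
  {w : ∀ n, 𝔛.X n ⟶ Spec (CommRingCat.of R)}

/-- Restriction of a chart. -/
theorem Chart.restrict {h : 𝔛.IsFormal} {hw : AdicOver 𝔛 I w} {J : IdealSh (𝔛.Osh h)} (C : Chart h hw J)
    {h𝔚 : 𝔚.IsFormal} {j : 𝔚 ⟶ 𝔛} (hj : OpenImm j) {k : 𝔚 ⟶ C.sys} (hk : k ≫ C.j = j) :
    (I.map (sg h𝔚 (fun n => (j : Hom 𝔚 𝔛).app n ≫ w n) (hw.comp h (hj.isAdicHom h𝔚 h)).compat)) ^ C.k ≤
        C.𝔟.map (gsMap h𝔚 C.hs k) ∧
      idealMap j h𝔚 h J = gn (O := 𝔚.Osh h𝔚) (C.𝔟.map (gsMap h𝔚 C.hs k)) := by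
  constructor
  · have h2 := Ideal.map_mono (f := gsMap h𝔚 C.hs k) C.hk
    rw [Ideal.map_pow, Ideal.map_map] at h2
    have h3 : sg h𝔚 (fun n => (j : Hom 𝔚 𝔛).app n ≫ w n) (hw.comp h (hj.isAdicHom h𝔚 h)).compat =
        (gsMap h𝔚 C.hs k).comp (sg C.hs (fun n => (C.j : Hom C.sys 𝔛).app n ≫ w n)
          (hw.comp h (C.hj.isAdicHom C.hs h)).compat) := by
      refine sg_comp h𝔚 C.hs k _ _ _ _ fun n => ?_
      have e1 : (k : Hom 𝔚 C.sys).app n ≫ (C.j : Hom C.sys 𝔛).app n = (j : Hom 𝔚 𝔛).app n :=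
        congrArg (fun t : Hom _ _ => t.app n) hk
      rw [← Category.assoc, e1]
    rw [h3]
    exact h2
  · rw [← hk, idealMap_comp h𝔚 C.hs h, C.e, idealMap_gn]
    rfl

theorem LGn.mul {h : 𝔛.IsFormal} {hw : AdicOver 𝔛 I w} {J K : IdealSh (𝔛.Osh h)} (hJ : LGn h hw J) (hK : LGn h hw K) :
    LGn h hw (IdealSh.mul J K) := by
  intro x V₀ hx
  obtain ⟨C, hC, hCle⟩ := hJ x V₀ hx
  obtain ⟨C', hC', hCle'⟩ := hK x (rg C.j C.hj) hC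
  obtain ⟨k, hk⟩ := C.hj.exists_lift C'.hs C'.j fun z => hCle' ⟨z, rfl⟩
  obtain ⟨h1, h2⟩ := Chart.restrict C C'.hj hk
  refine ⟨⟨C'.sys, C'.hs, C'.j, C'.hj, C'.aff, C.𝔟.map (gsMap C'.hs C.hs k) * C'.𝔟, (C.fg.map _).mul C'.fg,
    C.k + C'.k, ?_, ?_⟩, hC', hCle'.trans hCle⟩
  · rw [pow_add]
    exact Ideal.mul_mono h1 C'.hk
  · rw [idealMap_mul, h2, C'.e, gn_mul]

/-- The ideals `E^d J`. -/
noncomputable def mulPow {h : 𝔛.IsFormal} (E J : IdealSh (𝔛.Osh h)) : ℕ → IdealSh (𝔛.Osh h)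
  | 0 => J
  | d + 1 => IdealSh.mul E (mulPow E J d)

theorem LGn.mulPow {h : 𝔛.IsFormal} {hw : AdicOver 𝔛 I w} {E J : IdealSh (𝔛.Osh h)} (hE : LGn h hw E) (hJ : LGn h hw J)
    (d : ℕ) : LGn h hw (mulPow E J d) := by
  induction d with
  | zero => exact hJ
  | succ d ih => exact LGn.mul hE ih

theorem exists_level_mulPow {h : 𝔛.IsFormal} (hI : I.FG) {hw : AdicOver 𝔛 I w} [CompactSpace (𝔛.X 0)]
    {E J : IdealSh (𝔛.Osh h)} (hE : LGn h hw E) (hJ : LGn h hw J) (d : ℕ) :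
    ∃ m₀, ∀ m ≥ m₀, ∃ 𝒵₁ 𝒵₂ : (𝔛.X m).IdealSheafData, IdealFT 𝒵₁ ∧ IdealFT 𝒵₂ ∧ E = ofLevel 𝔛 h m 𝒵₁ ∧
      J = ofLevel 𝔛 h m 𝒵₂ ∧ mulPow E J d = ofLevel 𝔛 h m (𝒵₁ ^ d * 𝒵₂) := by
  obtain ⟨m₁, h₁⟩ := LGn.exists_level hI hE
  obtain ⟨m₂, h₂⟩ := LGn.exists_level hI hJ
  induction d with
  | zero =>
    refine ⟨max m₁ m₂, fun m hm => ?_⟩
    obtain ⟨𝒵₁, f₁, e₁⟩ := h₁ m ((le_max_left _ _).trans hm)
    obtain ⟨𝒵₂, f₂, e₂⟩ := h₂ m ((le_max_right _ _).trans hm)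
    refine ⟨𝒵₁, 𝒵₂, f₁, f₂, e₁, e₂, ?_⟩
    rw [pow_zero, one_mul]
    exact e₂
  | succ d ih =>
    obtain ⟨m₀, h₀⟩ := ih
    obtain ⟨m₃, h₃⟩ := LGn.exists_level hI (LGn.mulPow hE hJ (d + 1))
    refine ⟨max m₀ m₃, fun m hm => ?_⟩
    obtain ⟨𝒵₁, 𝒵₂, f₁, f₂, e₁, e₂, e₃⟩ := h₀ m ((le_max_left _ _).trans hm)
    obtain ⟨𝒵, f, e⟩ := h₃ m ((le_max_right _ _).trans hm)
    refine ⟨𝒵₁, 𝒵₂, f₁, f₂, e₁, e₂, ?_⟩
    have e4 : IdealSh.mul (ofLevel 𝔛 h m 𝒵₁) (ofLevel 𝔛 h m (𝒵₁ ^ d * 𝒵₂)) = ofLevel 𝔛 h m 𝒵 := by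
      rw [← e₁, ← e₃]
      exact e
    rw [e, ofLevel_mul h hI hw e4, pow_succ', mul_assoc]

end K788.Prod
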