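import Groth.Agent.FBlow.K788.IdMap

/-!
# Restriction of formal systems to opens; glueing of morphisms of formal systems
-/

set_option autoImplicit false

universe u

open CategoryTheory CategoryTheory.Limits TopologicalSpace Opposite AlgebraicGeometry

namespace K788.Restr

open FSch FBlow K788.Osh K788.IdSh K788.GenL K788.SysB K788.IdMap

variable {𝔛 𝔜 ℨ 𝔘 : FSch.Sys.{u}}

theorem isFormal_restrictOpen (h : 𝔛.IsFormal) (U : (𝔛.X 0).Opens) : (𝔛.restrictOpen h U).IsFormal := by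
  intro n
  have h1 := (h n).1
  have h2 : Surjective (𝔛.ι n) := ⟨(h n).2⟩
  have e : (𝔛.restrictOpen h U).ι n = (𝔛.X n).homOfLE (𝔛.lvU_le h n U) ≫ ((𝔛.ι n) ∣_ (𝔛.lvU h (n + 1) U)) := rfl
  have : IsIso ((𝔛.X n).homOfLE (𝔛.lvU_le h n U)) := by
    have : (𝔛.X n).homOfLE (𝔛.lvU_le h n U) = (Scheme.isoOfEq _ (𝔛.lvU_succ h n U).symm).hom := by
      rw [← cancel_mono (Scheme.Opens.ι _)]
      simp
    rw [this]; infer_instance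
  have h6 : IsClosedImmersion ((𝔛.X n).homOfLE (𝔛.lvU_le h n U)) := inferInstance
  have h4 : IsClosedImmersion ((𝔛.ι n) ∣_ (𝔛.lvU h (n + 1) U)) := inferInstance
  rw [e]
  refine ⟨@IsClosedImmersion.comp _ _ _ _ _ h6 h4, ?_⟩
  have h5 : Surjective ((𝔛.ι n) ∣_ (𝔛.lvU h (n + 1) U)) :=
    IsZariskiLocalAtTarget.restrict (P := @Surjective) h2 _
  exact h5.1.comp ((𝔛.X n).homOfLE (𝔛.lvU_le h n U)).surjective

theorem openImm_restrictOpenι (h : 𝔛.IsFormal) (U : (𝔛.X 0).Opens) : OpenImm (𝔛.restrictOpenι h U) := fun n =>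
  inferInstanceAs (IsOpenImmersion (𝔛.lvU h n U).ι)

theorem rg_restrictOpenι (h : 𝔛.IsFormal) (U : (𝔛.X 0).Opens) :
    rg (𝔛.restrictOpenι h U) (openImm_restrictOpenι h U) = U := by
  ext x
  change x ∈ Set.range ((𝔛.lvU h 0 U).ι) ↔ x ∈ U
  rw [Scheme.Opens.range_ι, lvU_zero]
  rfl

theorem isFormal_of_isAdicHom {f : 𝔛 ⟶ 𝔜} (hf : IsAdicHom f) (h : 𝔜.IsFormal) : 𝔛.IsFormal := by
  intro n
  have h1 := (h n).1
  have h2 : Surjective (𝔜.ι n) := ⟨(h n).2⟩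
  have h3 : IsClosedImmersion (𝔛.ι n) := MorphismProperty.of_isPullback (P := @IsClosedImmersion) (hf n).flip h1
  have h4 : Surjective (𝔛.ι n) := MorphismProperty.of_isPullback (P := @Surjective) (hf n).flip h2
  exact ⟨h3, h4.1⟩

theorem isAdicHom_pullbackSnd {𝔖 : FSch.Sys.{u}} {f : 𝔛 ⟶ 𝔖} (hf : IsAdicHom f) (g : 𝔜 ⟶ 𝔖) :
    IsAdicHom (pullbackSnd f g) := by
  intro n
  have e : (pullbackSys f g).ι n ≫ pullback.fst ((f : Hom 𝔛 𝔖).app (n + 1)) ((g : Hom 𝔜 𝔖).app (n + 1)) =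
      pullback.fst ((f : Hom 𝔛 𝔖).app n) ((g : Hom 𝔜 𝔖).app n) ≫ 𝔛.ι n := pullback.lift_fst _ _ _
  have e' : (pullbackSys f g).ι n ≫ pullback.snd ((f : Hom 𝔛 𝔖).app (n + 1)) ((g : Hom 𝔜 𝔖).app (n + 1)) =
      pullback.snd ((f : Hom 𝔛 𝔖).app n) ((g : Hom 𝔜 𝔖).app n) ≫ 𝔜.ι n := pullback.lift_snd _ _ _
  have h1 : IsPullback (pullback.fst ((f : Hom 𝔛 𝔖).app n) ((g : Hom 𝔜 𝔖).app n))
      (pullback.snd ((f : Hom 𝔛 𝔖).app n) ((g : Hom 𝔜 𝔖).app n)) ((f : Hom 𝔛 𝔖).app n) ((g : Hom 𝔜 𝔖).app n) :=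
    IsPullback.of_hasPullback _ _
  have h2 : IsPullback (pullback.fst ((f : Hom 𝔛 𝔖).app (n + 1)) ((g : Hom 𝔜 𝔖).app (n + 1)))
      (pullback.snd ((f : Hom 𝔛 𝔖).app (n + 1)) ((g : Hom 𝔜 𝔖).app (n + 1)))
      ((f : Hom 𝔛 𝔖).app (n + 1)) ((g : Hom 𝔜 𝔖).app (n + 1)) := IsPullback.of_hasPullback _ _
  have h3 := h1.paste_horiz (hf n)
  refine IsPullback.of_right ?_ e' h2
  rw [e, ← (g : Hom 𝔜 𝔖).comm n]
  exact h3

theorem isAdicHom_pullbackFst {𝔖 : FSch.Sys.{u}} (f : 𝔛 ⟶ 𝔖) {g : 𝔜 ⟶ 𝔖} (hg : IsAdicHom g) :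
    IsAdicHom (pullbackFst f g) := by
  intro n
  have e : (pullbackSys f g).ι n ≫ pullback.fst ((f : Hom 𝔛 𝔖).app (n + 1)) ((g : Hom 𝔜 𝔖).app (n + 1)) =
      pullback.fst ((f : Hom 𝔛 𝔖).app n) ((g : Hom 𝔜 𝔖).app n) ≫ 𝔛.ι n := pullback.lift_fst _ _ _
  have e' : (pullbackSys f g).ι n ≫ pullback.snd ((f : Hom 𝔛 𝔖).app (n + 1)) ((g : Hom 𝔜 𝔖).app (n + 1)) =
      pullback.snd ((f : Hom 𝔛 𝔖).app n) ((g : Hom 𝔜 𝔖).app n) ≫ 𝔜.ι n := pullback.lift_snd _ _ _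
  have h1 : IsPullback (pullback.snd ((f : Hom 𝔛 𝔖).app n) ((g : Hom 𝔜 𝔖).app n))
      (pullback.fst ((f : Hom 𝔛 𝔖).app n) ((g : Hom 𝔜 𝔖).app n)) ((g : Hom 𝔜 𝔖).app n) ((f : Hom 𝔛 𝔖).app n) :=
    (IsPullback.of_hasPullback _ _).flip
  have h2 : IsPullback (pullback.snd ((f : Hom 𝔛 𝔖).app (n + 1)) ((g : Hom 𝔜 𝔖).app (n + 1)))
      (pullback.fst ((f : Hom 𝔛 𝔖).app (n + 1)) ((g : Hom 𝔜 𝔖).app (n + 1)))
      ((g : Hom 𝔜 𝔖).app (n + 1)) ((f : Hom 𝔛 𝔖).app (n + 1)) := (IsPullback.of_hasPullback _ _).flip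
  have h3 := h1.paste_horiz (hg n)
  refine IsPullback.of_right ?_ e h2
  rw [e', ← (f : Hom 𝔛 𝔖).comm n]
  exact h3

theorem pullbackSys_condition' {𝔖 : FSch.Sys.{u}} (f : 𝔛 ⟶ 𝔖) (g : 𝔜 ⟶ 𝔖) :
    pullbackFst f g ≫ f = pullbackSnd f g ≫ g := by
  apply Hom.ext
  funext n
  exact pullback.condition

theorem openImm_pullbackFst {𝔖 : FSch.Sys.{u}} (f : 𝔛 ⟶ 𝔖) {g : 𝔜 ⟶ 𝔖} (hg : OpenImm g) :
    OpenImm (pullbackFst f g) := fun n => by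
  have := hg n
  exact (inferInstance : IsOpenImmersion (pullback.fst ((f : Hom 𝔛 𝔖).app n) ((g : Hom 𝔜 𝔖).app n)))

theorem openImm_pullbackSnd {𝔖 : FSch.Sys.{u}} {f : 𝔛 ⟶ 𝔖} (hf : OpenImm f) (g : 𝔜 ⟶ 𝔖) :
    OpenImm (pullbackSnd f g) := fun n => by
  have := hf n
  exact (inferInstance : IsOpenImmersion (pullback.snd ((f : Hom 𝔛 𝔖).app n) ((g : Hom 𝔜 𝔖).app n)))

theorem mem_rg_pullbackFst {𝔖 : FSch.Sys.{u}} (f : 𝔛 ⟶ 𝔖) {g : 𝔜 ⟶ 𝔖} (hg : OpenImm g) {x : 𝔛.X 0} :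
    x ∈ rg (pullbackFst f g) (openImm_pullbackFst f hg) ↔ ((f : Hom 𝔛 𝔖).app 0) x ∈ rg g hg := by
  constructor
  · rintro ⟨y, rfl⟩
    have key : ∀ z : ↥(pullback ((f : Hom 𝔛 𝔖).app 0) ((g : Hom 𝔜 𝔖).app 0)),
        ((g : Hom 𝔜 𝔖).app 0) ((pullback.snd ((f : Hom 𝔛 𝔖).app 0) ((g : Hom 𝔜 𝔖).app 0)) z) =
        ((f : Hom 𝔛 𝔖).app 0) ((pullback.fst ((f : Hom 𝔛 𝔖).app 0) ((g : Hom 𝔜 𝔖).app 0)) z) := fun z => by
      rw [← Scheme.Hom.comp_apply, ← Scheme.Hom.comp_apply, pullback.condition]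
    exact ⟨_, key y⟩
  · rintro ⟨y, hy⟩
    obtain ⟨z, hz, -⟩ := Scheme.Pullback.exists_preimage_pullback x y hy.symm
    exact ⟨z, hz⟩

/-- Glueing lifts of a morphism of systems: if lifts are unique on all open subsystems and exist locally, there is a
unique global lift. -/
theorem existsUnique_lift_sys (h𝔜 : 𝔜.IsFormal) (c : ℨ ⟶ 𝔛) (g : 𝔜 ⟶ 𝔛)
    (uniq : ∀ (𝔚 : FSch.Sys.{u}) (_ : 𝔚.IsFormal) (j : 𝔚 ⟶ 𝔜) (_ : OpenImm j) (k₁ k₂ : 𝔚 ⟶ ℨ),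
      k₁ ≫ c = j ≫ g → k₂ ≫ c = j ≫ g → k₁ = k₂)
    (ex : ∀ y : 𝔜.X 0, ∃ (𝔚 : FSch.Sys.{u}) (_ : 𝔚.IsFormal) (j : 𝔚 ⟶ 𝔜) (hj : OpenImm j), y ∈ rg j hj ∧
      ∃ k : 𝔚 ⟶ ℨ, k ≫ c = j ≫ g) : ∃! k : 𝔜 ⟶ ℨ, k ≫ c = g := by
  choose 𝔚 h𝔚 j hj hy k hk using ex
  let 𝒰 : ∀ n, (𝔜.X n).OpenCover := fun n => {
    I₀ := 𝔜.X 0, X i := (𝔚 i).X n, f i := (j i : Hom _ _).app n,
    mem₀ := by
      rw [Scheme.presieve₀_mem_precoverage_iff]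
      exact ⟨fun x ↦ ⟨𝔜.gInv h𝔜 n x, (mem_range_app_iff (h𝔚 _) h𝔜 (j _) n x).2 (hy _)⟩, fun i => hj i n⟩ }
  have hg : ∀ n x y, pullback.fst ((𝒰 n).f x) ((𝒰 n).f y) ≫ (k x : Hom _ _).app n =
      pullback.snd _ _ ≫ (k y : Hom _ _).app n := by
    intro n x y
    have e1 : OpenImm (pullbackFst (j x) (j y)) := openImm_pullbackFst _ (hj y)
    have hF : (pullbackSys (j x) (j y)).IsFormal :=
      isFormal_of_isAdicHom (isAdicHom_pullbackFst (j x) ((hj y).isAdicHom (h𝔚 y) h𝔜)) (h𝔚 x)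
    have e2 := uniq _ hF (pullbackFst (j x) (j y) ≫ j x) (e1.comp (hj x)) (pullbackFst (j x) (j y) ≫ k x)
      (pullbackSnd (j x) (j y) ≫ k y) (by rw [Category.assoc, hk, Category.assoc])
      (by rw [Category.assoc, hk, pullbackSys_condition', Category.assoc])
    exact congrArg (fun t : Hom _ _ => t.app n) e2
  let K : 𝔜 ⟶ ℨ := ⟨fun n => (𝒰 n).glueMorphisms _ (hg n), fun n => by
    refine (𝒰 n).hom_ext _ _ fun i => ?_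
    rw [Scheme.Cover.ι_glueMorphisms_assoc]
    have e1 : (𝒰 n).f i ≫ 𝔜.ι n = (𝔚 i).ι n ≫ (𝒰 (n + 1)).f i := (j i : Hom _ _).comm n
    rw [reassoc_of% e1, Scheme.Cover.ι_glueMorphisms]
    exact (k i : Hom _ _).comm n⟩
  have hK : ∀ i, j i ≫ K = k i := by
    intro i
    apply Hom.ext
    funext n
    exact (𝒰 n).ι_glueMorphisms _ (hg n) i
  have hKc : K ≫ c = g := by
    apply Hom.ext
    funext n
    refine (𝒰 n).hom_ext _ _ fun i => ?_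
    exact congrArg (fun t : Hom _ _ => t.app n) (show j i ≫ K ≫ c = j i ≫ g by rw [← Category.assoc, hK, hk])
  refine ⟨K, hKc, fun K' hK' => ?_⟩
  refine uniq 𝔜 h𝔜 (𝟙 𝔜) (fun n => ?_) K' K (by rw [hK', Category.id_comp]) (by rw [hKc, Category.id_comp])
  exact inferInstanceAs (IsOpenImmersion (𝟙 (𝔜.X n)))

end K788.Restr
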