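import Groth.Agent.FBlow.K788.Inv

/-!
# Formal spectra as completions
-/

set_option autoImplicit false

universe u

open CategoryTheory CategoryTheory.Limits TopologicalSpace Opposite AlgebraicGeometry

namespace K788.SpfB

open FSch FBlow K788.Inv Groth.Agent.Fcompl.H552.IdealSpec

theorem idealSpec_pow {A : Type u} [CommRing A] (I : Ideal A) (n : ℕ) : idealSpec A (I ^ n) = idealSpec A I ^ n := by
  ext1
  funext W
  have h1 := ideal_idealSpec_pow A (I ^ n) 1 W
  rw [pow_one, pow_one] at h1
  rw [h1, ideal_idealSpec_pow]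

theorem isCompl_spf (A : Type u) [CommRing A] (I : Ideal A) :
    IsCompl (𝔛 := spf A I) (spfToSpec A I) (idealSpec A I) := by
  refine ⟨spfToSpec_comm A I, fun n => ?_, fun n => ?_⟩
  · exact IsClosedImmersion.spec_of_surjective _ Ideal.Quotient.mk_surjective
  · rw [← idealSpec_pow]
    rfl

theorem isPullback_spf {A B : Type u} [CommRing A] [CommRing B] {I : Ideal A} {K : Ideal B} {φ : B →+* A}
    (h : K ≤ I.comap φ) (e : K.map φ = I) (n : ℕ) :
    IsPullback (spfToSpec A I n) ((spfMap I K φ h : Hom (spf A I) (spf B K)).app n) (Spec.map (CommRingCat.ofHom φ))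
      (spfToSpec B K n) := by
  have h1 := (isCompl_spf A I).ci n
  have h2 := (isCompl_spf B K).ci n
  refine isPullback_of_isClosedImmersion _ _ _ _ ?_ ?_
  · change Spec.map _ ≫ Spec.map _ = Spec.map _ ≫ Spec.map _
    rw [← Spec.map_comp, ← Spec.map_comp, ← CommRingCat.ofHom_comp, ← CommRingCat.ofHom_comp]
    rfl
  · rw [(isCompl_spf A I).ker, (isCompl_spf B K).ker, Groth.Agent.Divis.IdealComap.comap_pow,
      Groth.Agent.S3873.result, e]

theorem isAdmBlowUp_spf {R : Type u} [CommRing R] {I : Ideal R} {A A' : Type u} [CommRing A] [CommRing A'] [Algebra R A]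
    [Algebra R A'] [Algebra A A'] [IsScalarTower R A A'] {𝔞 : Ideal A}
    (hq : BlowUp.IsBlowUp (Spec.map (CommRingCat.ofHom (algebraMap A A'))) (idealSpec A 𝔞))
    (hGd : Gd A (I.map (algebraMap R A))) {k : ℕ} (hk : (I.map (algebraMap R A)) ^ k ≤ 𝔞)
    (hX : (spf A (I.map (algebraMap R A))).IsFormal) (h' : (spf A' (I.map (algebraMap R A'))).IsFormal)
    (hle : (I.map (algebraMap R A)) ≤ (I.map (algebraMap R A')).comap (algebraMap A A')) :
    IsAdmBlowUp (spfMap (I.map (algebraMap R A')) (I.map (algebraMap R A)) (algebraMap A A') hle) h' hX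
      (schIdealMap (spf A (I.map (algebraMap R A))) hX (spfToSpec A (I.map (algebraMap R A)))
        (spfToSpec_comm A (I.map (algebraMap R A))) (IdealSh.ofData (idealSpec A 𝔞))) := by
  refine isAdmBlowUp_of_isPullback h' hGd (k := k) hk hq hX _ (isCompl_spf A _) _
    (spfToSpec_comm _ _) (isPullback_spf hle ?_)
  rw [Ideal.map_map, ← IsScalarTower.algebraMap_eq]

end K788.SpfB
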