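import Groth.Agent.FBlow.K788.Osh
import Groth.Agent.FBlow.K788.GenL

/-!
# Formal systems: adic morphisms, open immersions of systems, sections over opens
-/

set_option autoImplicit false

universe u

open CategoryTheory CategoryTheory.Limits TopologicalSpace Opposite AlgebraicGeometry

namespace K788.SysB

open FSch K788.Osh

variable {𝔛 𝔜 ℨ 𝔘 : FSch.Sys.{u}}

theorem isAdicHom_comp {f : 𝔛 ⟶ 𝔜} {g : 𝔜 ⟶ ℨ} (hf : IsAdicHom f) (hg : IsAdicHom g) : IsAdicHom (f ≫ g) :=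
  fun n => (hf n).paste_vert (hg n)

theorem isAdicHom_of_comp {f : 𝔛 ⟶ 𝔜} {g : 𝔜 ⟶ ℨ} (hg : IsAdicHom g) (hfg : IsAdicHom (f ≫ g)) : IsAdicHom f :=
  fun n => IsPullback.of_bot (hfg n) ((f : Hom 𝔛 𝔜).comm n).symm (hg n)

theorem isAdicHom_id : IsAdicHom (𝟙 𝔛) := fun n => by
  change IsPullback (𝔛.ι n) (𝟙 (𝔛.X n)) (𝟙 (𝔛.X (n + 1))) (𝔛.ι n)
  exact IsPullback.of_vert_isIso ⟨by simp⟩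

/-- Open immersions of systems (levelwise). -/
def OpenImm (j : 𝔘 ⟶ 𝔛) : Prop := ∀ n, IsOpenImmersion ((j : Hom 𝔘 𝔛).app n)

/-- The open subset of the common space that is the image. -/
noncomputable def rg (j : 𝔘 ⟶ 𝔛) (hj : OpenImm j) : (𝔛.X 0).Opens :=
  haveI := hj 0
  ((j : Hom 𝔘 𝔛).app 0).opensRange

theorem mem_rg {j : 𝔘 ⟶ 𝔛} {hj : OpenImm j} {x : 𝔛.X 0} : x ∈ rg j hj ↔ ∃ y, ((j : Hom 𝔘 𝔛).app 0) y = x := Iff.rfl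

/-- Compatibility of a morphism with `toX` on points. -/
theorem toX_app (f : 𝔛 ⟶ 𝔜) (n : ℕ) (x : 𝔛.X 0) :
    ((f : Hom 𝔛 𝔜).app n) ((𝔛.toX n) x) = (𝔜.toX n) (((f : Hom 𝔛 𝔜).app 0) x) := by
  rw [← Scheme.Hom.comp_apply, Hom.toX_comm, Scheme.Hom.comp_apply]

theorem app_eq (h𝔛 : 𝔛.IsFormal) (f : 𝔛 ⟶ 𝔜) (n : ℕ) (z : 𝔛.X n) :
    ((f : Hom 𝔛 𝔜).app n) z = (𝔜.toX n) (((f : Hom 𝔛 𝔜).app 0) (𝔛.gInv h𝔛 n z)) := by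
  rw [← toX_app, toX_gInv]

theorem gInv_app (h𝔛 : 𝔛.IsFormal) (h𝔜 : 𝔜.IsFormal) (f : 𝔛 ⟶ 𝔜) (n : ℕ) (z : 𝔛.X n) :
    𝔜.gInv h𝔜 n (((f : Hom 𝔛 𝔜).app n) z) = ((f : Hom 𝔛 𝔜).app 0) (𝔛.gInv h𝔛 n z) := by
  rw [app_eq h𝔛, gInv_toX]

theorem mem_range_app_iff (h𝔘 : 𝔘.IsFormal) (h𝔛 : 𝔛.IsFormal) (j : 𝔘 ⟶ 𝔛) (n : ℕ) (z : 𝔛.X n) :
    z ∈ Set.range ((j : Hom 𝔘 𝔛).app n) ↔ 𝔛.gInv h𝔛 n z ∈ Set.range ((j : Hom 𝔘 𝔛).app 0) := by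
  constructor
  · rintro ⟨y, rfl⟩
    exact ⟨𝔘.gInv h𝔘 n y, (gInv_app h𝔘 h𝔛 j n y).symm⟩
  · rintro ⟨y, hy⟩
    refine ⟨(𝔘.toX n) y, ?_⟩
    rw [toX_app, hy, toX_gInv]

theorem opensRange_app (h𝔘 : 𝔘.IsFormal) (h𝔛 : 𝔛.IsFormal) (j : 𝔘 ⟶ 𝔛) (hj : OpenImm j) (n : ℕ) :
    haveI := hj n
    ((j : Hom 𝔘 𝔛).app n).opensRange = 𝔛.lvU h𝔛 n (rg j hj) := by
  have := hj n
  ext z
  exact mem_range_app_iff h𝔘 h𝔛 j n z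

theorem OpenImm.isAdicHom (h𝔘 : 𝔘.IsFormal) (h𝔛 : 𝔛.IsFormal) {j : 𝔘 ⟶ 𝔛} (hj : OpenImm j) : IsAdicHom j := by
  intro n
  have := hj n
  have := hj (n + 1)
  have hc : 𝔘.ι n ≫ (j : Hom 𝔘 𝔛).app (n + 1) = (j : Hom 𝔘 𝔛).app n ≫ 𝔛.ι n := ((j : Hom 𝔘 𝔛).comm n).symm
  have hr : ∀ s : PullbackCone ((j : Hom 𝔘 𝔛).app (n + 1)) (𝔛.ι n),
      Set.range s.snd ⊆ Set.range ((j : Hom 𝔘 𝔛).app n) := by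
    intro s x hx
    obtain ⟨y, rfl⟩ := hx
    rw [mem_range_app_iff h𝔘 h𝔛, ← gInv_ι, ← Scheme.Hom.comp_apply, ← s.condition, Scheme.Hom.comp_apply,
      gInv_app h𝔘 h𝔛]
    exact ⟨_, rfl⟩
  refine ⟨⟨hc⟩, ⟨PullbackCone.IsLimit.mk _ (fun s => IsOpenImmersion.lift ((j : Hom 𝔘 𝔛).app n) s.snd (hr s)) ?_ ?_ ?_⟩⟩
  · intro s
    rw [← cancel_mono ((j : Hom 𝔘 𝔛).app (n + 1)), Category.assoc, hc, IsOpenImmersion.lift_fac_assoc, s.condition]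
  · intro s
    exact IsOpenImmersion.lift_fac _ _ _
  · intro s m _ h2
    rw [← cancel_mono ((j : Hom 𝔘 𝔛).app n), IsOpenImmersion.lift_fac]
    exact h2

theorem OpenImm.cancel {j : 𝔘 ⟶ 𝔛} (hj : OpenImm j) {k₁ k₂ : 𝔜 ⟶ 𝔘} (e : k₁ ≫ j = k₂ ≫ j) : k₁ = k₂ := by
  apply Hom.ext
  funext n
  have := hj n
  rw [← cancel_mono ((j : Hom 𝔘 𝔛).app n)]
  exact congrArg (fun t : Hom 𝔜 𝔛 => t.app n) e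

theorem OpenImm.exists_lift (h𝔜 : 𝔜.IsFormal) {j : 𝔘 ⟶ 𝔛} (hj : OpenImm j) (g : 𝔜 ⟶ 𝔛)
    (hg : ∀ y, ((g : Hom 𝔜 𝔛).app 0) y ∈ Set.range ((j : Hom 𝔘 𝔛).app 0)) : ∃ k : 𝔜 ⟶ 𝔘, k ≫ j = g := by
  have hr : ∀ n, Set.range ((g : Hom 𝔜 𝔛).app n) ⊆ Set.range ((j : Hom 𝔘 𝔛).app n) := by
    rintro n _ ⟨z, rfl⟩
    obtain ⟨u, hu⟩ := hg (𝔜.gInv h𝔜 n z)
    refine ⟨(𝔘.toX n) u, ?_⟩
    rw [toX_app, hu, ← app_eq h𝔜]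
  refine ⟨⟨fun n => haveI := hj n; IsOpenImmersion.lift ((j : Hom 𝔘 𝔛).app n) ((g : Hom 𝔜 𝔛).app n) (hr n),
    fun n => ?_⟩, ?_⟩
  · have := hj n
    have := hj (n + 1)
    rw [← cancel_mono ((j : Hom 𝔘 𝔛).app (n + 1))]
    rw [Category.assoc, ← (j : Hom 𝔘 𝔛).comm n, Category.assoc, IsOpenImmersion.lift_fac_assoc,
      IsOpenImmersion.lift_fac, (g : Hom 𝔜 𝔛).comm n]
  · apply Hom.ext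
    funext n
    have := hj n
    exact IsOpenImmersion.lift_fac _ _ _

theorem OpenImm.comp {j : 𝔘 ⟶ 𝔛} {k : 𝔛 ⟶ 𝔜} (hj : OpenImm j) (hk : OpenImm k) : OpenImm (j ≫ k) := fun n => by
  have := hj n
  have := hk n
  exact (inferInstance : IsOpenImmersion ((j : Hom 𝔘 𝔛).app n ≫ (k : Hom 𝔛 𝔜).app n))

section Sections

theorem pre_lvU (h𝔘 : 𝔘.IsFormal) (h𝔛 : 𝔛.IsFormal) (j : 𝔘 ⟶ 𝔛) (n : ℕ) (V : (𝔛.X 0).Opens) :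
    𝔘.lvU h𝔘 n (pre j V) = ((j : Hom 𝔘 𝔛).app n) ⁻¹ᵁ (𝔛.lvU h𝔛 n V) := (Hom.lvU_preimage j h𝔘 h𝔛 n V).symm

theorem lsh_bijective (h𝔘 : 𝔘.IsFormal) (h𝔛 : 𝔛.IsFormal) {j : 𝔘 ⟶ 𝔛} (hj : OpenImm j) (n : ℕ)
    {V : (𝔛.X 0).Opens} (hV : V ≤ rg j hj) : Function.Bijective (lsh h𝔘 j h𝔛 n V) := by
  have := hj n
  have hle : 𝔛.lvU h𝔛 n V ≤ ((j : Hom 𝔘 𝔛).app n).opensRange := by
    rw [opensRange_app h𝔘 h𝔛 j hj n]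
    exact FBlow.lvU_mono 𝔛 h𝔛 n hV
  have h1 : IsIso (((j : Hom 𝔘 𝔛).app n).app (𝔛.lvU h𝔛 n V)) := Scheme.Hom.isIso_app _ _ hle
  have h2 : ((j : Hom 𝔘 𝔛).app n).appLE (𝔛.lvU h𝔛 n V) (𝔘.lvU h𝔘 n (pre j V)) (Hom.lvU_preimage j h𝔘 h𝔛 n V).ge =
      ((j : Hom 𝔘 𝔛).app n).app (𝔛.lvU h𝔛 n V) ≫ (𝔘.X n).presheaf.map (eqToHom (pre_lvU h𝔘 h𝔛 j n V)).op := by
    rw [Scheme.Hom.appLE]
    congr 1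
  have h3 : IsIso (((j : Hom 𝔘 𝔛).app n).appLE (𝔛.lvU h𝔛 n V) (𝔘.lvU h𝔘 n (pre j V))
      (Hom.lvU_preimage j h𝔘 h𝔛 n V).ge) := by
    rw [h2]; infer_instance
  exact ConcreteCategory.bijective_of_isIso (((j : Hom 𝔘 𝔛).app n).appLE (𝔛.lvU h𝔛 n V) (𝔘.lvU h𝔘 n (pre j V))
      (Hom.lvU_preimage j h𝔘 h𝔛 n V).ge)

theorem tr_lsh (h𝔛 : 𝔛.IsFormal) (h𝔜 : 𝔜.IsFormal) (f : 𝔛 ⟶ 𝔜) (n : ℕ) (U : (𝔜.X 0).Opens)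
    (s : Γ(𝔜.X (n + 1), 𝔜.lvU h𝔜 (n + 1) U)) :
    tr 𝔛 h𝔛 n (pre f U) (lsh h𝔛 f h𝔜 (n + 1) U s) = lsh h𝔛 f h𝔜 n U (tr 𝔜 h𝔜 n U s) := by
  have e := Hom.levelMap_levelPush f h𝔛 h𝔜 n
  have e2 : (𝔜.levelMap h𝔜 n ≫ Hom.levelPush f h𝔛 h𝔜 n).hom.app (op U) = (Hom.levelPush f h𝔛 h𝔜 (n + 1) ≫
      (TopCat.Sheaf.pushforward CommRingCat.{u} ((f : Hom 𝔛 𝔜).app 0).base).map (𝔛.levelMap h𝔛 n)).hom.app (op U) := by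
    rw [e]
  exact congrArg (fun t => CommRingCat.Hom.hom t s) e2.symm

theorem sh_bijective (h𝔘 : 𝔘.IsFormal) (h𝔛 : 𝔛.IsFormal) {j : 𝔘 ⟶ 𝔛} (hj : OpenImm j)
    {V : (𝔛.X 0).Opens} (hV : V ≤ rg j hj) : Function.Bijective (sh h𝔘 j h𝔛 V) := by
  constructor
  · intro s t e
    refine sec_ext h𝔛 fun n => (lsh_bijective h𝔘 h𝔛 hj n hV).1 ?_
    rw [← pr_sh, ← pr_sh, e]
  · intro t
    choose y hy using fun n => (lsh_bijective h𝔘 h𝔛 hj n hV).2 (pr 𝔘 h𝔘 n _ t)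
    obtain ⟨s, hs⟩ := exists_sec h𝔛 V y fun n => by
      refine (lsh_bijective h𝔘 h𝔛 hj n hV).1 ?_
      rw [← tr_lsh, hy, hy, tr_pr]
    refine ⟨s, sec_ext h𝔘 fun n => ?_⟩
    rw [pr_sh, hs, hy]

theorem sh_comp (h𝔛 : 𝔛.IsFormal) (h𝔜 : 𝔜.IsFormal) (hℨ : ℨ.IsFormal) (f : 𝔛 ⟶ 𝔜) (g : 𝔜 ⟶ ℨ)
    (U : (ℨ.X 0).Opens) (s : Sec ℨ hℨ U) :
    sh h𝔛 (f ≫ g) hℨ U s = sh h𝔛 f h𝔜 (pre g U) (sh h𝔜 g hℨ U s) := by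
  refine sec_ext h𝔛 fun n => ?_
  have e1 := pr_sh h𝔛 (f ≫ g) hℨ n U s
  have e2 := pr_sh h𝔛 f h𝔜 n (pre g U) (sh h𝔜 g hℨ U s)
  rw [pr_sh h𝔜 g hℨ n U s] at e2
  refine e1.trans (Eq.trans ?_ e2.symm)
  have e : ((g : Hom 𝔜 ℨ).app n).appLE (ℨ.lvU hℨ n U) (𝔜.lvU h𝔜 n (pre g U)) (Hom.lvU_preimage g h𝔜 hℨ n U).ge ≫
      ((f : Hom 𝔛 𝔜).app n).appLE (𝔜.lvU h𝔜 n (pre g U)) (𝔛.lvU h𝔛 n (pre f (pre g U)))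
        (Hom.lvU_preimage f h𝔛 h𝔜 n (pre g U)).ge =
      ((f : Hom 𝔛 𝔜).app n ≫ (g : Hom 𝔜 ℨ).app n).appLE (ℨ.lvU hℨ n U) (𝔛.lvU h𝔛 n (pre (f ≫ g) U))
        (Hom.lvU_preimage (f ≫ g) h𝔛 hℨ n U).ge := Scheme.Hom.appLE_comp_appLE _ _ _ _ _ _ _
  exact congrArg (fun t => CommRingCat.Hom.hom t (pr ℨ hℨ n U s)) e.symm

end Sections

end K788.SysB
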