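import Groth.Agent.FBlow.K788.AffSch
import Groth.Agent.S3873

/-!
# The universal property of the base change of a blow-up to a formal system
-/

set_option autoImplicit false

universe u

open CategoryTheory CategoryTheory.Limits TopologicalSpace Opposite AlgebraicGeometry

namespace K788.UP

open FSch FBlow K788.Osh K788.IdSh K788.GenL K788.SysB K788.IdMap K788.Restr K788.Aff K788.AffSch
open Groth.Agent.Divis.BlowChart Groth.Agent.Fcompl.H552.IdealSpec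

variable {𝔛 𝔜 ℨ 𝔘 : FSch.Sys.{u}}

/-- The constant system on a scheme. -/
noncomputable abbrev cst (P : Scheme.{u}) : FSch.Sys.{u} := ⟨fun _ => P, fun _ => 𝟙 P⟩

/-- A compatible family of morphisms as a morphism to the constant system. -/
noncomputable def fam {P : Scheme.{u}} (w : ∀ n, 𝔜.X n ⟶ P) (hw : ∀ n, 𝔜.ι n ≫ w (n + 1) = w n) : 𝔜 ⟶ cst P :=
  ⟨w, fun n => (Category.comp_id _).trans (hw n).symm⟩

/-- The members of the family of a morphism to a constant system. -/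
noncomputable def fm {P : Scheme.{u}} (k : 𝔜 ⟶ cst P) (n : ℕ) : 𝔜.X n ⟶ P := (k : Hom 𝔜 (cst P)).app n

theorem fam_compat {P : Scheme.{u}} (k : 𝔜 ⟶ cst P) (n : ℕ) : 𝔜.ι n ≫ fm k (n + 1) = fm k n :=
  ((k : Hom 𝔜 (cst P)).comm n).symm.trans (Category.comp_id _)

/-- A morphism of schemes as a morphism of constant systems. -/
noncomputable def cstMap {P Q : Scheme.{u}} (q : P ⟶ Q) : cst P ⟶ cst Q :=
  ⟨fun _ => q, fun _ => (Category.comp_id _).trans (Category.id_comp _).symm⟩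

theorem kap_cancel {A : Type u} [CommRing A] (h : 𝔛.IsFormal) {m₁ m₂ : Spec (CommRingCat.of (GS h)) ⟶ Spec (CommRingCat.of A)}
    (e : ∀ n, kap h n ≫ m₁ = kap h n ≫ m₂) : m₁ = m₂ := by
  have h1 : m₁ = Spec.map (CommRingCat.ofHom (Spec.preimage m₁).hom) := (Spec.map_preimage m₁).symm
  have h2 : m₂ = Spec.map (CommRingCat.ofHom (Spec.preimage m₂).hom) := (Spec.map_preimage m₂).symm
  have h3 : (Spec.preimage m₁).hom = (Spec.preimage m₂).hom := by
    refine ringHom_ext h fun n => ?_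
    rw [← h1, ← h2, e]
  rw [h1, h2, h3]

/-- A compatible family landing in an affine open factors through the spectrum of the ring of global sections. -/
theorem exists_factor_kap {P : Scheme.{u}} (h : 𝔜.IsFormal) (k : 𝔜 ⟶ cst P) {W : P.Opens} (hW : IsAffineOpen W)
    (hk : ∀ y : 𝔜.X 0, fm k 0 y ∈ W) :
    ∃ m : Spec (CommRingCat.of (GS h)) ⟶ P, ∀ n, kap h n ≫ m = fm k n := by
  have hr : ∀ n, Set.range (fm k n) ⊆ Set.range hW.fromSpec := by
    rintro n _ ⟨z, rfl⟩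
    have e := app_eq h k n z
    have e2 : ∀ m (x : P), ((cst P).toX m) x = x := by
      intro m
      induction m with
      | zero => intro x; rfl
      | succ m ih =>
        intro x
        change (((cst P).toX m ≫ 𝟙 P : P ⟶ P)) x = x
        rw [Category.comp_id]
        exact ih x
    have e3 : fm k n z = fm k 0 (𝔜.gInv h n z) :=
      e.trans (e2 n _)
    have e4 : fm k n z ∈ (W : Set P) := by
      rw [e3]
      exact hk _
    rw [← hW.range_fromSpec] at e4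
    exact e4
  let l : ∀ n, 𝔜.X n ⟶ Spec (CommRingCat.of Γ(P, W)) := fun n =>
    IsOpenImmersion.lift hW.fromSpec (fm k n) (hr n)
  have hl : ∀ n, l n ≫ hW.fromSpec = fm k n := fun n => IsOpenImmersion.lift_fac _ _ _
  have hlc : ∀ n, 𝔜.ι n ≫ l (n + 1) = l n := by
    intro n
    rw [← cancel_mono hW.fromSpec, Category.assoc, hl, hl]
    exact fam_compat k n
  obtain ⟨β, hβ⟩ := exists_ringHom h l hlc
  refine ⟨Spec.map (CommRingCat.ofHom β) ≫ hW.fromSpec, fun n => ?_⟩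
  rw [← Category.assoc, hβ, hl]

theorem isEff_comap_of_span {A B : Type u} [CommRing A] [CommRing B] (φ : A →+* B) {𝔞 : Ideal A} {b : B}
    (hb : b ∈ nonZeroDivisors B) (e : 𝔞.map φ = Ideal.span {b}) :
    BlowUp.IsEffCartierIdeal ((idealSpec A 𝔞).comap (Spec.map (CommRingCat.ofHom φ))) := by
  rw [Groth.Agent.S3873.result, e]
  intro x
  refine ⟨topAff B, trivial, (Scheme.ΓSpecIso (CommRingCat.of B)).inv b, ?_, ?_⟩
  · have hi : Function.Bijective (Scheme.ΓSpecIso (CommRingCat.of B)).inv :=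
      ConcreteCategory.bijective_of_isIso (Scheme.ΓSpecIso (CommRingCat.of B)).inv
    rw [mem_nonZeroDivisors_iff_right] at hb ⊢
    intro x hx
    obtain ⟨y, rfl⟩ := hi.2 x
    have : y * b = 0 := by
      apply hi.1
      rw [map_mul, map_zero]
      exact hx
    rw [hb y this, map_zero]
  · rw [ideal_idealSpec_top, Ideal.map_span, Set.image_singleton]

/-- Near every point an invertible ideal sheaf generated by global sections becomes principal on the ring of global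
sections. -/
theorem exists_restrict_span (h : 𝔜.IsFormal) (𝔟 : Ideal (GS h)) (hinv : (gn (O := 𝔜.Osh h) 𝔟).IsInvertible)
    (y : 𝔜.X 0) (V₀ : (𝔜.X 0).Opens) (hy : y ∈ V₀) :
    ∃ (V : (𝔜.X 0).Opens), V ≤ V₀ ∧ y ∈ V ∧ ∃ b ∈ nonZeroDivisors (GS (isFormal_restrictOpen h V)),
      𝔟.map (gsMap (isFormal_restrictOpen h V) h (𝔜.restrictOpenι h V)) = Ideal.span {b} := by
  obtain ⟨V₁, hyV₁, a, ha, e⟩ := exists_span_of_isInvertible hinv y
  let V : (𝔜.X 0).Opens := V₁ ⊓ V₀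
  have hVV : V ≤ V₁ := inf_le_left
  refine ⟨V, inf_le_right, ⟨hyV₁, hy⟩, ?_⟩
  set hF := isFormal_restrictOpen h V
  set j := 𝔜.restrictOpenι h V
  have hj : OpenImm j := openImm_restrictOpenι h V
  have hrg : rg j hj = V := rg_restrictOpenι h V
  have hpre : pre j V = ⊤ := by
    rw [eq_top_iff]
    intro z _
    exact hrg.le (show ((j : Hom _ _).app 0) z ∈ rg j hj from ⟨z, rfl⟩)
  have ht : (⊤ : ((𝔜.restrictOpen h V).X 0).Opens) ≤ pre j V := hpre.ge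
  have haV : Nzd (𝔜.Osh h) V (rs (𝔜.Osh h) hVV a) := ha.res hVV
  have h1 : Nzd ((𝔜.restrictOpen h V).Osh hF) (pre j V) (sh hF j h V (rs (𝔜.Osh h) hVV a)) :=
    (nzd_sh_iff hF h hj hrg.ge _).2 haV
  refine ⟨rs ((𝔜.restrictOpen h V).Osh hF) ht (sh hF j h V (rs (𝔜.Osh h) hVV a)), ?_, ?_⟩
  · rw [mem_nonZeroDivisors_iff_right]
    exact (h1.res ht).self
  · have e1 : gsMap hF h j = ((rs ((𝔜.restrictOpen h V).Osh hF) ht).comp (sh hF j h V)).comp
        ((rs (𝔜.Osh h) hVV).comp (rs (𝔜.Osh h) (le_top : V₁ ≤ ⊤))) := by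
      ext s
      have e2 : rs (𝔜.Osh h) hVV (rs (𝔜.Osh h) (le_top : V₁ ≤ ⊤) s) = rs (𝔜.Osh h) (le_top : V ≤ ⊤) s := rs_rs _ _ _
      have e3 : sh hF j h V (rs (𝔜.Osh h) (le_top : V ≤ ⊤) s) =
        rs ((𝔜.restrictOpen h V).Osh hF) (show pre j V ≤ pre j ⊤ from le_top) (sh hF j h ⊤ s) := sh_res hF j h le_top s
      change sh hF j h ⊤ s = rs _ ht (sh hF j h V (rs (𝔜.Osh h) hVV (rs (𝔜.Osh h) (le_top : V₁ ≤ ⊤) s)))
      rw [e2, e3, rs_rs]
      exact (rs_self (O := (𝔜.restrictOpen h V).Osh hF) _ _).symm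
    rw [e1, ← Ideal.map_map, ← Ideal.map_map, ← Ideal.map_map, e, Ideal.map_span, Set.image_singleton,
      Ideal.map_span, Set.image_singleton, Ideal.map_span, Set.image_singleton]

section Main

variable {A : Type u} [CommRing A] {𝔞 : Ideal A} {P : Scheme.{u}} {q : P ⟶ Spec (CommRingCat.of A)}

theorem fam_uniq (hq : BlowUp.IsBlowUp q (idealSpec A 𝔞)) (h : 𝔜.IsFormal) (w : 𝔜 ⟶ cst (Spec (CommRingCat.of A)))
    (hinv : (schIdealMap 𝔜 h (fm w) (fam_compat w) (IdealSh.ofData (idealSpec A 𝔞))).IsInvertible)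
    (k₁ k₂ : 𝔜 ⟶ cst P) (e₁ : k₁ ≫ cstMap q = w) (e₂ : k₂ ≫ cstMap q = w) : k₁ = k₂ := by
  refine hom_ext_local h k₁ k₂ fun y => ?_
  obtain ⟨W₁, hW₁, hy₁, -⟩ := Opens.isBasis_iff_nbhd.mp P.isBasis_affineOpens
    (show fm k₁ 0 y ∈ (⊤ : P.Opens) from trivial)
  obtain ⟨W₂, hW₂, hy₂, -⟩ := Opens.isBasis_iff_nbhd.mp P.isBasis_affineOpens
    (show fm k₂ 0 y ∈ (⊤ : P.Opens) from trivial)
  rw [schIdealMap_eq_gn] at hinv
  obtain ⟨V, hV, hyV, b, hb, e⟩ := exists_restrict_span h _ hinv y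
    ((fm k₁ 0 ⁻¹ᵁ W₁) ⊓ (fm k₂ 0 ⁻¹ᵁ W₂)) ⟨hy₁, hy₂⟩
  set hF := isFormal_restrictOpen h V
  set j := 𝔜.restrictOpenι h V
  have hj : OpenImm j := openImm_restrictOpenι h V
  have hrg : rg j hj = V := rg_restrictOpenι h V
  refine ⟨_, hF, j, hj, hrg.ge hyV, ?_⟩
  have hmem : ∀ z : (𝔜.restrictOpen h V).X 0, ((j : Hom _ _).app 0) z ∈ V := fun z =>
    hrg.le (show ((j : Hom _ _).app 0) z ∈ rg j hj from ⟨z, rfl⟩)
  obtain ⟨m₁, hm₁⟩ := exists_factor_kap hF (j ≫ k₁) hW₁ fun z => (hV (hmem z)).1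
  obtain ⟨m₂, hm₂⟩ := exists_factor_kap hF (j ≫ k₂) hW₂ fun z => (hV (hmem z)).2
  have hs : ∀ n, kap hF n ≫ Spec.map (CommRingCat.ofHom
      ((gsMap hF h j).comp (sg h (fm w) (fam_compat w)))) = fm (j ≫ w) n := by
    intro n
    rw [CommRingCat.ofHom_comp, Spec.map_comp, ← Category.assoc, kap_gsMap, Category.assoc, kap_sg]
    rfl
  have g₁ : m₁ ≫ q = Spec.map (CommRingCat.ofHom
      ((gsMap hF h j).comp (sg h (fm w) (fam_compat w)))) := by
    refine kap_cancel hF fun n => ?_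
    rw [hs, ← Category.assoc, hm₁, ← e₁]
    rfl
  have g₂ : m₂ ≫ q = Spec.map (CommRingCat.ofHom
      ((gsMap hF h j).comp (sg h (fm w) (fam_compat w)))) := by
    refine kap_cancel hF fun n => ?_
    rw [hs, ← Category.assoc, hm₂, ← e₂]
    rfl
  have hE := isEff_comap_of_span ((gsMap hF h j).comp (sg h (fm w) (fam_compat w))) (𝔞 := 𝔞) hb
    (by rw [← Ideal.map_map]; exact e)
  have hm : m₁ = m₂ := (hq.2 _ _ hE).unique g₁ g₂
  apply Hom.ext
  funext n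
  exact ((hm₁ n).symm.trans (congrArg (fun t => kap hF n ≫ t) hm)).trans (hm₂ n)

theorem idealMap_schIdealMap (h𝔛 : 𝔛.IsFormal) (h𝔜 : 𝔜.IsFormal) (f : 𝔛 ⟶ 𝔜) (p : ∀ n, 𝔜.X n ⟶ Spec (CommRingCat.of A))
    (hp : ∀ n, 𝔜.ι n ≫ p (n + 1) = p n) (w : ∀ n, 𝔛.X n ⟶ Spec (CommRingCat.of A))
    (hw : ∀ n, 𝔛.ι n ≫ w (n + 1) = w n) (hpw : ∀ n, (f : Hom 𝔛 𝔜).app n ≫ p n = w n) (𝔞 : Ideal A) :
    idealMap f h𝔛 h𝔜 (schIdealMap 𝔜 h𝔜 p hp (IdealSh.ofData (idealSpec A 𝔞))) =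
      schIdealMap 𝔛 h𝔛 w hw (IdealSh.ofData (idealSpec A 𝔞)) := by
  rw [schIdealMap_eq_gn, schIdealMap_eq_gn, idealMap_gn, sg_comp h𝔛 h𝔜 f p hp w hw hpw]
  exact congrArg _ (Ideal.map_map (sg h𝔜 p hp) (gsMap h𝔛 h𝔜 f))

theorem fam_existsUnique (hq : BlowUp.IsBlowUp q (idealSpec A 𝔞)) (h : 𝔜.IsFormal) (w : 𝔜 ⟶ cst (Spec (CommRingCat.of A)))
    (hinv : (schIdealMap 𝔜 h (fm w) (fam_compat w) (IdealSh.ofData (idealSpec A 𝔞))).IsInvertible) :
    ∃! k : 𝔜 ⟶ cst P, k ≫ cstMap q = w := by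
  refine existsUnique_lift_sys h (cstMap q) w (fun 𝔚 h𝔚 j hj k₁ k₂ e₁ e₂ => ?_) fun y => ?_
  · refine fam_uniq hq h𝔚 (j ≫ w) ?_ k₁ k₂ e₁ e₂
    rw [← idealMap_schIdealMap h𝔚 h j (fm w) (fam_compat w) (fm (j ≫ w)) (fam_compat _) (fun n => rfl)]
    exact isInvertible_idealMap h𝔚 h hj hinv
  · rw [schIdealMap_eq_gn] at hinv
    obtain ⟨V, hV, hyV, b, hb, e⟩ := exists_restrict_span h _ hinv y ⊤ trivial
    set hF := isFormal_restrictOpen h V
    set j := 𝔜.restrictOpenι h V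
    have hj : OpenImm j := openImm_restrictOpenι h V
    have hrg : rg j hj = V := rg_restrictOpenι h V
    refine ⟨_, hF, j, hj, hrg.ge hyV, ?_⟩
    have hs : ∀ n, kap hF n ≫ Spec.map (CommRingCat.ofHom
        ((gsMap hF h j).comp (sg h (fm w) (fam_compat w)))) = fm (j ≫ w) n := by
      intro n
      rw [CommRingCat.ofHom_comp, Spec.map_comp, ← Category.assoc, kap_gsMap, Category.assoc, kap_sg]
      rfl
    have hE := isEff_comap_of_span ((gsMap hF h j).comp (sg h (fm w) (fam_compat w))) (𝔞 := 𝔞) hb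
      (by rw [← Ideal.map_map]; exact e)
    obtain ⟨m, hm, -⟩ := hq.2 _ _ hE
    refine ⟨fam (fun n => kap hF n ≫ m) (fun n => by rw [← Category.assoc, ι_kap]), ?_⟩
    apply Hom.ext
    funext n
    refine Eq.trans ?_ (hs n)
    change (kap hF n ≫ m) ≫ q = _
    rw [Category.assoc, hm]

/-- The universal property of the base change of a scheme-theoretic blow-up to a formal system. -/
theorem existsUnique_lift (hq : BlowUp.IsBlowUp q (idealSpec A 𝔞)) (h𝔛 : 𝔛.IsFormal)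
    (p : ∀ n, 𝔛.X n ⟶ Spec (CommRingCat.of A)) (hp : ∀ n, 𝔛.ι n ≫ p (n + 1) = p n)
    (r : ∀ n, ℨ.X n ⟶ P) (hr : ∀ n, ℨ.ι n ≫ r (n + 1) = r n) (b : ℨ ⟶ 𝔛)
    (hpb : ∀ n, IsPullback (r n) ((b : Hom ℨ 𝔛).app n) q (p n))
    (h𝔜 : 𝔜.IsFormal) (g : 𝔜 ⟶ 𝔛)
    (hinv : (idealMap g h𝔜 h𝔛 (schIdealMap 𝔛 h𝔛 p hp (IdealSh.ofData (idealSpec A 𝔞)))).IsInvertible) :
    ∃! k : 𝔜 ⟶ ℨ, k ≫ b = g := by
  have hinv' := hinv
  rw [idealMap_schIdealMap h𝔜 h𝔛 g p hp (fm (g ≫ fam p hp)) (fam_compat _) (fun n => rfl)]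
    at hinv'
  obtain ⟨k, hk, huniq⟩ := fam_existsUnique hq h𝔜 (g ≫ fam p hp) hinv'
  have hkn : ∀ n, fm k n ≫ q = (g : Hom 𝔜 𝔛).app n ≫ p n := fun n =>
    congrArg (fun t : Hom _ _ => t.app n) hk
  have hkc : ∀ n, 𝔜.ι n ≫ fm k (n + 1) = fm k n := fam_compat k
  refine ⟨⟨fun n => (hpb n).lift _ _ (hkn n), fun n => ?_⟩, ?_, fun l hl => ?_⟩
  · apply (hpb (n + 1)).hom_ext
    · rw [Category.assoc, hr, IsPullback.lift_fst, Category.assoc, IsPullback.lift_fst, hkc]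
    · rw [Category.assoc, ← (b : Hom ℨ 𝔛).comm n, IsPullback.lift_snd_assoc, Category.assoc, IsPullback.lift_snd,
        (g : Hom 𝔜 𝔛).comm n]
  · apply Hom.ext
    funext n
    exact IsPullback.lift_snd _ _ _ _
  · apply Hom.ext
    funext n
    apply (hpb n).hom_ext
    · rw [IsPullback.lift_fst]
      have := huniq (l ≫ fam r hr) (by
        rw [← hl]
        apply Hom.ext
        funext n
        change ((l : Hom 𝔜 ℨ).app n ≫ r n) ≫ q = ((l : Hom 𝔜 ℨ).app n ≫ (b : Hom ℨ 𝔛).app n) ≫ p n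
        rw [Category.assoc, (hpb n).w, Category.assoc])
      exact congrArg (fun t : Hom _ _ => t.app n) this
    · rw [IsPullback.lift_snd]
      exact congrArg (fun t : Hom _ _ => t.app n) hl

end Main

end K788.UP
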